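import Groth.Agent.ModStalk.FinitePresentation

/-! The structure sheaf is quasi-coherent (indeed finitely presented). -/

set_option autoImplicit false
universe u

open CategoryTheory CategoryTheory.Limits AlgebraicGeometry SheafOfModules

namespace Groth.Agent.ModStalk

section Site

universe v₁ u₁

variable {C : Type u₁} [Category.{v₁} C] {J : GrothendieckTopology C} {R : Sheaf J RingCat.{u}}
  [HasSheafify J AddCommGrpCat.{u}] [J.WEqualsLocallyBijective AddCommGrpCat.{u}]

noncomputable def unitPresentation : (SheafOfModules.unit R).Presentation := by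
  let g : free (R := R) PUnit.{u + 1} ⟶ SheafOfModules.unit R :=
    Cofan.IsColimit.desc (isColimitFreeCofan PUnit.{u + 1}) fun _ => 𝟙 _
  have hι : ∀ i, ιFree (R := R) i ≫ g = 𝟙 _ := fun i =>
    Cofan.IsColimit.fac (isColimitFreeCofan PUnit.{u + 1}) _ i
  have h' : g ≫ ιFree PUnit.unit = 𝟙 _ := Cofan.IsColimit.hom_ext (isColimitFreeCofan _) _ _ fun i => by
    show ιFree i ≫ g ≫ ιFree PUnit.unit = ιFree i ≫ 𝟙 _
    rw [← Category.assoc, hι, Category.id_comp, Category.comp_id]
  exact presentationOfIsCokernelFree (0 : free (R := R) PEmpty.{u + 1} ⟶ _) g zero_comp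
    (CokernelCofork.IsColimit.ofπ g _ (fun {Z} k _ => ιFree PUnit.unit ≫ k)
      (fun {Z} k _ => by rw [← Category.assoc, h', Category.id_comp])
      (fun {Z} k _ m hm => by rw [← hm, ← Category.assoc, hι, Category.id_comp]))

end Site

instance isQuasicoherent_unit (X : Scheme.{u}) :
    Coh.IsQCoh (Coh.structureModule X) :=
  (unitPresentation (R := X.ringCatSheaf)).isQuasicoherent

end Groth.Agent.ModStalk
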