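import Groth.Agent.ModStalk.PullbackQCoh
import Groth.Prelude.Def_FlatMod2
import Groth.Agent.Flat.FlatAt
import Mathlib.AlgebraicGeometry.Morphisms.Preimmersion

/-! Local rings of fibre products and flatness of pulled back modules over the base. -/

set_option autoImplicit false
set_option linter.style.haveILetI false
universe u

open CategoryTheory CategoryTheory.Limits AlgebraicGeometry
open scoped TensorProduct

namespace Groth.Agent.ModStalk

/-- Local rings of fibre products of charts by monomorphisms. -/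
theorem exists_localization_of_mono {X S X' S' : Scheme.{u}} {f : X ⟶ S} {g : S' ⟶ S} {f' : X' ⟶ S'}
    {g' : X' ⟶ X} (h : IsPullback g' f' f g) (x' : X') (R A R' : CommRingCat.{u}) [Algebra R A] [Algebra R R']
    (k : Spec R ⟶ S) [Mono k] (jA : Spec A ⟶ X) [Mono jA] (jR : Spec R' ⟶ S') [Mono jR]
    (hA : Spec.map (CommRingCat.ofHom (algebraMap R A)) ≫ k = jA ≫ f)
    (hR : Spec.map (CommRingCat.ofHom (algebraMap R R')) ≫ k = jR ≫ g)
    (α : A ⟶ X'.presheaf.stalk x') (β : R' ⟶ X'.presheaf.stalk x')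
    (hαj : Spec.map α ≫ jA = X'.fromSpecStalk x' ≫ g') (hβj : Spec.map β ≫ jR = X'.fromSpecStalk x' ≫ f') :
    ∃ φ : A ⊗[R] R' →+* X'.presheaf.stalk x',
      (∀ a, φ (a ⊗ₜ 1) = α a) ∧ (∀ r, φ (1 ⊗ₜ r) = β r) ∧
      letI := φ.toAlgebra
      ∃ Q : Ideal (A ⊗[R] R'), ∃ _ : Q.IsPrime, IsLocalization.AtPrime (X'.presheaf.stalk x') Q := by
  let a := Spec.map (CommRingCat.ofHom (algebraMap R A))
  let a' := Spec.map (CommRingCat.ofHom (algebraMap R R'))
  have hcomp : CommRingCat.ofHom (algebraMap R A) ≫ α = CommRingCat.ofHom (algebraMap R R') ≫ β := by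
    apply Spec.map_injective
    rw [Spec.map_comp, Spec.map_comp, ← cancel_mono k, Category.assoc, Category.assoc, hA, hR,
      ← Category.assoc, ← Category.assoc, hαj, hβj, Category.assoc, Category.assoc, h.w]
  letI : Algebra R (X'.presheaf.stalk x') := (CommRingCat.ofHom (algebraMap R A) ≫ α).hom.toAlgebra
  let φA : A →ₐ[R] (X'.presheaf.stalk x') := { α.hom with commutes' := fun r => rfl }
  let φR : R' →ₐ[R] (X'.presheaf.stalk x') := { β.hom with commutes' := fun r => (DFunLike.congr_fun (congrArg CommRingCat.Hom.hom hcomp) r).symm }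
  let φ : A ⊗[R] R' →+* (X'.presheaf.stalk x') := (Algebra.TensorProduct.lift φA φR fun _ _ => Commute.all _ _).toRingHom
  have hφl : ∀ c, φ (c ⊗ₜ 1) = α c := fun c => by
    show φA c * φR 1 = α c
    rw [map_one, mul_one]
    rfl
  have hφr : ∀ c, φ (1 ⊗ₜ c) = β c := fun c => by
    show φA 1 * φR c = β c
    rw [map_one, one_mul]
    rfl
  refine ⟨φ, hφl, hφr, ?_⟩
  letI : Algebra (A ⊗[R] R') (X'.presheaf.stalk x') := φ.toAlgebra
  let e := pullbackSpecIso R A R'
  let m₀ : pullback a a' ⟶ X' := h.lift (pullback.fst a a' ≫ jA) (pullback.snd a a' ≫ jR)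
    (by rw [Category.assoc, Category.assoc, ← hA, ← hR, pullback.condition_assoc])
  have : Mono m₀ := by
    constructor
    intro W p q hpq
    apply pullback.hom_ext
    · have h1 := congrArg (· ≫ g') hpq
      simp only [Category.assoc, m₀, h.lift_fst] at h1
      exact (cancel_mono jA).mp (by simpa only [Category.assoc] using h1)
    · have h1 := congrArg (· ≫ f') hpq
      simp only [Category.assoc, m₀, h.lift_snd] at h1
      exact (cancel_mono jR).mp (by simpa only [Category.assoc] using h1)
  let m : Spec (.of (A ⊗[R] R')) ⟶ X' := e.inv ≫ m₀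
  have : Mono m := mono_comp _ _
  have hm : Spec.map (CommRingCat.ofHom φ) ≫ m = X'.fromSpecStalk x' := by
    apply h.hom_ext
    · rw [← hαj, Category.assoc, Category.assoc, h.lift_fst, ← Category.assoc e.inv, pullbackSpecIso_inv_fst,
        ← Category.assoc, ← Spec.map_comp]
      congr 2
      ext c
      exact hφl c
    · rw [← hβj, Category.assoc, Category.assoc, h.lift_snd, ← Category.assoc e.inv, pullbackSpecIso_inv_snd,
        ← Category.assoc, ← Spec.map_comp]
      congr 2
      ext c
      exact hφr c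
  let Q : Ideal (A ⊗[R] R') := (IsLocalRing.maximalIdeal (X'.presheaf.stalk x')).comap φ
  have hQ : Q.IsPrime := inferInstanceAs ((IsLocalRing.maximalIdeal (X'.presheaf.stalk x')).comap φ).IsPrime
  let CQ := Localization.AtPrime Q
  let ι : A ⊗[R] R' →+* CQ := algebraMap _ _
  let n : Spec (.of CQ) ⟶ X' := Spec.map (CommRingCat.ofHom ι) ≫ m
  have hn : n (IsLocalRing.closedPoint CQ) = x' := by
    have h1 : Spec.map (CommRingCat.ofHom ι) (IsLocalRing.closedPoint CQ) =
        Spec.map (CommRingCat.ofHom φ) (IsLocalRing.closedPoint (X'.presheaf.stalk x')) :=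
      PrimeSpectrum.ext ((IsLocalization.AtPrime.under_maximalIdeal CQ Q).trans rfl)
    show (Spec.map (CommRingCat.ofHom ι) ≫ m) (IsLocalRing.closedPoint CQ) = x'
    rw [Scheme.Hom.comp_apply, h1, ← Scheme.Hom.comp_apply, hm, Scheme.fromSpecStalk_closedPoint]
  let χ : (X'.presheaf.stalk x') ⟶ .of CQ := X'.presheaf.stalkSpecializes (specializes_of_eq hn) ≫ Scheme.stalkClosedPointTo n
  have hχ : Spec.map χ ≫ X'.fromSpecStalk x' = n := by
    rw [Spec.map_comp, Category.assoc, Scheme.SpecMap_stalkSpecializes_fromSpecStalk]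
    exact Scheme.Spec_stalkClosedPointTo_fromSpecStalk n
  have hχφ : CommRingCat.ofHom φ ≫ χ = CommRingCat.ofHom ι := by
    apply Spec.map_injective
    rw [Spec.map_comp, ← cancel_mono m, Category.assoc, hm, hχ]
  have hunit : ∀ c : Q.primeCompl, IsUnit (φ c) := fun c => IsLocalRing.notMem_maximalIdeal.mp c.2
  let ψ : CQ →+* (X'.presheaf.stalk x') := IsLocalization.lift hunit
  have hψι : ψ.comp ι = φ := IsLocalization.lift_comp hunit
  have hψχ : χ ≫ CommRingCat.ofHom ψ = 𝟙 (X'.presheaf.stalk x') := by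
    apply Spec.map_injective
    rw [Spec.map_comp, Spec.map_id, ← cancel_mono (X'.fromSpecStalk x'), Category.assoc, hχ]
    erw [Category.id_comp]
    show Spec.map (CommRingCat.ofHom ψ) ≫ Spec.map (CommRingCat.ofHom ι) ≫ m = _
    rw [← Category.assoc, ← Spec.map_comp, ← CommRingCat.ofHom_comp, hψι]
    exact hm
  have hinv : χ.hom.comp ψ = RingHom.id CQ := by
    apply IsLocalization.ringHom_ext Q.primeCompl
    rw [RingHom.comp_assoc]
    erw [hψι]
    exact congrArg CommRingCat.Hom.hom hχφ
  let E : CQ ≃ₐ[A ⊗[R] R'] (X'.presheaf.stalk x') :=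
    { RingEquiv.ofRingHom ψ χ.hom (congrArg CommRingCat.Hom.hom hψχ) hinv with
      commutes' := fun c => RingHom.congr_fun hψι c }
  exact ⟨Q, hQ, IsLocalization.isLocalization_of_algEquiv Q.primeCompl E⟩

/-- A local ring of a fibre product is a localization of the tensor product of the local rings. -/
theorem exists_stalk_localization {X S X' S' : Scheme.{u}} {f : X ⟶ S} {g : S' ⟶ S} {f' : X' ⟶ S'}
    {g' : X' ⟶ X} (h : IsPullback g' f' f g) (x' : X') :
    letI := (f.stalkMap (g' x')).hom.toAlgebra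
    letI := (S.presheaf.stalkSpecializes (specializes_of_eq (show g (f' x') = f (g' x') by
      rw [← Scheme.Hom.comp_apply, ← h.w, Scheme.Hom.comp_apply])) ≫ g.stalkMap (f' x')).hom.toAlgebra
    ∃ φ : X.presheaf.stalk (g' x') ⊗[S.presheaf.stalk (f (g' x'))] S'.presheaf.stalk (f' x') →+*
        X'.presheaf.stalk x',
      (∀ a, φ (a ⊗ₜ 1) = g'.stalkMap x' a) ∧ (∀ r, φ (1 ⊗ₜ r) = f'.stalkMap x' r) ∧
      letI := φ.toAlgebra
      ∃ Q : Ideal (X.presheaf.stalk (g' x') ⊗[S.presheaf.stalk (f (g' x'))] S'.presheaf.stalk (f' x')),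
        ∃ _ : Q.IsPrime, IsLocalization.AtPrime (X'.presheaf.stalk x') Q := by
  letI := (f.stalkMap (g' x')).hom.toAlgebra
  letI := (S.presheaf.stalkSpecializes (specializes_of_eq (show g (f' x') = f (g' x') by
      rw [← Scheme.Hom.comp_apply, ← h.w, Scheme.Hom.comp_apply])) ≫ g.stalkMap (f' x')).hom.toAlgebra
  refine exists_localization_of_mono h x' (S.presheaf.stalk (f (g' x'))) (X.presheaf.stalk (g' x'))
    (S'.presheaf.stalk (f' x')) (S.fromSpecStalk (f (g' x'))) (X.fromSpecStalk (g' x'))
    (S'.fromSpecStalk (f' x')) ?_ ?_ (g'.stalkMap x') (f'.stalkMap x')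
    (Scheme.SpecMap_stalkMap_fromSpecStalk g') (Scheme.SpecMap_stalkMap_fromSpecStalk f')
  · rw [show CommRingCat.ofHom (algebraMap (S.presheaf.stalk (f (g' x'))) (X.presheaf.stalk (g' x'))) =
      f.stalkMap (g' x') from rfl]
    exact Scheme.SpecMap_stalkMap_fromSpecStalk f
  · rw [show CommRingCat.ofHom (algebraMap (S.presheaf.stalk (f (g' x'))) (S'.presheaf.stalk (f' x'))) =
      S.presheaf.stalkSpecializes _ ≫ g.stalkMap (f' x') from rfl, Spec.map_comp, Category.assoc]
    erw [Scheme.SpecMap_stalkSpecializes_fromSpecStalk]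
    exact Scheme.SpecMap_stalkMap_fromSpecStalk g

/-- Flatness over the base after base change, at a prime. -/
theorem flat_tensor_of_localization {R A R' K F : Type u} [CommRing R] [CommRing A] [CommRing R']
    [CommRing K] [Algebra R A] [Algebra R R'] [Algebra A K] [Algebra R' K]
    [AddCommGroup F] [Module A F] [Module R F] [IsScalarTower R A F] [Module.Flat R F]
    (φ : A ⊗[R] R' →+* K) (hl : ∀ a, φ (a ⊗ₜ 1) = algebraMap A K a)
    (hr : ∀ r, φ (1 ⊗ₜ r) = algebraMap R' K r) (Q : Ideal (A ⊗[R] R')) [Q.IsPrime]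
    (hK : @IsLocalization.AtPrime _ _ K _ φ.toAlgebra Q _) : Module.Flat R' (K ⊗[A] F) := by
  letI : Algebra R' (A ⊗[R] R') := Algebra.TensorProduct.rightAlgebra
  letI : Algebra (A ⊗[R] R') K := φ.toAlgebra
  haveI : IsScalarTower A (A ⊗[R] R') K := IsScalarTower.of_algebraMap_eq fun a => (hl a).symm
  haveI : IsScalarTower R' (A ⊗[R] R') K := IsScalarTower.of_algebraMap_eq fun a => (hr a).symm
  haveI : Algebra.IsPushout R R' A (A ⊗[R] R') := inferInstance
  let e := Algebra.IsPushout.cancelBaseChange R R' A (A ⊗[R] R') F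
  haveI : Module.Flat R' ((A ⊗[R] R') ⊗[A] F) := Module.Flat.of_linearEquiv e
  let W := (A ⊗[R] R') ⊗[A] F
  let g₀ : F →ₗ[A] K ⊗[A] F := TensorProduct.mk A K F 1
  let ℓ : W →ₗ[A ⊗[R] R'] K ⊗[A] F := g₀.liftBaseChange (A ⊗[R] R')
  have hb : IsBaseChange (A ⊗[R] R') (TensorProduct.mk A (A ⊗[R] R') F 1) := TensorProduct.isBaseChange A F _
  have hℓ : IsBaseChange K ℓ := IsBaseChange.of_comp hb (by
    have : (ℓ.restrictScalars A) ∘ₗ (TensorProduct.mk A (A ⊗[R] R') F 1) = g₀ := by
      ext v
      show g₀.liftBaseChange (A ⊗[R] R') ((1 : A ⊗[R] R') ⊗ₜ[A] v) = g₀ v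
      rw [LinearMap.liftBaseChange_tmul, one_smul]
    exact this ▸ TensorProduct.isBaseChange A F K)
  haveI := (isLocalizedModule_iff_isBaseChange Q.primeCompl K ℓ).mpr hℓ
  exact (Groth.Agent.Flat.FlatAt.flatAt_iff Q ℓ).mp
    (Groth.Agent.Flat.FlatAt.FlatAt.of_flat Q Ideal.IsPrime.ne_top')

/-- Descent of flatness over the base along a flat local base change. -/
theorem flat_of_flat_tensor {R A R' K F : Type u} [CommRing R] [CommRing A] [CommRing R']
    [CommRing K] [Algebra R A] [Algebra R R'] [Algebra A K] [Algebra R' K] [Algebra R K]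
    [IsScalarTower R A K] [IsScalarTower R R' K]
    [AddCommGroup F] [Module A F] [Module R F] [IsScalarTower R A F] [Module.Flat R R']
    [Module.FaithfullyFlat A K] [Module.Flat R' (K ⊗[A] F)] : Module.Flat R F := by
  haveI : IsScalarTower R R' (K ⊗[A] F) := inferInstance
  haveI : Module.Flat R (K ⊗[A] F) := Module.Flat.trans R R' _
  rw [Module.Flat.iff_rTensor_injective']
  intro I
  let g : F →ₗ[A] K ⊗[A] F := TensorProduct.mk A K F 1
  let gR : F →ₗ[R] K ⊗[A] F := g.restrictScalars R
  have h1 : Function.Injective (gR.lTensor I) := by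
    have h2 : Function.Injective (TensorProduct.mk A K (F ⊗[R] I) 1) :=
      Module.FaithfullyFlat.tensorProduct_mk_injective (A := A) (B := K) (F ⊗[R] I)
    let e := (TensorProduct.AlgebraTensorModule.assoc R A A K F I).symm
    have h3 : ∀ z, gR.rTensor I z = e (TensorProduct.mk A K (F ⊗[R] I) 1 z) := fun z => by
      induction z using TensorProduct.induction_on with
      | zero => simp
      | tmul v p => rfl
      | add a b ha hb => rw [map_add, map_add, map_add, ha, hb]
    have h4 : Function.Injective (gR.rTensor I) := fun a b hab =>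
      h2 (e.injective ((h3 a).symm.trans (hab.trans (h3 b))))
    intro a b hab
    apply (TensorProduct.comm R I F).injective
    apply h4
    have : gR.rTensor I ∘ₗ (TensorProduct.comm R I F).toLinearMap =
        (TensorProduct.comm R I (K ⊗[A] F)).toLinearMap ∘ₗ gR.lTensor I := by ext; rfl
    exact (LinearMap.congr_fun this a).trans ((congrArg _ hab).trans (LinearMap.congr_fun this b).symm)
  intro a b hab
  apply h1
  apply Module.Flat.rTensor_preserves_injective_linearMap (M := K ⊗[A] F) I.subtype (Submodule.injective_subtype I)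
  have hc : I.subtype.rTensor (K ⊗[A] F) ∘ₗ gR.lTensor I = gR.lTensor R ∘ₗ I.subtype.rTensor F := by
    rw [LinearMap.rTensor_comp_lTensor, LinearMap.lTensor_comp_rTensor]
  exact (LinearMap.congr_fun hc a).trans ((congrArg _ hab).trans (LinearMap.congr_fun hc b).symm)

variable {X S X' S' : Scheme.{u}} {f : X ⟶ S} {g : S' ⟶ S} {f' : X' ⟶ S'} {g' : X' ⟶ X}

/-- Flatness over the base is preserved by base change. -/
theorem isFlatOverAt_pullback (h : IsPullback g' f' f g) (F : X.Modules) (x' : X')
    (hf : FlatMod.IsFlatOverAt f F (g' x')) :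
    FlatMod.IsFlatOverAt f' ((Scheme.Modules.pullback g').obj F) x' := by
  letI := (f.stalkMap (g' x')).hom.toAlgebra
  letI := (S.presheaf.stalkSpecializes (specializes_of_eq (show g (f' x') = f (g' x') by
      rw [← Scheme.Hom.comp_apply, ← h.w, Scheme.Hom.comp_apply])) ≫ g.stalkMap (f' x')).hom.toAlgebra
  obtain ⟨φ, hl, hr, Q, hQ, hK⟩ := exists_stalk_localization h x'
  letI := (g'.stalkMap x').hom.toAlgebra
  letI := (f'.stalkMap x').hom.toAlgebra
  letI := FlatMod.moduleStalkOver f F (g' x')
  haveI : IsScalarTower (S.presheaf.stalk (f (g' x'))) (X.presheaf.stalk (g' x')) (F.presheaf.stalk (g' x')) :=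
    IsScalarTower.of_algebraMap_smul fun _ _ => rfl
  haveI : Module.Flat (S.presheaf.stalk (f (g' x'))) (F.presheaf.stalk (g' x')) := hf
  have hfl := flat_tensor_of_localization (F := F.presheaf.stalk (g' x')) φ hl hr Q hK
  obtain ⟨e, -⟩ := exists_pullStalk_equiv g' F x'
  letI := FlatMod.moduleStalkOver f' ((Scheme.Modules.pullback g').obj F) x'
  let e' : ((Scheme.Modules.pullback g').obj F).presheaf.stalk x' ≃ₗ[S'.presheaf.stalk (f' x')]
      (X'.presheaf.stalk x' ⊗[X.presheaf.stalk (g' x')] F.presheaf.stalk (g' x')) :=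
    { e.toAddEquiv with
      map_smul' := fun r v => by
        refine (map_smul e (f'.stalkMap x' r) v).trans ?_
        exact IsScalarTower.algebraMap_smul (X'.presheaf.stalk x') r (e v) }
  exact Module.Flat.of_linearEquiv e'

/-- Flatness over the base descends along a flat base change. -/
theorem isFlatOverAt_of_pullback (h : IsPullback g' f' f g) (F : X.Modules) (x' : X')
    (hg : (g.stalkMap (f' x')).hom.Flat)
    (hf : FlatMod.IsFlatOverAt f' ((Scheme.Modules.pullback g').obj F) x') :
    FlatMod.IsFlatOverAt f F (g' x') := by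
  letI := (f.stalkMap (g' x')).hom.toAlgebra
  letI := (S.presheaf.stalkSpecializes (specializes_of_eq (show g (f' x') = f (g' x') by
      rw [← Scheme.Hom.comp_apply, ← h.w, Scheme.Hom.comp_apply])) ≫ g.stalkMap (f' x')).hom.toAlgebra
  obtain ⟨φ, hl, hr, Q, hQ, hK⟩ := exists_stalk_localization h x'
  letI := (g'.stalkMap x').hom.toAlgebra
  letI := (f'.stalkMap x').hom.toAlgebra
  letI := FlatMod.moduleStalkOver f F (g' x')
  let R := S.presheaf.stalk (f (g' x'))
  let A := X.presheaf.stalk (g' x')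
  let R' := S'.presheaf.stalk (f' x')
  let K := X'.presheaf.stalk x'
  haveI : IsScalarTower R A (F.presheaf.stalk (g' x')) := IsScalarTower.of_algebraMap_smul fun _ _ => rfl
  haveI : Module.Flat R R' := by
    show (S.presheaf.stalkSpecializes _ ≫ g.stalkMap (f' x')).hom.Flat
    rw [CommRingCat.hom_comp]
    refine RingHom.Flat.comp ?_ hg
    exact RingHom.Flat.of_bijective (ConcreteCategory.bijective_of_isIso
      (S.presheaf.stalkCongr (Inseparable.of_eq (show f (g' x') = g (f' x') by
        rw [← Scheme.Hom.comp_apply, h.w, Scheme.Hom.comp_apply]))).hom)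
  letI : Algebra (A ⊗[R] R') K := φ.toAlgebra
  haveI := hK
  haveI : IsScalarTower A (A ⊗[R] R') K := IsScalarTower.of_algebraMap_eq fun a => (hl a).symm
  haveI : Module.Flat (A ⊗[R] R') K := IsLocalization.flat K Q.primeCompl
  haveI : Module.Flat A K := Module.Flat.trans A (A ⊗[R] R') K
  haveI : IsLocalHom (algebraMap A K) := inferInstanceAs (IsLocalHom (g'.stalkMap x').hom)
  haveI : Module.FaithfullyFlat A K := Module.FaithfullyFlat.of_flat_of_isLocalHom
  letI : Algebra R K := ((algebraMap A K).comp (algebraMap R A)).toAlgebra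
  haveI : IsScalarTower R A K := IsScalarTower.of_algebraMap_eq fun _ => rfl
  haveI : IsScalarTower R R' K := IsScalarTower.of_algebraMap_eq fun r => by
    show algebraMap A K (algebraMap R A r) = algebraMap R' K (algebraMap R R' r)
    refine (hl _).symm.trans (Eq.trans ?_ (hr _))
    rw [Algebra.algebraMap_eq_smul_one, Algebra.algebraMap_eq_smul_one, TensorProduct.smul_tmul]
  obtain ⟨e, -⟩ := exists_pullStalk_equiv g' F x'
  letI := FlatMod.moduleStalkOver f' ((Scheme.Modules.pullback g').obj F) x'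
  haveI : Module.Flat R' (((Scheme.Modules.pullback g').obj F).presheaf.stalk x') := hf
  let e' : ((Scheme.Modules.pullback g').obj F).presheaf.stalk x' ≃ₗ[R']
      (K ⊗[A] F.presheaf.stalk (g' x')) :=
    { e.toAddEquiv with
      map_smul' := fun r v => by
        refine (map_smul e (f'.stalkMap x' r) v).trans ?_
        exact IsScalarTower.algebraMap_smul (X'.presheaf.stalk x') r (e v) }
  haveI : Module.Flat R' (K ⊗[A] F.presheaf.stalk (g' x')) := Module.Flat.of_linearEquiv e'.symm
  exact flat_of_flat_tensor (R := R) (A := A) (R' := R') (K := K)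

end Groth.Agent.ModStalk
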