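import Groth.Agent.ModStalk.FiniteType

/-! Coherent modules on locally Noetherian schemes are finitely presented. -/

set_option autoImplicit false
universe u

open CategoryTheory CategoryTheory.Limits AlgebraicGeometry Opposite TopologicalSpace SheafOfModules

namespace Groth.Agent.ModStalk

section Site

universe v₁ u₁ v₂ u₂

variable {C : Type u₁} [Category.{v₁} C] {J : GrothendieckTopology C} {R : Sheaf J RingCat.{u}}
  [HasSheafify J AddCommGrpCat.{u}] [J.WEqualsLocallyBijective AddCommGrpCat.{u}]
  {C' : Type u₂} [Category.{v₂} C'] {J' : GrothendieckTopology C'} {S : Sheaf J' RingCat.{u}}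
  [HasSheafify J' AddCommGrpCat.{u}] [J'.WEqualsLocallyBijective AddCommGrpCat.{u}]

/-- Presentations transport along isomorphisms. -/
noncomputable abbrev presIso {M N : SheafOfModules.{u} R} (e : M ≅ N) (P : M.Presentation) : N.Presentation :=
  SheafOfModules.Presentation.ofIsIso e.hom P

/-- Presentations transport along equivalences preserving the unit. -/
noncomputable abbrev presEquiv (E : SheafOfModules.{u} R ≌ SheafOfModules.{u} S)
    (η : SheafOfModules.unit S ≅ E.functor.obj (SheafOfModules.unit R)) {M : SheafOfModules.{u} R}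
    (P : M.Presentation) : (E.functor.obj M).Presentation :=
  haveI : PreservesColimitsOfSize.{u, u} E.functor := E.toAdjunction.leftAdjoint_preservesColimits
  P.map E.functor η

end Site

variable {X : Scheme.{u}} (M : X.Modules) [M.IsQuasicoherent]
  [SheafOfModules.IsFiniteType (R := X.ringCatSheaf) M]

theorem exists_finite_presentation_over {U : X.Opens} (hU : IsAffineOpen U) [IsNoetherianRing Γ(X, U)] :
    ∃ P : (SheafOfModules.over (R := X.ringCatSheaf) M U).Presentation,
      Finite P.generators.I ∧ Finite P.relations.I := by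
  classical
  let N := M.restrict hU.fromSpec
  let L : ModuleCat Γ(X, U) := moduleSpecΓFunctor.obj N
  have hT : hU.fromSpec ''ᵁ ⊤ = U := by
    rw [Scheme.Hom.image_top_eq_opensRange, hU.opensRange_fromSpec]
  let e : Γ(M, U) → Γ(N, ⊤) := fun a =>
    (M.restrictAppIso hU.fromSpec ⊤).inv (M.presheaf.map (homOfLE hT.le).op a)
  have he : ∀ b : L, ∃ a, e a = b := fun b => by
    refine ⟨M.presheaf.map (homOfLE hT.ge).op ((M.restrictAppIso hU.fromSpec ⊤).hom b), ?_⟩
    show (M.restrictAppIso hU.fromSpec ⊤).inv _ = b
    rw [res_res, show (homOfLE (le_refl (hU.fromSpec ''ᵁ ⊤))).op = 𝟙 _ from rfl, CategoryTheory.Functor.map_id,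
      ConcreteCategory.id_apply]
    exact (M.restrictAppIso hU.fromSpec ⊤).hom_inv_id_apply b
  have hsmul : ∀ (r : Γ(X, U)) (a : Γ(M, U)), e (r • a) = r • e a := fun r a => by
    apply (M.restrictAppIso hU.fromSpec ⊤).addCommGroupIsoToAddEquiv.injective
    show (M.restrictAppIso hU.fromSpec ⊤).hom (e (r • a)) = (M.restrictAppIso hU.fromSpec ⊤).hom (r • e a)
    rw [smul_restrict_fromSpec M hU ⊤ hT.le]
    show M.presheaf.map (homOfLE hT.le).op (r • a) = _ • M.presheaf.map (homOfLE hT.le).op a
    exact Scheme.Modules.map_smul _ _ _ _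
  have := finite_sections hU M
  let e' : Γ(M, U) →ₗ[Γ(X, U)] L :=
    { toFun := e, map_add' := fun a b => by simp only [e, map_add]; rfl, map_smul' := hsmul }
  have : Module.Finite Γ(X, U) L := Module.Finite.of_surjective e' he
  obtain ⟨T, hTspan⟩ := Module.Finite.fg_top (R := Γ(X, U)) (M := L)
  let s : Set L := T
  obtain ⟨K, hK⟩ := IsNoetherian.noetherian
    (LinearMap.ker (Finsupp.linearCombination Γ(X, U) ((↑) : s → L)))
  have : N.IsQuasicoherent := Scheme.Modules.isQuasicoherent_restrictFunctor hU.fromSpec M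
  let P₀ : N.Presentation := presIso (@asIso _ _ _ _ N.fromTildeΓ (Scheme.Modules.isIso_fromTildeΓ_of_isQuasicoherent N))
    (presentationTilde L s hTspan (K : Set (s →₀ Γ(X, U))) hK)
  have hP₀ : Finite P₀.generators.I ∧ Finite P₀.relations.I :=
    ⟨inferInstanceAs (Finite (T : Set L)), inferInstanceAs (Finite (K : Set (s →₀ Γ(X, U))))⟩
  let i₁ : N.restrict hU.isoSpec.hom ≅ M.restrict U.ι :=
    ((Scheme.Modules.restrictFunctorComp hU.isoSpec.hom hU.fromSpec).app M).symm ≪≫
      (Scheme.Modules.restrictFunctorCongr hU.isoSpec_hom_fromSpec).app M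
  let P₁ : (M.restrict U.ι).Presentation :=
    presIso i₁
      (Scheme.Modules.presentationRestrict hU.isoSpec.hom P₀)
  let E := Scheme.Modules.overEquiv U
  let η : SheafOfModules.unit (X.ringCatSheaf.over U) ≅ E.inverse.obj (SheafOfModules.unit _) :=
    E.unitIso.app _ ≪≫ E.inverse.mapIso
      ((Scheme.Modules.overFunctorEquiv U).app (SheafOfModules.unit X.ringCatSheaf) ≪≫
        Scheme.Modules.restrictUnitIso U.ι)
  let i₂ : E.inverse.obj (M.restrict U.ι) ≅ SheafOfModules.over (R := X.ringCatSheaf) M U :=
    E.inverse.mapIso ((Scheme.Modules.overFunctorEquiv U).app M).symm ≪≫ (E.unitIso.app _).symm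
  refine ⟨presIso i₂ (presEquiv E.symm η P₁), ?_, ?_⟩
  · exact hP₀.1
  · exact hP₀.2

theorem isFinitePresentation_of_isLocallyNoetherian [IsLocallyNoetherian X] :
    SheafOfModules.IsFinitePresentation (R := X.ringCatSheaf) M := by
  have h : ∀ U : X.affineOpens, ∃ P : (SheafOfModules.over (R := X.ringCatSheaf) M U.1).Presentation,
      Finite P.generators.I ∧ Finite P.relations.I := fun U => by
    have := IsLocallyNoetherian.component_noetherian U
    exact exists_finite_presentation_over M U.2
  choose P hP using h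
  have hcov : (Opens.grothendieckTopology X).CoversTop (fun U : X.affineOpens => U.1) := by
    rw [Opens.coversTop_iff, IsOpenCover]
    exact eq_top_iff.mpr fun x _ => by
      obtain ⟨_, ⟨W, hW, rfl⟩, hxW, -⟩ :=
        X.isBasis_affineOpens.exists_subset_of_mem_open (Set.mem_univ x) isOpen_univ
      exact Opens.mem_iSup.mpr ⟨⟨W, hW⟩, hxW⟩
  let d : SheafOfModules.QuasicoherentData.{u} (R := X.ringCatSheaf) M :=
    { I := ↥X.affineOpens, X := fun U => U.1, coversTop := hcov, presentation := P }
  have hd : d.IsFinitePresentation :=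
    { isFinite_presentation := fun i =>
        { isFiniteType_generators := ⟨(hP i).1⟩, isFiniteType_relations := ⟨(hP i).2⟩ } }
  exact { exists_quasicoherentData := ⟨d, hd⟩ }

end Groth.Agent.ModStalk
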