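import Groth.Agent.ModStalk.Localization
import Groth.Prelude.Def_Coh
import Groth.Prelude.Def_CohB1

/-! Finite type from finitely many generating sections on affines; subsheaves of coherent sheaves. -/

set_option autoImplicit false
universe v v' u u'

open CategoryTheory CategoryTheory.Limits AlgebraicGeometry Opposite TopologicalSpace

namespace Groth.Agent.ModStalk

section Site

variable {C : Type u'} [Category.{v'} C] {J : GrothendieckTopology C} {R : Sheaf J RingCat.{u}}
  [HasSheafify J AddCommGrpCat.{u}] [J.WEqualsLocallyBijective AddCommGrpCat.{u}]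
  [J.HasSheafCompose (forget AddCommGrpCat.{u})]

open SheafOfModules in
/-- Combinations of the images of the generators are in the image. -/
theorem exists_app_eq_sum {I : Type u} [Fintype I] {M : SheafOfModules.{u} R} (φ : free I ⟶ M)
    (X : Cᵒᵖ) (r : I → R.obj.obj X) :
    ∃ t : (free (R := R) I).val.obj X, φ.val.app X t = ∑ i, r i • ((M.freeHomEquiv φ) i).eval X := by
  refine ⟨∑ i, r i • (freeSection (R := R) i).eval X, ?_⟩
  rw [map_sum]
  refine Finset.sum_congr rfl fun i _ => ?_
  rw [map_smul, freeHomEquiv_apply]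
  rfl

open SheafOfModules in
/-- A map from a finite free sheaf whose generators locally generate is an epimorphism. -/
theorem epi_of_exists_local_sum {I : Type u} [Fintype I] {M : SheafOfModules.{u} R} (φ : free I ⟶ M)
    (h : ∀ (X : C) (t : M.val.obj (op X)), ∃ S ∈ J X, ∀ ⦃Y : C⦄ (j : Y ⟶ X), S j →
      ∃ r : I → R.obj.obj (op Y),
        M.val.map j.op t = ∑ i, r i • ((M.freeHomEquiv φ) i).eval (op Y)) : Epi φ := by
  have : Sheaf.IsLocallySurjective ((SheafOfModules.toSheaf R).map φ) := by
    refine ⟨fun {X} t => ?_⟩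
    obtain ⟨S, hS, hr⟩ := h X t
    refine J.superset_covering (fun Y j hj => ?_) hS
    obtain ⟨r, hr'⟩ := hr j hj
    obtain ⟨a, ha⟩ := exists_app_eq_sum φ (op Y) r
    exact ⟨a, ha.trans hr'.symm⟩
  have : Epi ((SheafOfModules.toSheaf R).map φ) :=
    (Sheaf.isLocallySurjective_iff_epi' (φ := (SheafOfModules.toSheaf R).map φ)).mp this
  exact (SheafOfModules.toSheaf R).epi_of_epi_map this

end Site

variable {X : Scheme.{u}} (M : X.Modules)

theorem germ_sum {I : Type u} [Fintype I] {U W : X.Opens} (g : W ≤ U) (y : X)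
    (hy : y ∈ W) (r : I → Γ(X, W)) (s : I → Γ(M, U)) :
    M.presheaf.germ W y hy (∑ i, r i • M.presheaf.map (homOfLE g).op (s i)) =
      ∑ i, X.presheaf.germ W y hy (r i) • M.presheaf.germ U y (g hy) (s i) := by
  rw [map_sum]
  refine Finset.sum_congr rfl fun i _ => ?_
  rw [germ_smul, TopCat.Presheaf.germ_res_apply]

/-- Generators of all stalks generate sections locally. -/
theorem exists_local_coeff {U : X.Opens} {I : Type u} [Fintype I] (s : I → Γ(M, U))
    (h : ∀ (y : X) (hy : y ∈ U), Submodule.span (X.presheaf.stalk y)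
      (Set.range fun i => M.presheaf.germ U y hy (s i)) = ⊤)
    {W : X.Opens} (hW : W ≤ U) (t : Γ(M, W)) (y : X) (hy : y ∈ W) :
    ∃ (W' : X.Opens) (h' : W' ≤ W), y ∈ W' ∧ ∃ r : I → Γ(X, W'),
      M.presheaf.map (homOfLE h').op t = ∑ i, r i • M.presheaf.map (homOfLE (h'.trans hW)).op (s i) := by
  classical
  obtain ⟨a, ha⟩ := (Submodule.mem_span_range_iff_exists_fun (X.presheaf.stalk y)).mp
    ((h y (hW hy)).ge (Submodule.mem_top (x := M.presheaf.germ W y hy t)))
  choose V hV r hr using fun i => X.presheaf.exists_germ_eq (x := y) (a i)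
  let W₀ : X.Opens := W ⊓ Finset.univ.inf V
  have hy₀ : y ∈ W₀ := ⟨hy, (Finset.inf_induction (p := fun V : X.Opens => y ∈ V) trivial
    (fun _ h₁ _ h₂ => ⟨h₁, h₂⟩) fun i _ => hV i)⟩
  have hle : ∀ i, W₀ ≤ V i := fun i => inf_le_right.trans (Finset.inf_le (Finset.mem_univ i))
  let r₀ : I → Γ(X, W₀) := fun i => X.presheaf.map (homOfLE (hle i)).op (r i)
  have hg : M.presheaf.germ W₀ y hy₀ (M.presheaf.map (homOfLE (inf_le_left : W₀ ≤ W)).op t) =
      M.presheaf.germ W₀ y hy₀
        (∑ i, r₀ i • M.presheaf.map (homOfLE ((inf_le_left : W₀ ≤ W).trans hW)).op (s i)) := by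
    rw [germ_sum, TopCat.Presheaf.germ_res_apply, ← ha]
    refine Finset.sum_congr rfl fun i _ => ?_
    rw [TopCat.Presheaf.germ_res_apply, hr i]
  obtain ⟨W', hy', i₁, i₂, heq⟩ := M.presheaf.germ_eq y hy₀ hy₀ _ _ hg
  refine ⟨W', (leOfHom i₁).trans inf_le_left, hy', fun i => X.presheaf.map i₂.op (r₀ i), ?_⟩
  rw [map_sum] at heq
  refine (res_res M inf_le_left (leOfHom i₁) t).symm.trans (heq.trans (Finset.sum_congr rfl fun i _ => ?_))
  erw [Scheme.Modules.map_smul]
  congr 1
  exact res_res M _ (leOfHom i₂) (s i)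

/-- A module with finitely many stalkwise generating sections over `U` has finite generating sections there. -/
theorem exists_generatingSections {U : X.Opens} {I : Type u} [Fintype I] (s : I → Γ(M, U))
    (h : ∀ (y : X) (hy : y ∈ U), Submodule.span (X.presheaf.stalk y)
      (Set.range fun i => M.presheaf.germ U y hy (s i)) = ⊤) :
    ∃ σ : (SheafOfModules.over (R := X.ringCatSheaf) M U).GeneratingSections, σ.IsFiniteType := by
  let sec : I → (SheafOfModules.over (R := X.ringCatSheaf) M U).sections := fun i =>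
    PresheafOfModules.sectionsMk (fun W => M.presheaf.map W.unop.hom.op (s i)) fun {W W'} f => by
      exact res_res M (leOfHom W.unop.hom) (leOfHom f.unop.left) (s i)
  let φ := (SheafOfModules.over (R := X.ringCatSheaf) M U).freeHomEquiv.symm sec
  have hφ : Epi φ := by
    refine epi_of_exists_local_sum φ fun W t => ?_
    have hW : W.left ≤ U := leOfHom W.hom
    let S : Sieve W.left :=
      { arrows := fun V j => ∃ r : I → Γ(X, V), M.presheaf.map j.op t =
          ∑ i, r i • M.presheaf.map (homOfLE ((leOfHom j).trans hW)).op (s i)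
        downward_closed := by
          rintro V V' j ⟨r, hr⟩ k
          refine ⟨fun i => X.presheaf.map k.op (r i), ?_⟩
          refine ((res_res M (leOfHom j) (leOfHom k) t).symm.trans (congrArg (M.presheaf.map k.op) hr)).trans ?_
          rw [map_sum]
          refine Finset.sum_congr rfl fun i _ => ?_
          erw [Scheme.Modules.map_smul]
          congr 1
          exact res_res M _ (leOfHom k) (s i) }
    refine ⟨(Sieve.overEquiv W).symm S, ?_, fun V j hj => ?_⟩
    · apply GrothendieckTopology.overEquiv_symm_mem_over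
      intro y hy
      obtain ⟨W', h', hy', r, hr⟩ := exists_local_coeff M s h hW t y hy
      exact ⟨W', homOfLE h', ⟨r, hr⟩, hy'⟩
    · obtain ⟨r, hr⟩ := (Sieve.overEquiv_symm_iff _ _).mp hj
      refine ⟨r, hr.trans (Finset.sum_congr rfl fun i _ => ?_)⟩
      rw [show (SheafOfModules.over (R := X.ringCatSheaf) M U).freeHomEquiv φ = sec from
        Equiv.apply_symm_apply _ _]
      rfl
  exact ⟨⟨I, sec, hφ⟩, ⟨Finite.of_fintype I⟩⟩

/-- Finite type follows from finite generation of sections on affine opens, for quasi-coherent modules. -/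
theorem isFiniteType_of_finite [M.IsQuasicoherent]
    (h : ∀ U : X.affineOpens, Module.Finite Γ(X, U.1) Γ(M, U.1)) :
    SheafOfModules.IsFiniteType (R := X.ringCatSheaf) M := by
  have hgen : ∀ U : X.affineOpens,
      ∃ σ : (SheafOfModules.over (R := X.ringCatSheaf) M U.1).GeneratingSections, σ.IsFiniteType := by
    intro U
    obtain ⟨T, hT⟩ := (h U).1
    refine exists_generatingSections M (fun t : T => (t : Γ(M, U.1))) fun y hy => ?_
    refine Submodule.eq_top_iff'.mpr fun m => ?_
    obtain ⟨c, a, hc, ha⟩ := exists_smul_eq_germ M U.2 y hy m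
    have hu : IsUnit (X.presheaf.germ U.1 y hy c) := (Scheme.mem_basicOpen _ _ _ hy).mp hc
    rw [← one_smul (X.presheaf.stalk y) m, ← hu.val_inv_mul, mul_smul, ha]
    refine Submodule.smul_mem _ _ ?_
    have ha' : a ∈ Submodule.span Γ(X, U.1) (T : Set Γ(M, U.1)) := hT ▸ Submodule.mem_top
    clear ha
    induction ha' using Submodule.span_induction with
    | mem v hv => exact Submodule.subset_span ⟨⟨v, hv⟩, rfl⟩
    | zero => rw [map_zero]; exact Submodule.zero_mem _
    | add v w _ _ hv hw => rw [map_add]; exact Submodule.add_mem _ hv hw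
    | smul b v _ hv => rw [germ_smul]; exact Submodule.smul_mem _ _ hv
  choose σ hσ using hgen
  have hcov : (Opens.grothendieckTopology X).CoversTop (fun U : X.affineOpens => U.1) := by
    rw [Opens.coversTop_iff, IsOpenCover]
    exact eq_top_iff.mpr fun x _ => by
      obtain ⟨_, ⟨W, hW, rfl⟩, hxW, -⟩ :=
        X.isBasis_affineOpens.exists_subset_of_mem_open (Set.mem_univ x) isOpen_univ
      exact Opens.mem_iSup.mpr ⟨⟨W, hW⟩, hxW⟩
  let d : SheafOfModules.LocalGeneratorsData.{u} (R := X.ringCatSheaf) M :=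
    { I := ↥X.affineOpens, X := fun U => U.1, coversTop := hcov, generators := σ }
  have hd : d.IsFiniteType := { isFiniteType := hσ }
  exact { exists_localGeneratorsData := ⟨d, hd⟩ }

theorem injective_app_of_mono {N : X.Modules} (i : N ⟶ M) [Mono i] (U : X.Opens) :
    Function.Injective (i.app U) := by
  have : Mono ((Scheme.Modules.toPresheaf X).map i) := inferInstance
  have := NatTrans.mono_iff_mono_app ((Scheme.Modules.toPresheaf X).map i) |>.mp this (op U)
  exact (AddCommGrpCat.mono_iff_injective _).mp this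

end Groth.Agent.ModStalk
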