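import Groth.Agent.ModStalk.FinitePresentation
import Mathlib.AlgebraicGeometry.Morphisms.QuasiSeparated

/-! A criterion for quasi-coherence; sections over qcqs opens; pushforward. -/

set_option autoImplicit false
universe u

open CategoryTheory CategoryTheory.Limits AlgebraicGeometry Opposite TopologicalSpace

namespace Groth.Agent.ModStalk

variable {X : Scheme.{u}}

theorem res_self (M : X.Modules) {A : X.Opens} (h : A ≤ A) (a : Γ(M, A)) :
    M.presheaf.map (homOfLE h).op a = a := by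
  rw [show (homOfLE h).op = 𝟙 _ from rfl, CategoryTheory.Functor.map_id]; rfl

/-- A presentation on an affine open from the localization properties there. -/
theorem exists_presentation_over (M : X.Modules) {U : X.Opens} (hU : IsAffineOpen U)
    (hext : ∀ (g : Γ(X, U)) (t : Γ(M, X.basicOpen g)), ∃ (n : ℕ) (s : Γ(M, U)),
      M.presheaf.map (homOfLE (X.basicOpen_le g)).op s =
        X.presheaf.map (homOfLE (X.basicOpen_le g)).op g ^ n • t)
    (huniq : ∀ (g : Γ(X, U)) (s : Γ(M, U)),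
      M.presheaf.map (homOfLE (X.basicOpen_le g)).op s = 0 → ∃ n : ℕ, g ^ n • s = 0) :
    Nonempty (SheafOfModules.over (R := X.ringCatSheaf) M U).Presentation := by
  let N := M.restrict hU.fromSpec
  have hT : hU.fromSpec ''ᵁ ⊤ = U := by rw [Scheme.Hom.image_top_eq_opensRange, hU.opensRange_fromSpec]
  have hsmul : ∀ (r : Γ(X, U)) (s : Γ(N, ⊤)),
      M.presheaf.map (homOfLE hT.ge).op ((M.restrictAppIso hU.fromSpec ⊤).hom (r • s)) =
        r • M.presheaf.map (homOfLE hT.ge).op ((M.restrictAppIso hU.fromSpec ⊤).hom s) := by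
    intro r s
    rw [smul_restrict_fromSpec M hU ⊤ hT.le]
    erw [Scheme.Modules.map_smul, res_resX]
    rw [show (homOfLE (le_refl U)).op = 𝟙 _ from rfl, CategoryTheory.Functor.map_id]
    rfl
  have hloc : IsLocalizing (modulesSpecToSheaf.obj N) := by
    intro g
    have hD : hU.fromSpec ''ᵁ PrimeSpectrum.basicOpen g = X.basicOpen g := hU.fromSpec_image_basicOpen g
    let D : (Spec Γ(X, U)).Opens := PrimeSpectrum.basicOpen g
    have hdown : ∀ s : Γ(N, ⊤), M.presheaf.map (homOfLE hD.ge).op ((M.restrictAppIso hU.fromSpec D).hom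
        (N.presheaf.map (homOfLE (le_top : D ≤ ⊤)).op s)) =
        M.presheaf.map (homOfLE (X.basicOpen_le g)).op
          (M.presheaf.map (homOfLE hT.ge).op ((M.restrictAppIso hU.fromSpec ⊤).hom s)) := by
      intro s
      show M.presheaf.map (homOfLE hD.ge).op (M.presheaf.map (homOfLE (hU.fromSpec.image_mono le_top)).op
        ((M.restrictAppIso hU.fromSpec ⊤).hom s)) = _
      exact (res_res M _ _ _).trans (res_res M _ _ _).symm
    have hsurj : ∀ t : Γ(N, D), ∃ (n : ℕ) (s : Γ(N, ⊤)),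
        g ^ n • t = N.presheaf.map (homOfLE (le_top : D ≤ ⊤)).op s := by
      intro t
      obtain ⟨n, s, hs⟩ := hext g
        (M.presheaf.map (homOfLE hD.ge).op ((M.restrictAppIso hU.fromSpec D).hom t))
      refine ⟨n, (M.restrictAppIso hU.fromSpec ⊤).inv (M.presheaf.map (homOfLE hT.le).op s), ?_⟩
      apply (M.restrictAppIso hU.fromSpec D).addCommGroupIsoToAddEquiv.injective
      show (M.restrictAppIso hU.fromSpec D).hom (g ^ n • t) = (M.restrictAppIso hU.fromSpec D).hom
        (N.presheaf.map (homOfLE (le_top : D ≤ ⊤)).op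
          ((M.restrictAppIso hU.fromSpec ⊤).inv (M.presheaf.map (homOfLE hT.le).op s)))
      rw [smul_restrict_fromSpec M hU D (hD.le.trans (X.basicOpen_le g))]
      have h1 := congrArg (M.presheaf.map (homOfLE hD.le).op) hs
      erw [Scheme.Modules.map_smul, res_res, res_res, res_self] at h1
      rw [← map_pow] at h1
      erw [res_resX] at h1
      refine h1.symm.trans ?_
      show _ = M.presheaf.map (homOfLE (hU.fromSpec.image_mono le_top)).op (M.presheaf.map (homOfLE hT.le).op s)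
      exact (res_res M _ _ _).symm
    have hzero : ∀ a : Γ(N, ⊤), N.presheaf.map (homOfLE (le_top : D ≤ ⊤)).op a = 0 →
        ∃ n : ℕ, g ^ n • a = 0 := by
      intro a ha
      obtain ⟨n, hn⟩ := huniq g _ ((hdown a).symm.trans (by rw [ha, map_zero, map_zero]))
      refine ⟨n, ?_⟩
      have h2 := congrArg (M.presheaf.map (homOfLE hT.le).op) ((hsmul (g ^ n) a).trans hn)
      erw [res_res, res_self, map_zero] at h2
      apply (M.restrictAppIso hU.fromSpec ⊤).addCommGroupIsoToAddEquiv.injective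
      exact h2.trans (map_zero _).symm
    refine ⟨fun c => ?_, fun t => ?_, fun {a b} hab => ?_⟩
    · obtain ⟨_, n, rfl⟩ := c
      have h := (Scheme.Modules.isUnit_algebraMap_end_of_le_basicOpen (M := N) g (le_refl D)).pow n
      rw [← map_pow] at h
      exact h
    · obtain ⟨n, s, hs⟩ := hsurj t
      exact ⟨(s, ⟨g ^ n, n, rfl⟩), hs⟩
    · obtain ⟨n, hn⟩ := hzero (a - b) ((map_sub _ _ _).trans (sub_eq_zero.mpr hab))
      exact ⟨⟨g ^ n, n, rfl⟩, sub_eq_zero.mp ((smul_sub (g ^ n) a b).symm.trans hn)⟩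
  have hiso : IsIso N.fromTildeΓ := (AlgebraicGeometry.isIso_fromTildeΓ_iff_isLocalizing N).mpr hloc
  let L : ModuleCat Γ(X, U) := moduleSpecΓFunctor.obj N
  let P₀ : N.Presentation := presIso (@asIso _ _ _ _ N.fromTildeΓ hiso)
    (presentationTilde L .univ (by simp) _ (Submodule.span_eq _))
  let i₁ : N.restrict hU.isoSpec.hom ≅ M.restrict U.ι :=
    ((Scheme.Modules.restrictFunctorComp hU.isoSpec.hom hU.fromSpec).app M).symm ≪≫
      (Scheme.Modules.restrictFunctorCongr hU.isoSpec_hom_fromSpec).app M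
  let P₁ : (M.restrict U.ι).Presentation :=
    presIso i₁ (Scheme.Modules.presentationRestrict hU.isoSpec.hom P₀)
  let E := Scheme.Modules.overEquiv U
  let η : SheafOfModules.unit (X.ringCatSheaf.over U) ≅ E.inverse.obj (SheafOfModules.unit _) :=
    E.unitIso.app _ ≪≫ E.inverse.mapIso
      ((Scheme.Modules.overFunctorEquiv U).app (SheafOfModules.unit X.ringCatSheaf) ≪≫
        Scheme.Modules.restrictUnitIso U.ι)
  let i₂ : E.inverse.obj (M.restrict U.ι) ≅ SheafOfModules.over (R := X.ringCatSheaf) M U :=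
    E.inverse.mapIso ((Scheme.Modules.overFunctorEquiv U).app M).symm ≪≫ (E.unitIso.app _).symm
  exact ⟨presIso i₂ (presEquiv E.symm η P₁)⟩

/-- A module with the localization properties on all affine opens is quasi-coherent. -/
theorem isQuasicoherent_of_localizing (M : X.Modules)
    (hext : ∀ (U : X.Opens), IsAffineOpen U → ∀ (g : Γ(X, U)) (t : Γ(M, X.basicOpen g)),
      ∃ (n : ℕ) (s : Γ(M, U)), M.presheaf.map (homOfLE (X.basicOpen_le g)).op s =
        X.presheaf.map (homOfLE (X.basicOpen_le g)).op g ^ n • t)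
    (huniq : ∀ (U : X.Opens), IsAffineOpen U → ∀ (g : Γ(X, U)) (s : Γ(M, U)),
      M.presheaf.map (homOfLE (X.basicOpen_le g)).op s = 0 → ∃ n : ℕ, g ^ n • s = 0) :
    Coh.IsQCoh M := by
  have h : ∀ U : X.affineOpens, Nonempty (SheafOfModules.over (R := X.ringCatSheaf) M U.1).Presentation :=
    fun U => exists_presentation_over M U.2 (hext U.1 U.2) (huniq U.1 U.2)
  have hcov : (Opens.grothendieckTopology X).CoversTop (fun U : X.affineOpens => U.1) := by
    rw [Opens.coversTop_iff, IsOpenCover]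
    exact eq_top_iff.mpr fun x _ => by
      obtain ⟨_, ⟨W, hW, rfl⟩, hxW, -⟩ :=
        X.isBasis_affineOpens.exists_subset_of_mem_open (Set.mem_univ x) isOpen_univ
      exact Opens.mem_iSup.mpr ⟨⟨W, hW⟩, hxW⟩
  let d : SheafOfModules.QuasicoherentData.{u} (R := X.ringCatSheaf) M :=
    { I := ↥X.affineOpens, X := fun U => U.1, coversTop := hcov, presentation := fun U => (h U).some }
  exact d.isQuasicoherent

/-- Finitely many affines covering a compact open. -/
theorem exists_finite_affine_cover {W : X.Opens} (hW : IsCompact (W : Set X)) :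
    ∃ S : Finset X.affineOpens, (∀ V ∈ S, V.1 ≤ W) ∧ ∀ x ∈ W, ∃ V ∈ S, x ∈ V.1 := by
  classical
  have h : ∀ x : W, ∃ V : X.affineOpens, x.1 ∈ V.1 ∧ V.1 ≤ W := by
    rintro ⟨x, hx⟩
    obtain ⟨_, ⟨V, hV, rfl⟩, hxV, hVW⟩ := X.isBasis_affineOpens.exists_subset_of_mem_open hx W.isOpen
    exact ⟨⟨V, hV⟩, hxV, hVW⟩
  choose V hxV hVW using h
  obtain ⟨S, hS⟩ := hW.elim_finite_subcover (fun x => ((V x).1 : Set X)) (fun x => (V x).1.isOpen)
    fun x hx => Set.mem_iUnion.mpr ⟨⟨x, hx⟩, hxV _⟩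
  refine ⟨S.image V, fun U hU => ?_, fun x hx => ?_⟩
  · obtain ⟨y, -, rfl⟩ := Finset.mem_image.mp hU; exact hVW y
  · obtain ⟨y, hy, hxy⟩ := Set.mem_iUnion₂.mp (hS hx)
    exact ⟨V y, Finset.mem_image.mpr ⟨y, hy, rfl⟩, hxy⟩

theorem eq_of_germ_eq (M : X.Modules) {W : X.Opens} (a b : Γ(M, W))
    (h : ∀ (x : X) (hx : x ∈ W), M.presheaf.germ W x hx a = M.presheaf.germ W x hx b) : a = b :=
  TopCat.Presheaf.section_ext ⟨M.presheaf, M.isSheaf⟩ W a b h

/-- On a compact open a section vanishing on a basic open is killed by a power of the function. -/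
theorem exists_pow_smul_eq_zero_compact (M : X.Modules) [M.IsQuasicoherent] {W : X.Opens}
    (hW : IsCompact (W : Set X)) (g : Γ(X, W)) (s : Γ(M, W))
    (h : M.presheaf.map (homOfLE (X.basicOpen_le g)).op s = 0) : ∃ n : ℕ, g ^ n • s = 0 := by
  classical
  obtain ⟨S, hSW, hS⟩ := exists_finite_affine_cover hW
  have hloc : ∀ V ∈ S, ∃ n : ℕ, ∀ (x : X) (hxV : x ∈ V.1) (hx : x ∈ W),
      M.presheaf.germ W x hx (g ^ n • s) = 0 := by
    intro V hV
    have hb : X.basicOpen (X.presheaf.map (homOfLE (hSW V hV)).op g) ≤ X.basicOpen g := by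
      rw [Scheme.basicOpen_res]; exact inf_le_right
    obtain ⟨n, hn⟩ := exists_pow_smul_eq_zero M V.2 (X.presheaf.map (homOfLE (hSW V hV)).op g)
      (M.presheaf.map (homOfLE (hSW V hV)).op s) (by
        rw [res_res, ← res_res M (X.basicOpen_le g) hb, h, map_zero])
    refine ⟨n, fun x hxV hx => ?_⟩
    have h1 := congrArg (M.presheaf.germ V.1 x hxV) hn
    rw [germ_smul, map_pow, TopCat.Presheaf.germ_res_apply, TopCat.Presheaf.germ_res_apply, map_zero] at h1
    rw [germ_smul, map_pow]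
    exact h1
  choose n hn using hloc
  refine ⟨S.attach.sup fun V => n V.1 V.2, eq_of_germ_eq M _ _ fun x hx => ?_⟩
  obtain ⟨V, hV, hxV⟩ := hS x hx
  obtain ⟨k, hk⟩ := Nat.exists_eq_add_of_le (Finset.le_sup (f := fun V : S => n V.1 V.2) (Finset.mem_attach S ⟨V, hV⟩))
  rw [map_zero, hk, add_comm, pow_add, mul_smul, germ_smul, hn V hV x hxV hx, smul_zero]

/-- On a qcqs open a section over a basic open extends after multiplication by a power. -/
theorem exists_extend_compact (M : X.Modules) [M.IsQuasicoherent] {W : X.Opens}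
    (hW : IsCompact (W : Set X)) (hWs : IsQuasiSeparated (W : Set X)) (g : Γ(X, W))
    (t : Γ(M, X.basicOpen g)) :
    ∃ (n : ℕ) (s : Γ(M, W)), M.presheaf.map (homOfLE (X.basicOpen_le g)).op s =
      X.presheaf.map (homOfLE (X.basicOpen_le g)).op g ^ n • t := by
  classical
  obtain ⟨S, hSW, hS⟩ := exists_finite_affine_cover hW
  have hloc : ∀ V : S, ∃ (n : ℕ) (s : Γ(M, V.1.1)), ∀ (x : X) (hx : x ∈ X.basicOpen g) (hxV : x ∈ V.1.1),
      M.presheaf.germ V.1.1 x hxV s =
        X.presheaf.germ W x (X.basicOpen_le g hx) g ^ n • M.presheaf.germ _ x hx t := by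
    rintro ⟨V, hV⟩
    have hb : X.basicOpen (X.presheaf.map (homOfLE (hSW V hV)).op g) ≤ X.basicOpen g := by
      rw [Scheme.basicOpen_res]; exact inf_le_right
    obtain ⟨n, s, hs⟩ := exists_extend M V.2 (X.presheaf.map (homOfLE (hSW V hV)).op g)
      (M.presheaf.map (homOfLE hb).op t)
    refine ⟨n, s, fun x hx hxV => ?_⟩
    have hx' : x ∈ X.basicOpen (X.presheaf.map (homOfLE (hSW V hV)).op g) := by
      rw [Scheme.basicOpen_res]; exact ⟨hxV, hx⟩
    have h1 := congrArg (M.presheaf.germ _ x hx') hs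
    rw [TopCat.Presheaf.germ_res_apply, germ_smul, map_pow, TopCat.Presheaf.germ_res_apply,
      TopCat.Presheaf.germ_res_apply, TopCat.Presheaf.germ_res_apply] at h1
    exact h1
  choose n s hs using hloc
  let N := Finset.univ.sup n
  let gV : ∀ V : S, Γ(X, V.1.1) := fun V => X.presheaf.map (homOfLE (hSW V.1 V.2)).op g
  let s' : ∀ V : S, Γ(M, V.1.1) := fun V => gV V ^ (N - n V) • s V
  have hs' : ∀ (V : S) (x : X) (hx : x ∈ X.basicOpen g) (hxV : x ∈ V.1.1),
      M.presheaf.germ V.1.1 x hxV (s' V) =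
        X.presheaf.germ W x (X.basicOpen_le g hx) g ^ N • M.presheaf.germ _ x hx t := by
    intro V x hx hxV
    rw [germ_smul, map_pow, TopCat.Presheaf.germ_res_apply, hs V x hx hxV, smul_smul, ← pow_add,
      Nat.sub_add_cancel (Finset.le_sup (Finset.mem_univ V))]
  have hpair : ∀ p : S × S, ∃ m : ℕ, ∀ (x : X) (h₁ : x ∈ p.1.1.1) (h₂ : x ∈ p.2.1.1) (hx : x ∈ W),
      X.presheaf.germ W x hx g ^ m • M.presheaf.germ _ x h₁ (s' p.1) =
        X.presheaf.germ W x hx g ^ m • M.presheaf.germ _ x h₂ (s' p.2) := by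
    rintro ⟨V, V'⟩
    have hVW : V.1.1 ⊓ V'.1.1 ≤ W := inf_le_left.trans (hSW V.1 V.2)
    have hc : IsCompact ((V.1.1 ⊓ V'.1.1 : X.Opens) : Set X) :=
      hWs V.1.1 V'.1.1 (hSW V.1 V.2) V.1.1.isOpen V.1.2.isCompact (hSW V'.1 V'.2) V'.1.1.isOpen V'.1.2.isCompact
    obtain ⟨m, hm⟩ := exists_pow_smul_eq_zero_compact M hc (X.presheaf.map (homOfLE hVW).op g)
      (M.presheaf.map (homOfLE inf_le_left).op (s' V) - M.presheaf.map (homOfLE inf_le_right).op (s' V'))
      (eq_of_germ_eq M _ _ fun x hx => by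
        have hx0 := hx
        rw [Scheme.basicOpen_res] at hx0
        rw [map_zero, TopCat.Presheaf.germ_res_apply, map_sub, TopCat.Presheaf.germ_res_apply,
          TopCat.Presheaf.germ_res_apply, hs' V x hx0.2 hx0.1.1, hs' V' x hx0.2 hx0.1.2, sub_self])
    refine ⟨m, fun x h₁ h₂ hx => sub_eq_zero.mp ?_⟩
    have hx12 : x ∈ V.1.1 ⊓ V'.1.1 := ⟨h₁, h₂⟩
    have h1 := congrArg (M.presheaf.germ _ x hx12) hm
    rw [germ_smul, map_pow, map_sub, TopCat.Presheaf.germ_res_apply, TopCat.Presheaf.germ_res_apply,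
      TopCat.Presheaf.germ_res_apply, map_zero, smul_sub] at h1
    exact h1
  choose m hm using hpair
  let K := Finset.univ.sup m
  obtain ⟨σ, hσ, -⟩ := TopCat.Sheaf.existsUnique_gluing' ⟨M.presheaf, M.isSheaf⟩ (fun V : S => V.1.1) W
    (fun V => homOfLE (hSW V.1 V.2)) (fun x hx => by
      obtain ⟨V, hV, hxV⟩ := hS x hx
      exact Opens.mem_iSup.mpr ⟨⟨V, hV⟩, hxV⟩)
    (fun V => gV V ^ K • s' V) (fun V V' => by
      refine eq_of_germ_eq M _ _ fun x hx => ?_
      erw [TopCat.Presheaf.germ_res_apply, TopCat.Presheaf.germ_res_apply]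
      show M.presheaf.germ V.1.1 x hx.1 (gV V ^ K • s' V) = M.presheaf.germ V'.1.1 x hx.2 (gV V' ^ K • s' V')
      rw [germ_smul M x hx.1 (gV V ^ K) (s' V), germ_smul M x hx.2 (gV V' ^ K) (s' V'), map_pow, map_pow]
      show X.presheaf.germ V.1.1 x hx.1 (X.presheaf.map (homOfLE (hSW V.1 V.2)).op g) ^ K • M.presheaf.germ _ x hx.1 (s' V) =
        X.presheaf.germ V'.1.1 x hx.2 (X.presheaf.map (homOfLE (hSW V'.1 V'.2)).op g) ^ K • M.presheaf.germ _ x hx.2 (s' V')
      rw [TopCat.Presheaf.germ_res_apply, TopCat.Presheaf.germ_res_apply]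
      obtain ⟨j, hj⟩ := Nat.exists_eq_add_of_le (Finset.le_sup (f := m) (Finset.mem_univ (V, V')))
      rw [show K = m (V, V') + j from hj, add_comm, pow_add, mul_smul, mul_smul,
        hm (V, V') x hx.1 hx.2 (hSW V.1 V.2 hx.1)])
  refine ⟨K + N, σ, eq_of_germ_eq M _ _ fun x hx => ?_⟩
  obtain ⟨V, hV, hxV⟩ := hS x (X.basicOpen_le g hx)
  rw [TopCat.Presheaf.germ_res_apply, germ_smul, map_pow, TopCat.Presheaf.germ_res_apply]
  have h1 := congrArg (M.presheaf.germ _ x hxV) (hσ ⟨V, hV⟩)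
  erw [TopCat.Presheaf.germ_res_apply] at h1
  rw [h1, germ_smul, map_pow, TopCat.Presheaf.germ_res_apply, hs' ⟨V, hV⟩ x hx hxV, smul_smul, ← pow_add]

theorem smul_pushforward {Y : Scheme.{u}} (f : X ⟶ Y) (M : X.Modules) {U : Y.Opens} (r : Γ(Y, U))
    (a : Γ((Scheme.Modules.pushforward f).obj M, U)) :
    (show Γ(M, f ⁻¹ᵁ U) from r • a) = f.app U r • (show Γ(M, f ⁻¹ᵁ U) from a) := rfl

/-- The direct image of a quasi-coherent module along a qcqs morphism is quasi-coherent. -/
theorem isQuasicoherent_pushforward {Y : Scheme.{u}} (f : X ⟶ Y) [QuasiCompact f] [QuasiSeparated f]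
    (M : X.Modules) [M.IsQuasicoherent] : Coh.IsQCoh ((Scheme.Modules.pushforward f).obj M) := by
  refine isQuasicoherent_of_localizing _ (fun U hU g t => ?_) (fun U hU g s hs => ?_)
  · have hle : X.basicOpen (f.app U g) ≤ f ⁻¹ᵁ Y.basicOpen g := (Scheme.preimage_basicOpen f g).ge
    obtain ⟨n, s, hs⟩ := exists_extend_compact M (f.isCompact_preimage hU.isCompact)
      (f.isQuasiSeparated_preimage hU.isQuasiSeparated) (f.app U g) (M.presheaf.map (homOfLE hle).op t)
    refine ⟨n, s, eq_of_germ_eq M _ _ fun x hx => ?_⟩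
    have hx' : x ∈ X.basicOpen (f.app U g) := (Scheme.preimage_basicOpen f g).le hx
    have h1 := congrArg (M.presheaf.germ _ x hx') hs
    rw [TopCat.Presheaf.germ_res_apply, germ_smul, map_pow, TopCat.Presheaf.germ_res_apply] at h1
    erw [TopCat.Presheaf.germ_res_apply] at h1
    have hnat : f.app (Y.basicOpen g) (Y.presheaf.map (homOfLE (Y.basicOpen_le g)).op g) =
        X.presheaf.map (homOfLE (Scheme.Hom.preimage_mono f (Y.basicOpen_le g))).op (f.app U g) :=
      ConcreteCategory.congr_hom (Scheme.Hom.naturality f (homOfLE (Y.basicOpen_le g)).op) g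
    show M.presheaf.germ (f ⁻¹ᵁ Y.basicOpen g) x hx (M.presheaf.map (homOfLE _).op s) =
      M.presheaf.germ (f ⁻¹ᵁ Y.basicOpen g) x hx
        (f.app (Y.basicOpen g) (Y.presheaf.map (homOfLE (Y.basicOpen_le g)).op g ^ n) •
          (show Γ(M, f ⁻¹ᵁ Y.basicOpen g) from t))
    rw [germ_smul, map_pow, map_pow, hnat, TopCat.Presheaf.germ_res_apply, TopCat.Presheaf.germ_res_apply]
    exact h1
  · have hle : X.basicOpen (f.app U g) ≤ f ⁻¹ᵁ Y.basicOpen g := (Scheme.preimage_basicOpen f g).ge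
    obtain ⟨n, hn⟩ := exists_pow_smul_eq_zero_compact M (f.isCompact_preimage hU.isCompact) (f.app U g) s
      (by
        have h1 := congrArg (M.presheaf.map (homOfLE hle).op) hs
        refine Eq.trans ?_ (h1.trans (map_zero _))
        exact (res_res M _ _ s).symm)
    refine ⟨n, ?_⟩
    show f.app U (g ^ n) • (show Γ(M, f ⁻¹ᵁ U) from s) = 0
    rw [map_pow]
    exact hn

end Groth.Agent.ModStalk
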