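import Groth.Agent.ModStalk.Pullback
import Groth.Agent.ModStalk.QCoh
import Groth.Agent.ModStalk.FiniteType
import Mathlib.CategoryTheory.Limits.Final
import Mathlib.RingTheory.Flat.FaithfullyFlat.Algebra
import Mathlib.Algebra.Category.ModuleCat.Sheaf.PullbackFree

/-! Pullbacks of quasi-coherent and finite type modules. -/

set_option autoImplicit false
universe u

open CategoryTheory CategoryTheory.Limits AlgebraicGeometry Opposite TopologicalSpace SheafOfModules

namespace Groth.Agent.ModStalk

instance final_opensMap {X Y : Scheme.{u}} (f : X ⟶ Y) : (Opens.map f.base).Final where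
  out d := by
    let T : StructuredArrow d (Opens.map f.base) := StructuredArrow.mk (Y := ⊤) (homOfLE fun _ _ => trivial)
    have : Nonempty (StructuredArrow d (Opens.map f.base)) := ⟨T⟩
    refine zigzag_isConnected fun a b => ?_
    have hto : ∀ c : StructuredArrow d (Opens.map f.base), c ⟶ T := fun c =>
      StructuredArrow.homMk (homOfLE le_top) (Subsingleton.elim _ _)
    exact (Zigzag.of_hom (hto a)).trans (Zigzag.of_hom (hto b)).symm

set_option backward.isDefEq.respectTransparency false in
set_option backward.isDefEq.respectTransparency.types false in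
/-- Pullback of the structure sheaf. -/
noncomputable def pullbackUnitIso {X Y : Scheme.{u}} (f : X ⟶ Y) :
    (Scheme.Modules.pullback f).obj (SheafOfModules.unit Y.ringCatSheaf) ≅ SheafOfModules.unit X.ringCatSheaf :=
  haveI : (Opens.map f.base).Final := final_opensMap f
  haveI : (SheafOfModules.pushforward.{u} f.toRingCatSheafHom).IsRightAdjoint :=
    (Scheme.Modules.pullbackPushforwardAdjunction f).isRightAdjoint
  let φ := SheafOfModules.pullbackObjUnitToUnit f.toRingCatSheafHom
  haveI hφ : IsIso φ := inferInstance
  ⟨φ, inv φ, IsIso.hom_inv_id φ, IsIso.inv_hom_id φ⟩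

set_option backward.isDefEq.respectTransparency false in
/-- A presentation pulls back. -/
noncomputable def pullbackPresentation {X Y : Scheme.{u}} (f : X ⟶ Y) {M : Y.Modules}
    (P : M.Presentation) : ((Scheme.Modules.pullback f).obj M).Presentation :=
  haveI : PreservesColimitsOfSize.{0, 0} (Scheme.Modules.pullback f) :=
    (Scheme.Modules.pullbackPushforwardAdjunction f).leftAdjoint_preservesColimits
  haveI : PreservesColimitsOfSize.{u, u} (Scheme.Modules.pullback f) :=
    (Scheme.Modules.pullbackPushforwardAdjunction f).leftAdjoint_preservesColimits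
  P.map (Scheme.Modules.pullback f) (pullbackUnitIso f).symm

variable {X Y : Scheme.{u}} (f : X ⟶ Y) (M : Y.Modules)

/-- Pullback commutes with restriction to opens. -/
noncomputable def pullbackRestrictIso (W : Y.Opens) :
    ((Scheme.Modules.pullback f).obj M).restrict (f ⁻¹ᵁ W).ι ≅
      (Scheme.Modules.pullback (f ∣_ W)).obj (M.restrict W.ι) :=
  (Scheme.Modules.restrictFunctorIsoPullback (f ⁻¹ᵁ W).ι).app _ ≪≫
    (Scheme.Modules.pullbackComp (f ⁻¹ᵁ W).ι f).app M ≪≫
    (Scheme.Modules.pullbackCongr (morphismRestrict_ι f W).symm).app M ≪≫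
    ((Scheme.Modules.pullbackComp (f ∣_ W) W.ι).app M).symm ≪≫
    (Scheme.Modules.pullback (f ∣_ W)).mapIso ((Scheme.Modules.restrictFunctorIsoPullback W.ι).app M).symm

/-- The presentation over an open of a module with a presentation of the restriction. -/
noncomputable def overPresentation {Z : Scheme.{u}} (N : Z.Modules) (U : Z.Opens)
    (P : (N.restrict U.ι).Presentation) : (SheafOfModules.over (R := Z.ringCatSheaf) N U).Presentation :=
  let E := Scheme.Modules.overEquiv U
  let η : SheafOfModules.unit (Z.ringCatSheaf.over U) ≅ E.inverse.obj (SheafOfModules.unit _) :=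
    E.unitIso.app _ ≪≫ E.inverse.mapIso
      ((Scheme.Modules.overFunctorEquiv U).app (SheafOfModules.unit Z.ringCatSheaf) ≪≫
        Scheme.Modules.restrictUnitIso U.ι)
  let i₂ : E.inverse.obj (N.restrict U.ι) ≅ SheafOfModules.over (R := Z.ringCatSheaf) N U :=
    E.inverse.mapIso ((Scheme.Modules.overFunctorEquiv U).app N).symm ≪≫ (E.unitIso.app _).symm
  presIso i₂ (presEquiv E.symm η P)

/-- The pullback of a quasi-coherent module is quasi-coherent. -/
theorem isQuasicoherent_pullback [M.IsQuasicoherent] : Coh.IsQCoh ((Scheme.Modules.pullback f).obj M) := by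
  obtain ⟨ι, W, pres, hW, -⟩ := M.exists_isOpenCover_presentation
  let d : SheafOfModules.QuasicoherentData.{u} (R := X.ringCatSheaf) ((Scheme.Modules.pullback f).obj M) :=
    { I := ι
      X := fun i => f ⁻¹ᵁ W i
      coversTop := by
        rw [Opens.coversTop_iff, IsOpenCover]
        refine eq_top_iff.mpr fun x _ => ?_
        obtain ⟨i, hi⟩ := Opens.mem_iSup.mp (hW.ge (trivial : f x ∈ (⊤ : Y.Opens)))
        exact Opens.mem_iSup.mpr ⟨i, hi⟩
      presentation := fun i => overPresentation _ _
        (presIso (pullbackRestrictIso f M (W i)).symm (pullbackPresentation (f ∣_ W i) (pres i))) }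
  exact d.isQuasicoherent

/-- The presentation of the restriction from one over the open. -/
noncomputable def restrictPresentation {Z : Scheme.{u}} (N : Z.Modules) (U : Z.Opens)
    (P : (SheafOfModules.over (R := Z.ringCatSheaf) N U).Presentation) : (N.restrict U.ι).Presentation :=
  let E := Scheme.Modules.overEquiv U
  let η : SheafOfModules.unit (U : Scheme.{u}).ringCatSheaf ≅ E.functor.obj (SheafOfModules.unit _) :=
    ((Scheme.Modules.overFunctorEquiv U).app (SheafOfModules.unit Z.ringCatSheaf) ≪≫
      Scheme.Modules.restrictUnitIso U.ι).symm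
  presIso ((Scheme.Modules.overFunctorEquiv U).app N) (presEquiv E η P)

/-- The pullback of a module of finite presentation is of finite presentation. -/
theorem isFinitePresentation_pullback [hM : SheafOfModules.IsFinitePresentation (R := Y.ringCatSheaf) M] :
    SheafOfModules.IsFinitePresentation (R := X.ringCatSheaf) ((Scheme.Modules.pullback f).obj M) := by
  obtain ⟨q, hq⟩ := hM.exists_quasicoherentData
  let d : SheafOfModules.QuasicoherentData.{u} (R := X.ringCatSheaf) ((Scheme.Modules.pullback f).obj M) :=
    { I := q.I
      X := fun i => f ⁻¹ᵁ q.X i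
      coversTop := by
        rw [Opens.coversTop_iff, IsOpenCover]
        refine eq_top_iff.mpr fun x _ => ?_
        have := q.coversTop
        rw [Opens.coversTop_iff, IsOpenCover] at this
        obtain ⟨i, hi⟩ := Opens.mem_iSup.mp (this.ge (trivial : f x ∈ (⊤ : Y.Opens)))
        exact Opens.mem_iSup.mpr ⟨i, hi⟩
      presentation := fun i => overPresentation _ _
        (presIso (pullbackRestrictIso f M (q.X i)).symm
          (pullbackPresentation (f ∣_ q.X i) (restrictPresentation M _ (q.presentation i)))) }
  have hd : d.IsFinitePresentation :=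
    { isFinite_presentation := fun i =>
        { isFiniteType_generators := ⟨(hq.isFinite_presentation i).isFiniteType_generators.finite⟩
          isFiniteType_relations := ⟨(hq.isFinite_presentation i).isFiniteType_relations.finite⟩ } }
  exact { exists_quasicoherentData := ⟨d, hd⟩ }

/-- The pullback of a finite type module is of finite type. -/
theorem isFiniteType_pullback [SheafOfModules.IsFiniteType (R := Y.ringCatSheaf) M] :
    SheafOfModules.IsFiniteType (R := X.ringCatSheaf) ((Scheme.Modules.pullback f).obj M) := by
  have key : ∀ x : X, ∃ U : X.Opens, x ∈ U ∧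
      ∃ σ : (SheafOfModules.over (R := X.ringCatSheaf) ((Scheme.Modules.pullback f).obj M) U).GeneratingSections,
        σ.IsFiniteType := by
    intro x
    obtain ⟨W, hW, I, _, s, hs⟩ := exists_generators M (f x)
    refine ⟨f ⁻¹ᵁ W, hW, exists_generatingSections _
      (fun i => ((Scheme.Modules.pullbackPushforwardAdjunction f).unit.app M).app W (s i)) fun y hy => ?_⟩
    refine eq_top_iff.mpr (le_trans (span_pullGerm f M y).ge (Submodule.span_le.mpr ?_))
    rintro _ ⟨v, rfl⟩
    have hv : v ∈ Submodule.span (Y.presheaf.stalk (f y))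
        (Set.range fun i => M.presheaf.germ W (f y) hy (s i)) := by rw [hs (f y) hy]; trivial
    induction hv using Submodule.span_induction with
    | mem w hw =>
      obtain ⟨i, rfl⟩ := hw
      exact Submodule.subset_span ⟨i, (pullGerm_germ f M y hy (s i)).symm⟩
    | zero => rw [map_zero]; exact Submodule.zero_mem _
    | add v w _ _ hv hw => rw [map_add]; exact Submodule.add_mem _ hv hw
    | smul r v _ hv => rw [pullGerm_smul]; exact Submodule.smul_mem _ _ hv
  choose U hxU σ hσ using key
  let d : SheafOfModules.LocalGeneratorsData.{u} (R := X.ringCatSheaf) ((Scheme.Modules.pullback f).obj M) :=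
    { I := X, X := U,
      coversTop := by
        rw [Opens.coversTop_iff, IsOpenCover]
        exact eq_top_iff.mpr fun x _ => Opens.mem_iSup.mpr ⟨x, hxU x⟩
      generators := σ }
  exact { exists_localGeneratorsData := ⟨d, { isFiniteType := hσ }⟩ }

open TensorProduct in
/-- The tensor description of the stalk of a pullback. -/
theorem exists_pullStalk_equiv (x : X) :
    letI := (f.stalkMap x).hom.toAlgebra
    ∃ e : ((Scheme.Modules.pullback f).obj M).presheaf.stalk x ≃ₗ[X.presheaf.stalk x]
        (X.presheaf.stalk x ⊗[Y.presheaf.stalk (f x)] M.presheaf.stalk (f x)),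
      ∀ v, e (pullGerm f M x v) = 1 ⊗ₜ v := by
  letI := (f.stalkMap x).hom.toAlgebra
  letI : Module (Y.presheaf.stalk (f x)) (((Scheme.Modules.pullback f).obj M).presheaf.stalk x) :=
    Module.compHom _ (f.stalkMap x).hom
  haveI : IsScalarTower (Y.presheaf.stalk (f x)) (X.presheaf.stalk x)
      (((Scheme.Modules.pullback f).obj M).presheaf.stalk x) :=
    IsScalarTower.of_algebraMap_smul fun _ _ => rfl
  obtain ⟨l, hl⟩ := exists_pullStalk_lift f M
    (N := X.presheaf.stalk x ⊗[Y.presheaf.stalk (f x)] M.presheaf.stalk (f x))
    ((TensorProduct.mk (Y.presheaf.stalk (f x)) (X.presheaf.stalk x) (M.presheaf.stalk (f x)) 1).toAddMonoidHom)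
    fun r v => by
      show (1 : X.presheaf.stalk x) ⊗ₜ (r • v) = f.stalkMap x r • ((1 : X.presheaf.stalk x) ⊗ₜ v)
      rw [TensorProduct.tmul_smul, ← IsScalarTower.algebraMap_smul (X.presheaf.stalk x) r]
      rfl
  let g : M.presheaf.stalk (f x) →ₗ[Y.presheaf.stalk (f x)]
      ((Scheme.Modules.pullback f).obj M).presheaf.stalk x :=
    { toFun := pullGerm f M x, map_add' := map_add _, map_smul' := fun r v => pullGerm_smul f M x r v }
  let k := g.liftBaseChange (X.presheaf.stalk x)
  have h1 : ∀ v, l (pullGerm f M x v) = 1 ⊗ₜ v := hl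
  have hlk : l ∘ₗ k = LinearMap.id := by
    refine TensorProduct.AlgebraTensorModule.ext fun a v => ?_
    show l (k (a ⊗ₜ v)) = a ⊗ₜ v
    rw [LinearMap.liftBaseChange_tmul, map_smul]
    erw [h1]
    rw [TensorProduct.smul_tmul', smul_eq_mul, mul_one]
  have hkl : k ∘ₗ l = LinearMap.id := pullStalk_ext f M _ _ fun v => by
    show k (l (pullGerm f M x v)) = pullGerm f M x v
    rw [h1, LinearMap.liftBaseChange_tmul, one_smul]
    rfl
  exact ⟨LinearEquiv.ofLinear l k hlk hkl, h1⟩

open TensorProduct in
/-- Along a flat morphism the stalk of a module injects into the stalk of its pullback. -/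
theorem pullGerm_injective_of_flat (x : X) [Flat f] : Function.Injective (pullGerm f M x) := by
  obtain ⟨e, he⟩ := exists_pullStalk_equiv f M x
  letI := (f.stalkMap x).hom.toAlgebra
  have : IsLocalHom (algebraMap (Y.presheaf.stalk (f x)) (X.presheaf.stalk x)) :=
    inferInstanceAs (IsLocalHom (f.stalkMap x).hom)
  have : Module.Flat (Y.presheaf.stalk (f x)) (X.presheaf.stalk x) := Flat.stalkMap f x
  have : Module.FaithfullyFlat (Y.presheaf.stalk (f x)) (X.presheaf.stalk x) :=
    Module.FaithfullyFlat.of_flat_of_isLocalHom
  intro v w h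
  have h' := congrArg e h
  rw [he, he] at h'
  exact Module.FaithfullyFlat.tensorProduct_mk_injective (A := Y.presheaf.stalk (f x))
    (B := X.presheaf.stalk x) (M.presheaf.stalk (f x)) h'

end Groth.Agent.ModStalk
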