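import Groth.Agent.ModStalk.Affine
import Mathlib.Algebra.Module.LocalizedModule.Basic
import Mathlib.RingTheory.Ideal.AssociatedPrime.Localization
import Mathlib.RingTheory.Ideal.AssociatedPrime.Finiteness
import Groth.Prelude.Def_CurvBase

/-! Stalks of quasi-coherent modules as localizations of sections on affine opens; associated points. -/

set_option autoImplicit false
set_option linter.style.haveILetI false
universe u

open CategoryTheory AlgebraicGeometry Opposite TopologicalSpace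

namespace Groth.Agent.ModStalk

variable {X : Scheme.{u}} {U : X.Opens} (hU : IsAffineOpen U) (M : X.Modules)

theorem germ_mem_primeIdeal_iff (x : U) (c : Γ(X, U)) :
    c ∉ (hU.primeIdealOf x).asIdeal ↔ x.1 ∈ X.basicOpen c := by
  letI := TopCat.Presheaf.algebra_section_stalk X.presheaf x
  haveI := hU.isLocalization_stalk x
  rw [Scheme.mem_basicOpen _ _ _ x.2]
  exact (IsLocalization.AtPrime.isUnit_to_map_iff (X.presheaf.stalk x.1) (hU.primeIdealOf x).asIdeal c).symm

/-- The action of sections on a stalk. -/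
@[reducible] noncomputable def sectionModule (x : U) : Module Γ(X, U) (M.presheaf.stalk x.1) :=
  Module.compHom _ (X.presheaf.germ U x.1 x.2).hom

/-- The germ as a linear map. -/
noncomputable def germₗ (x : U) :
    letI := sectionModule M x
    Γ(M, U) →ₗ[Γ(X, U)] M.presheaf.stalk x.1 :=
  letI := sectionModule M x
  { toFun := fun s => M.presheaf.germ U x.1 x.2 s
    map_add' := map_add _
    map_smul' := fun c s => germ_smul M x.1 x.2 c s }

theorem sectionTower (x : U) :
    letI := sectionModule M x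
    letI := TopCat.Presheaf.algebra_section_stalk X.presheaf x
    IsScalarTower Γ(X, U) (X.presheaf.stalk x.1) (M.presheaf.stalk x.1) := by
  letI := sectionModule M x
  letI := TopCat.Presheaf.algebra_section_stalk X.presheaf x
  exact ⟨fun c a m => by rw [Algebra.smul_def, mul_smul]; rfl⟩

include hU in
/-- The stalk is the localization of the sections at the prime of the point. -/
theorem isLocalizedModule_germ [M.IsQuasicoherent] (x : U) :
    letI := sectionModule M x
    IsLocalizedModule (hU.primeIdealOf x).asIdeal.primeCompl (germₗ M x) := by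
  letI := sectionModule M x
  have hunit : ∀ c : Γ(X, U), x.1 ∈ X.basicOpen c → IsUnit (X.presheaf.germ U x.1 x.2 c) :=
    fun c hc => (Scheme.mem_basicOpen _ _ _ x.2).mp hc
  refine ⟨fun c => ?_, fun m => ?_, fun {a b} h => ?_⟩
  · have hu := hunit _ ((germ_mem_primeIdeal_iff hU x _).mp c.2)
    rw [Module.End.isUnit_iff]
    exact ⟨fun a b hab => hu.smul_left_cancel.mp hab,
      fun b => ⟨(hu.unit⁻¹ : (X.presheaf.stalk x.1)ˣ).1 • b, by
        show X.presheaf.germ U x.1 x.2 c • ((hu.unit⁻¹ : (X.presheaf.stalk x.1)ˣ).1 • b) = b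
        rw [smul_smul, IsUnit.mul_val_inv, one_smul]⟩⟩
  · obtain ⟨c, s, hc, hs⟩ := exists_smul_eq_germ M hU x.1 x.2 m
    exact ⟨(s, ⟨c, (germ_mem_primeIdeal_iff hU x c).mpr hc⟩), hs⟩
  · obtain ⟨c, hc, hcs⟩ := exists_smul_eq_zero_of_germ M hU x.1 x.2 (a - b)
      (by rw [map_sub]; exact sub_eq_zero.mpr h)
    exact ⟨⟨c, (germ_mem_primeIdeal_iff hU x c).mpr hc⟩, sub_eq_zero.mp ((smul_sub c a b).symm.trans hcs)⟩

include hU in
theorem exists_point (P : Ideal Γ(X, U)) [P.IsPrime] : ∃ x : U, (hU.primeIdealOf x).asIdeal = P := by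
  let q : Spec Γ(X, U) := ⟨P, ‹_›⟩
  have hq : hU.fromSpec q ∈ U := by
    rw [← SetLike.mem_coe, ← hU.range_fromSpec]; exact Set.mem_range_self q
  refine ⟨⟨_, hq⟩, ?_⟩
  have := hU.fromSpec.isOpenEmbedding.injective (hU.fromSpec_primeIdealOf ⟨_, hq⟩)
  rw [this]

include hU in
theorem specializes_of_primeIdeal_le {x y : U}
    (h : (hU.primeIdealOf y).asIdeal ≤ (hU.primeIdealOf x).asIdeal) : y.1 ⤳ x.1 := by
  rw [← hU.fromSpec_primeIdealOf y, ← hU.fromSpec_primeIdealOf x]
  exact ((PrimeSpectrum.le_iff_specializes _ _).mp h).map hU.fromSpec.continuous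

theorem isAssPoint_iff_isWeakAssPoint (x : X) :
    Curv2.IsAssPoint M x ↔ Curv2.IsWeakAssPoint M x := by
  refine ⟨fun ⟨_, m, hm⟩ => ⟨m, ?_⟩, fun ⟨m, hm⟩ => ⟨(IsLocalRing.maximalIdeal.isMaximal _).isPrime, m, ?_⟩⟩
  · rw [hm]; congr 1; ext a; simp [Submodule.mem_colon_singleton]
  · rw [← hm]; congr 1; ext a; simp [Submodule.mem_colon_singleton]

include hU in
/-- A nonzero germ of a section generizes to a weakly associated point where it is still nonzero. -/
theorem exists_isWeakAssPoint [M.IsQuasicoherent] (x : U) (s : Γ(M, U))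
    (hs : M.presheaf.germ U x.1 x.2 s ≠ 0) :
    ∃ y : U, y.1 ⤳ x.1 ∧ M.presheaf.germ U y.1 y.2 s ≠ 0 ∧ Curv2.IsWeakAssPoint M y.1 := by
  let I : Ideal Γ(X, U) := LinearMap.ker (LinearMap.toSpanSingleton Γ(X, U) Γ(M, U) s)
  have hI : I ≤ (hU.primeIdealOf x).asIdeal := fun c hc => by
    by_contra hcx
    have hu := (Scheme.mem_basicOpen _ _ _ x.2).mp ((germ_mem_primeIdeal_iff hU x c).mp hcx)
    have h0 : X.presheaf.germ U x.1 x.2 c • M.presheaf.germ U x.1 x.2 s = 0 := by
      rw [← germ_smul, show c • s = 0 from hc, map_zero]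
    exact hs (hu.smul_eq_zero.mp h0)
  obtain ⟨P, hP, hPx⟩ := Ideal.exists_minimalPrimes_le hI
  have := hP.1.1
  obtain ⟨y, hy⟩ := exists_point hU P
  have hker : ∀ c, M.presheaf.germ U y.1 y.2 (c • s) = 0 → ∃ d ∉ P, d * c ∈ I := fun c hc => by
    obtain ⟨d, hd, hds⟩ := exists_smul_eq_zero_of_germ M hU y.1 y.2 (c • s) hc
    exact ⟨d, hy ▸ (germ_mem_primeIdeal_iff hU y d).mpr hd, (mul_smul d c s).trans hds⟩
  refine ⟨y, specializes_of_primeIdeal_le hU (hy ▸ hPx), fun h0 => ?_, ?_⟩
  · obtain ⟨d, hd, hdI⟩ := hker 1 (by rw [one_smul]; exact h0)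
    exact hd (hP.1.2 (mul_one d ▸ hdI))
  · letI := TopCat.Presheaf.algebra_section_stalk X.presheaf y
    haveI := hU.isLocalization_stalk y
    refine ⟨M.presheaf.germ U y.1 y.2 s, le_antisymm (IsLocalRing.le_maximalIdeal ?_) ?_⟩
    · rw [Ne, Ideal.radical_eq_top]
      intro h
      have h1 : (1 : X.presheaf.stalk y.1) • M.presheaf.germ U y.1 y.2 s = 0 :=
        LinearMap.mem_ker.mp (show (1 : X.presheaf.stalk y.1) ∈ LinearMap.ker _ from h.ge Submodule.mem_top)
      rw [one_smul] at h1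
      obtain ⟨d, hd, hdI⟩ := hker 1 (by rw [one_smul]; exact h1)
      exact hd (hP.1.2 (mul_one d ▸ hdI))
    · rw [Ideal.radical_eq_sInf]
      refine le_sInf fun q ⟨hJq, hq⟩ => ?_
      have hqP : Ideal.comap (algebraMap Γ(X, U) (X.presheaf.stalk y.1)) q ≤ P := fun c hc => by
        by_contra hcP
        exact hq.ne_top (Ideal.eq_top_of_isUnit_mem _ hc
          ((Scheme.mem_basicOpen _ _ _ y.2).mp ((germ_mem_primeIdeal_iff hU y c).mp (hy ▸ hcP))))
      have hIq : I ≤ Ideal.comap (algebraMap Γ(X, U) (X.presheaf.stalk y.1)) q := fun c hc => hJq (by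
        show X.presheaf.germ U y.1 y.2 c • M.presheaf.germ U y.1 y.2 s = 0
        rw [← germ_smul, show c • s = 0 from hc, map_zero])
      intro a ha
      obtain ⟨⟨b, d⟩, hbd⟩ := IsLocalization.surj (hU.primeIdealOf y).asIdeal.primeCompl a
      have hb : algebraMap Γ(X, U) (X.presheaf.stalk y.1) b ∈ q := by
        refine hP.2 ⟨hq.comap _, hIq⟩ hqP ?_
        rw [← hy]
        by_contra hbP
        refine (IsLocalRing.mem_maximalIdeal _).mp ha (isUnit_of_mul_isUnit_left (y := algebraMap _ _ d.1) ?_)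
        rw [hbd]
        exact (Scheme.mem_basicOpen _ _ _ y.2).mp ((germ_mem_primeIdeal_iff hU y b).mp hbP)
      rw [← hbd] at hb
      exact (hq.mem_or_mem hb).resolve_right fun h => (hy ▸ d.2 : d.1 ∉ P) (hqP h)

include hU in
/-- Associated points come from associated primes of the module of sections. -/
theorem primeIdealOf_mem_associatedPrimes [M.IsQuasicoherent] [IsNoetherianRing Γ(X, U)] (x : U)
    (h : Curv2.IsAssPoint M x.1) :
    (hU.primeIdealOf x).asIdeal ∈ associatedPrimes Γ(X, U) Γ(M, U) := by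
  letI := sectionModule M x
  letI := TopCat.Presheaf.algebra_section_stalk X.presheaf x
  haveI := hU.isLocalization_stalk x
  haveI := isLocalizedModule_germ hU M x
  haveI := sectionTower M x
  rw [← IsLocalization.AtPrime.under_maximalIdeal (X.presheaf.stalk x.1) (hU.primeIdealOf x).asIdeal]
  exact Module.associatedPrimes.comap_mem_associatedPrimes_of_mem_associatedPrimes_of_isLocalizedModule_of_fg
    (hU.primeIdealOf x).asIdeal.primeCompl (germₗ M x) _ h ((isNoetherianRing_iff_ideal_fg _).mp ‹_› _)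

include hU in
/-- A submodule of sections whose germs span every stalk is everything. -/
theorem eq_top_of_span_germ_eq_top [M.IsQuasicoherent] (N : Submodule Γ(X, U) Γ(M, U))
    (h : ∀ x : U, Submodule.span (X.presheaf.stalk x.1) (M.presheaf.germ U x.1 x.2 '' N) = ⊤) :
    N = ⊤ := by
  refine Submodule.eq_top_iff'.mpr fun m => ?_
  let I : Ideal Γ(X, U) := N.comap (LinearMap.toSpanSingleton Γ(X, U) Γ(M, U) m)
  suffices I = ⊤ by simpa [I] using (Ideal.eq_top_iff_one I).mp this
  refine Not.imp_symm I.exists_le_maximal fun ⟨P, hP, le⟩ => ?_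
  obtain ⟨x, hx⟩ := exists_point hU P
  letI := TopCat.Presheaf.algebra_section_stalk X.presheaf x
  haveI := hU.isLocalization_stalk x
  have key : ∀ v, ∃ (c : Γ(X, U)) (n : Γ(M, U)), c ∉ P ∧ n ∈ N ∧
      X.presheaf.germ U x.1 x.2 c • v = M.presheaf.germ U x.1 x.2 n := by
    intro v
    have hv : v ∈ Submodule.span (X.presheaf.stalk x.1) (M.presheaf.germ U x.1 x.2 '' N) :=
      h x ▸ Submodule.mem_top
    induction hv using Submodule.span_induction with
    | mem v hv =>
      obtain ⟨n, hn, rfl⟩ := hv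
      exact ⟨1, n, P.one_notMem, hn, by rw [map_one, one_smul]⟩
    | zero => exact ⟨1, 0, P.one_notMem, N.zero_mem, by rw [smul_zero, map_zero]⟩
    | add v w _ _ hv hw =>
      obtain ⟨c, n, hc, hn, hv⟩ := hv
      obtain ⟨d, k, hd, hk, hw⟩ := hw
      refine ⟨c * d, d • n + c • k, hP.isPrime.mul_notMem hc hd, N.add_mem (N.smul_mem _ hn) (N.smul_mem _ hk), ?_⟩
      rw [map_add, germ_smul, germ_smul, ← hv, ← hw, map_mul, smul_add, smul_smul, smul_smul,
        mul_comm (X.presheaf.germ U x.1 x.2 d)]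
    | smul a v _ hv =>
      obtain ⟨c, n, hc, hn, hv⟩ := hv
      obtain ⟨⟨b, d⟩, hbd⟩ := IsLocalization.surj (hU.primeIdealOf x).asIdeal.primeCompl a
      refine ⟨d.1 * c, b • n, hP.isPrime.mul_notMem (hx ▸ d.2 : d.1 ∉ P) hc, N.smul_mem _ hn, ?_⟩
      rw [germ_smul, ← hv, map_mul, smul_smul, smul_smul]
      congr 1
      rw [mul_right_comm, mul_comm _ a]
      exact congrArg (· * _) hbd
  obtain ⟨c, n, hc, hn, hm⟩ := key (M.presheaf.germ U x.1 x.2 m)
  obtain ⟨e, he, hen⟩ := exists_smul_eq_zero_of_germ M hU x.1 x.2 (c • m - n)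
    (by rw [map_sub, germ_smul, hm, sub_self])
  have hmem : e * c ∈ I := by
    show (e * c) • m ∈ N
    rw [mul_smul]
    exact sub_eq_zero.mp ((smul_sub e (c • m) n).symm.trans hen) ▸ N.smul_mem e hn
  exact hP.isPrime.mul_notMem (hx ▸ (germ_mem_primeIdeal_iff hU x e).mpr he : e ∉ P) hc (le hmem)

include hU in
/-- Sections of a quasi-coherent module of finite type on an affine open form a finite module. -/
theorem finite_sections [M.IsQuasicoherent] [SheafOfModules.IsFiniteType (R := X.ringCatSheaf) M] :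
    Module.Finite Γ(X, U) Γ(M, U) := by
  classical
  have loc : ∀ x : U, ∃ g : Γ(X, U), x.1 ∈ X.basicOpen g ∧ ∃ T : Finset Γ(M, U), ∀ y : U,
      y.1 ∈ X.basicOpen g →
        Submodule.span (X.presheaf.stalk y.1) (M.presheaf.germ U y.1 y.2 '' T) = ⊤ := by
    rintro ⟨x, hx⟩
    obtain ⟨V, hxV, I, _, s, hs⟩ := exists_generators M x
    obtain ⟨g, hg, hxg⟩ := hU.exists_basicOpen_le (V := V) ⟨x, hxV⟩ hx
    choose n t ht using fun i => exists_extend M hU g (M.presheaf.map (homOfLE hg).op (s i))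
    refine ⟨g, hxg, Finset.univ.image t, fun y hy => ?_⟩
    rw [eq_top_iff, ← hs y.1 (hg hy), Submodule.span_le]
    rintro _ ⟨i, rfl⟩
    have hu : IsUnit ((X.presheaf.germ U y.1 y.2 g) ^ n i) :=
      ((Scheme.mem_basicOpen _ _ _ y.2).mp hy).pow _
    have h := congrArg (M.presheaf.germ (X.basicOpen g) y.1 hy) (ht i)
    rw [germ_smul, map_pow, TopCat.Presheaf.germ_res_apply, TopCat.Presheaf.germ_res_apply,
      TopCat.Presheaf.germ_res_apply] at h
    simp only [SetLike.mem_coe]
    rw [show M.presheaf.germ V y.1 (hg hy) (s i) =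
      (hu.unit⁻¹ : (X.presheaf.stalk y.1)ˣ).1 • M.presheaf.germ U y.1 y.2 (t i) by
        rw [h, smul_smul, IsUnit.val_inv_mul, one_smul]]
    exact Submodule.smul_mem _ _ (Submodule.subset_span ⟨t i, by simp, rfl⟩)
  choose g hg T hT using loc
  obtain ⟨S, hS⟩ := hU.isCompact.elim_finite_subcover (fun x : U => (X.basicOpen (g x) : Set X))
    (fun x => (X.basicOpen (g x)).isOpen) (fun x hx => Set.mem_iUnion.mpr ⟨⟨x, hx⟩, hg ⟨x, hx⟩⟩)
  refine ⟨⟨S.biUnion T, eq_top_of_span_germ_eq_top hU M _ fun y => ?_⟩⟩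
  obtain ⟨x, hxS, hy⟩ := Set.mem_iUnion₂.mp (hS y.2)
  rw [eq_top_iff, ← hT x y hy]
  exact Submodule.span_mono (Set.image_mono fun a ha =>
    Submodule.subset_span (Finset.mem_biUnion.mpr ⟨x, hxS, ha⟩))

end Groth.Agent.ModStalk

namespace Groth.Agent.ModStalk

variable {X : Scheme.{u}} (M : X.Modules)

theorem section_eq_zero {U : X.Opens} (s : Γ(M, U))
    (h : ∀ (x : X) (hx : x ∈ U), M.presheaf.germ U x hx s = 0) : s = 0 :=
  TopCat.Presheaf.section_ext ⟨M.presheaf, M.isSheaf⟩ U s 0 fun x hx =>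
    (h x hx).trans (map_zero _).symm

/-- A section is zero if its germs vanish at the weakly associated points in its domain. -/
theorem section_eq_zero_of_weakAssPoint [M.IsQuasicoherent] {U : X.Opens} (s : Γ(M, U))
    (h : ∀ (x : X) (hx : x ∈ U), Curv2.IsWeakAssPoint M x → M.presheaf.germ U x hx s = 0) : s = 0 := by
  refine section_eq_zero M s fun x hx => ?_
  by_contra hne
  obtain ⟨W, hW, hxW, hWU⟩ := X.isBasis_affineOpens.exists_subset_of_mem_open hx U.isOpen
  obtain ⟨V, hV, rfl⟩ := hW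
  replace hWU : V ≤ U := hWU
  obtain ⟨y, -, hy, hwy⟩ := exists_isWeakAssPoint hV M ⟨x, hxW⟩ (M.presheaf.map (homOfLE hWU).op s)
    (by rw [TopCat.Presheaf.germ_res_apply]; exact hne)
  rw [TopCat.Presheaf.germ_res_apply] at hy
  exact hy (h y.1 (hWU y.2) hwy)

theorem restrict_injective [M.IsQuasicoherent] (U : X.Opens)
    (hU : ∀ x : X, Curv2.IsWeakAssPoint M x → x ∈ U) :
    Function.Injective (M.presheaf.map (homOfLE (le_top : U ≤ ⊤)).op) := by
  rw [injective_iff_map_eq_zero]
  intro s hs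
  refine section_eq_zero_of_weakAssPoint M s fun x hx hw => ?_
  rw [← M.presheaf.germ_res_apply (homOfLE (le_top : U ≤ ⊤)) x (hU x hw) s, hs, map_zero]

theorem isZero_of_forall_section [M.IsQuasicoherent]
    (h : ∀ x : X, ¬ Curv2.IsWeakAssPoint M x) : Limits.IsZero M :=
  (Limits.IsZero.iff_id_eq_zero M).mpr <| Scheme.Modules.hom_ext _ _ fun U => by
    ext s
    exact section_eq_zero_of_weakAssPoint M s fun x _ hw => (h x hw).elim

end Groth.Agent.ModStalk
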