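import Groth.Agent.ModStalk.Stalk
import Groth.Prelude.Def_FDesc
import Mathlib.RingTheory.Flat.FaithfullyFlat.Basic
import Mathlib.RingTheory.Nakayama
import Mathlib.AlgebraicGeometry.Stalk

/-! Quasi-flat morphisms are generalizing. -/

set_option autoImplicit false
universe u

open CategoryTheory AlgebraicGeometry TensorProduct

namespace Groth.Agent.ModStalk

theorem comap_surjective_of_module {R A : Type u} [CommRing R] [CommRing A] [IsLocalRing R]
    [IsLocalRing A] [Algebra R A] [IsLocalHom (algebraMap R A)] (M : Type u) [AddCommGroup M]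
    [Module R M] [Module A M] [IsScalarTower R A M] [Module.Flat R M] [Module.Finite A M]
    [Nontrivial M] : Function.Surjective (PrimeSpectrum.comap (algebraMap R A)) := by
  have : Module.FaithfullyFlat R M := ⟨fun m hm htop => by
    obtain rfl := IsLocalRing.eq_maximalIdeal hm
    refine Submodule.top_ne_ideal_smul_of_le_jacobson_annihilator (R := A) (M := M)
      (I := IsLocalRing.maximalIdeal A) (IsLocalRing.maximalIdeal_le_jacobson _) (le_antisymm ?_ le_top)
    intro z _
    have hz : z ∈ IsLocalRing.maximalIdeal R • (⊤ : Submodule R M) := htop.ge trivial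
    refine Submodule.smul_induction_on hz (fun r hr x _ => ?_) (fun a b ha hb => add_mem ha hb)
    rw [← algebraMap_smul A r x]
    exact Submodule.smul_mem_smul (map_nonunit (algebraMap R A) r hr) trivial⟩
  intro p
  rw [← Set.mem_range, PrimeSpectrum.mem_range_comap_iff]
  refine le_antisymm (fun a ha => ?_) Ideal.le_comap_map
  have hmem : ∀ x : M, a • x ∈ p.asIdeal • (⊤ : Submodule R M) := fun x => by
    rw [← algebraMap_smul A a x]
    have h : ∀ b ∈ p.asIdeal.map (algebraMap R A), ∀ x : M, b • x ∈ p.asIdeal • (⊤ : Submodule R M) := by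
      intro b hb
      induction hb using Submodule.span_induction with
      | mem b hb =>
        obtain ⟨r, hr, rfl⟩ := hb
        intro x; rw [algebraMap_smul]; exact Submodule.smul_mem_smul hr trivial
      | zero => simp
      | add b c _ _ hb hc => intro x; rw [add_smul]; exact add_mem (hb x) (hc x)
      | smul c b _ hb => intro x; rw [smul_eq_mul, mul_comm, mul_smul]; exact hb (c • x)
    exact h _ ha x
  let φ : R →ₗ[R] R ⧸ p.asIdeal := (p.asIdeal.mkQ).comp (LinearMap.mulLeft R a)
  have hφ : φ.lTensor M = 0 := by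
    refine TensorProduct.ext' fun x r => ?_
    change x ⊗ₜ[R] Submodule.Quotient.mk (a * r) = 0
    rw [show Submodule.Quotient.mk (p := p.asIdeal) (a * r) = a • Submodule.Quotient.mk r from rfl,
      ← smul_tmul]
    generalize hw : a • x = w
    have hmw : w ∈ p.asIdeal • (⊤ : Submodule R M) := hw ▸ hmem x
    clear hw
    refine Submodule.smul_induction_on hmw (fun q hq y _ => ?_)
      (fun u v hu hv => by rw [add_tmul, hu, hv, add_zero])
    rw [smul_tmul, ← Submodule.Quotient.mk_smul,
      (Submodule.Quotient.mk_eq_zero p.asIdeal).mpr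
        (show q • r ∈ p.asIdeal by rw [smul_eq_mul]; exact p.asIdeal.mul_mem_right r hq), tmul_zero]
  have h0 : φ = 0 := (Module.FaithfullyFlat.zero_iff_lTensor_zero R M φ).mpr hφ
  have := LinearMap.congr_fun h0 1
  simpa [φ, Ideal.Quotient.eq_zero_iff_mem] using this

theorem generalizingMap_of_isQuasiFlat {X Y : Scheme.{u}} (f : X ⟶ Y) (hf : FDesc.IsQuasiFlat f) :
    GeneralizingMap f.base := by
  obtain ⟨M, ⟨_, hft⟩, hflat, hne⟩ := hf
  intro x y' (hy' : y' ⤳ f x)
  obtain ⟨p, rfl⟩ : y' ∈ Set.range (Y.fromSpecStalk (f x)) := by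
    rw [Scheme.range_fromSpecStalk]; exact hy'
  letI := (f.stalkMap x).hom.toAlgebra
  letI := FlatMod.moduleStalkOver f M x
  have : IsScalarTower (Y.presheaf.stalk (f x)) (X.presheaf.stalk x) (M.presheaf.stalk x) :=
    IsScalarTower.of_algebraMap_smul fun _ _ => rfl
  have : Module.Flat (Y.presheaf.stalk (f x)) (M.presheaf.stalk x) := hflat x
  have := hne x
  have : IsLocalHom (algebraMap (Y.presheaf.stalk (f x)) (X.presheaf.stalk x)) :=
    inferInstanceAs (IsLocalHom (f.stalkMap x).hom)
  obtain ⟨q, hq⟩ := comap_surjective_of_module (R := Y.presheaf.stalk (f x))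
    (A := X.presheaf.stalk x) (M.presheaf.stalk x) p
  refine ⟨X.fromSpecStalk x q, ?_, ?_⟩
  · have : X.fromSpecStalk x q ∈ Set.range (X.fromSpecStalk x) := ⟨q, rfl⟩
    rwa [Scheme.range_fromSpecStalk] at this
  · show (X.fromSpecStalk x ≫ f) q = _
    rw [← Scheme.SpecMap_stalkMap_fromSpecStalk, Scheme.Hom.comp_apply]
    exact congrArg _ hq

theorem preimage_closure_range {X Y Y' : Scheme.{u}} (f : X ⟶ Y) (hgen : GeneralizingMap f.base)
    (g : Y' ⟶ Y) (hs : ∀ y ∈ closure (Set.range g.base), ∃ z, g.base z ⤳ y) :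
    f.base ⁻¹' closure (Set.range g.base) = closure (f.base ⁻¹' Set.range g.base) := by
  refine subset_antisymm (fun x hx => ?_) (f.continuous.closure_preimage_subset _)
  obtain ⟨z, hz⟩ := hs _ hx
  obtain ⟨x', hx', hfx'⟩ := hgen hz
  exact Specializes.mem_closed hx' isClosed_closure (subset_closure ⟨z, hfx'.symm⟩)

end Groth.Agent.ModStalk
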