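import Groth.Agent.ModStalk.Unit

/-! The stalks of the structure sheaf as a module; zero divisors and associated points. -/

set_option autoImplicit false
universe u

open CategoryTheory AlgebraicGeometry Opposite TopologicalSpace

namespace Groth.Agent.ModStalk

variable {X : Scheme.{u}}

/-- A function as a section of the structure sheaf seen as a module. -/
def toUnit {U : X.Opens} (t : Γ(X, U)) : Γ(Coh.structureModule X, U) := t

theorem germ_toUnit {U : X.Opens} (x : X) (hx : x ∈ U) (t : Γ(X, U)) :
    (Coh.structureModule X).presheaf.germ U x hx (toUnit t) =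
      X.presheaf.germ U x hx t •
        (Coh.structureModule X).presheaf.germ (⊤ : X.Opens) x trivial (toUnit (1 : Γ(X, ⊤))) := by
  rw [← (Coh.structureModule X).presheaf.germ_res_apply (homOfLE (le_top : U ≤ ⊤)) x hx (toUnit 1),
    ← germ_smul]
  congr 1
  show t = t * X.presheaf.map (homOfLE (le_top : U ≤ ⊤)).op 1
  rw [map_one, mul_one]

/-- The stalk of the structure sheaf as a module is the local ring. -/
noncomputable def unitStalkEquiv (x : X) :
    X.presheaf.stalk x ≃ₗ[X.presheaf.stalk x] (Coh.structureModule X).presheaf.stalk x :=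
  LinearEquiv.ofBijective (LinearMap.toSpanSingleton _ _
    ((Coh.structureModule X).presheaf.germ (⊤ : X.Opens) x trivial (toUnit (1 : Γ(X, ⊤))))) <| by
  constructor
  · refine (injective_iff_map_eq_zero _).mpr fun a ha => ?_
    obtain ⟨U, hx, t, rfl⟩ := X.presheaf.exists_germ_eq (x := x) a
    rw [LinearMap.toSpanSingleton_apply, ← germ_toUnit] at ha
    obtain ⟨W, hxW, i, j, h⟩ :=
      (Coh.structureModule X).presheaf.germ_eq x hx hx (toUnit t) 0 (ha.trans (map_zero _).symm)
    rw [map_zero] at h
    rw [← X.presheaf.germ_res_apply i x hxW t]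
    exact (congrArg (X.presheaf.germ W x hxW) (show X.presheaf.map i.op t = 0 from h)).trans (map_zero _)
  · intro m
    obtain ⟨U, hx, t, rfl⟩ := (Coh.structureModule X).presheaf.exists_germ_eq (x := x) m
    exact ⟨X.presheaf.germ U x hx t, (germ_toUnit x hx t).symm⟩

theorem unitStalkEquiv_germ {U : X.Opens} (x : X) (hx : x ∈ U) (t : Γ(X, U)) :
    unitStalkEquiv x (X.presheaf.germ U x hx t) = (Coh.structureModule X).presheaf.germ U x hx (toUnit t) :=
  (germ_toUnit x hx t).symm

theorem germ_toUnit_eq_zero_iff {U : X.Opens} (x : X) (hx : x ∈ U) (t : Γ(X, U)) :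
    (Coh.structureModule X).presheaf.germ U x hx (toUnit t) = 0 ↔ X.presheaf.germ U x hx t = 0 := by
  rw [← unitStalkEquiv_germ, LinearEquiv.map_eq_zero_iff]

theorem isAssPoint_unit_iff (x : X) :
    Curv2.IsAssPoint (Coh.structureModule X) x ↔
      IsAssociatedPrime (IsLocalRing.maximalIdeal (X.presheaf.stalk x)) (X.presheaf.stalk x) :=
  (LinearEquiv.isAssociatedPrime_iff (unitStalkEquiv x)).symm

/-- A function that is a unit (or just regular) at every weakly associated point is regular everywhere. -/
theorem germ_mem_nonZeroDivisors {U : X.Opens} (s : Γ(X, U))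
    (h : ∀ (y : X) (hy : y ∈ U), Curv2.IsWeakAssPoint (Coh.structureModule X) y →
      X.presheaf.germ U y hy s ∈ nonZeroDivisors (X.presheaf.stalk y))
    (x : X) (hx : x ∈ U) : X.presheaf.germ U x hx s ∈ nonZeroDivisors (X.presheaf.stalk x) := by
  rw [mem_nonZeroDivisors_iff_right]
  intro a ha
  obtain ⟨V, hxV, t, rfl⟩ := X.presheaf.exists_germ_eq (x := x) a
  have hx' : x ∈ V ⊓ U := ⟨hxV, hx⟩
  rw [← X.presheaf.germ_res_apply (homOfLE (inf_le_left : V ⊓ U ≤ V)) x hx' t,
    ← X.presheaf.germ_res_apply (homOfLE (inf_le_right : V ⊓ U ≤ U)) x hx' s, ← map_mul] at ha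
  obtain ⟨W, hxW, i, j, hW⟩ := X.presheaf.germ_eq x hx' hx' _ 0
    (ha.trans (map_zero _).symm)
  rw [map_mul, map_zero] at hW
  let t' : Γ(X, W) := X.presheaf.map i.op (X.presheaf.map (homOfLE (inf_le_left : V ⊓ U ≤ V)).op t)
  have hz : toUnit t' = 0 := by
    refine section_eq_zero_of_weakAssPoint (Coh.structureModule X) _ fun y hy hw => ?_
    rw [germ_toUnit_eq_zero_iff]
    refine (mem_nonZeroDivisors_iff_right.mp (h y ((leOfHom i) hy).2 hw)) _ ?_
    have := congrArg (X.presheaf.germ W y hy) hW
    rw [map_mul, map_zero, TopCat.Presheaf.germ_res_apply _ i, TopCat.Presheaf.germ_res_apply _ i,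
      TopCat.Presheaf.germ_res_apply _ (homOfLE inf_le_right)] at this
    rw [TopCat.Presheaf.germ_res_apply _ i]
    exact this
  have h0 : X.presheaf.germ W x hxW t' = 0 := by
    rw [← germ_toUnit_eq_zero_iff, hz, map_zero]
  rw [TopCat.Presheaf.germ_res_apply _ i, TopCat.Presheaf.germ_res_apply _ (homOfLE inf_le_left)] at h0
  exact h0

/-- A regular element of a zero-dimensional local ring of a scheme is a unit. -/
theorem isUnit_of_minimal {Y : Scheme.{u}} (z : Y) (hz : ∀ y : Y, y ⤳ z → y = z)
    {a : Y.presheaf.stalk z} (ha : a ∈ nonZeroDivisors (Y.presheaf.stalk z)) : IsUnit a := by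
  by_contra hu
  have hsub : ∀ p q : Spec (Y.presheaf.stalk z), p = q := fun p q => by
    apply (Y.fromSpecStalk z).isEmbedding.injective
    have h : ∀ r, Y.fromSpecStalk z r = z := fun r => hz _ (by
      have : Y.fromSpecStalk z r ∈ Set.range (Y.fromSpecStalk z) := ⟨r, rfl⟩
      rwa [Scheme.range_fromSpecStalk] at this)
    exact (h p).trans (h q).symm
  have hnil : IsNilpotent a := by
    rw [nilpotent_iff_mem_prime]
    intro J hJ
    have h := hsub ⟨J, hJ⟩ (IsLocalRing.closedPoint _)
    rw [show J = IsLocalRing.maximalIdeal _ from congrArg PrimeSpectrum.asIdeal h]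
    exact hu
  obtain ⟨n, hn⟩ := hnil
  have := pow_mem ha n
  rw [hn] at this
  exact zero_ne_one ((mem_nonZeroDivisors_iff_right.mp this 1 (mul_zero 1)).symm)

end Groth.Agent.ModStalk
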