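import Groth.Agent.ModStalk.Stalk
import Mathlib.AlgebraicGeometry.Modules.Tilde

/-! Sections of quasi-coherent modules on affine opens: localization at a function, stalks. -/

set_option autoImplicit false
universe u

open CategoryTheory AlgebraicGeometry Opposite TopologicalSpace

namespace Groth.Agent.ModStalk

variable {X : Scheme.{u}}

theorem smul_restrict_fromSpec (M : X.Modules) {U : X.Opens} (hU : IsAffineOpen U)
    (V : (Spec Γ(X, U)).Opens) (hle : hU.fromSpec ''ᵁ V ≤ U) (r : Γ(X, U))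
    (x : Γ(M.restrict hU.fromSpec, V)) :
    (M.restrictAppIso hU.fromSpec V).hom (r • x) =
      X.presheaf.map (homOfLE hle).op r • (M.restrictAppIso hU.fromSpec V).hom x := by
  rw [Scheme.Modules.smul_Spec_def]
  have h1 : (hU.fromSpec.appIso V).hom (X.presheaf.map (homOfLE hle).op r) =
      (Spec Γ(X, U)).presheaf.map V.leTop.op ((Scheme.ΓSpecIso Γ(X, U)).inv r) := by
    have hV : (⊤ : (Spec Γ(X, U)).Opens) ≤ hU.fromSpec ⁻¹ᵁ U := hU.fromSpec_preimage_self.ge
    rw [Scheme.Hom.appIso_hom', ← CommRingCat.comp_apply, Scheme.Hom.map_appLE,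
      ← Scheme.Hom.appLE_map hU.fromSpec hV V.leTop.op, CommRingCat.comp_apply]
    congr 1
    rw [Scheme.Hom.appLE, hU.fromSpec_app_self, Category.assoc, ← Functor.map_comp]
    simp
  change (M.smul ((hU.fromSpec.appIso V).inv _)).hom ((M.restrictAppIso hU.fromSpec V).hom x) = _
  rw [← h1, ← CommRingCat.comp_apply, Iso.hom_inv_id]
  rfl

theorem res_res (M : X.Modules) {A B C : X.Opens} (h₁ : B ≤ A) (h₂ : C ≤ B) (x : Γ(M, A)) :
    M.presheaf.map (homOfLE h₂).op (M.presheaf.map (homOfLE h₁).op x) =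
      M.presheaf.map (homOfLE (h₂.trans h₁)).op x := by
  rw [← ConcreteCategory.comp_apply, ← Functor.map_comp]; rfl

theorem res_resX {A B C : X.Opens} (h₁ : B ≤ A) (h₂ : C ≤ B) (x : Γ(X, A)) :
    X.presheaf.map (homOfLE h₂).op (X.presheaf.map (homOfLE h₁).op x) =
      X.presheaf.map (homOfLE (h₂.trans h₁)).op x := by
  rw [← ConcreteCategory.comp_apply, ← Functor.map_comp]; rfl

/-- A section over a basic open extends after multiplication by a power of the function. -/
theorem exists_extend (M : X.Modules) [M.IsQuasicoherent] {U : X.Opens} (hU : IsAffineOpen U)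
    (g : Γ(X, U)) (t : Γ(M, X.basicOpen g)) :
    ∃ (n : ℕ) (s : Γ(M, U)), M.presheaf.map (homOfLE (X.basicOpen_le g)).op s =
      X.presheaf.map (homOfLE (X.basicOpen_le g)).op g ^ n • t := by
  let N := M.restrict hU.fromSpec
  have hloc := (AlgebraicGeometry.isIso_fromTildeΓ_iff_isLocalizing N).mp inferInstance g
  have hD : hU.fromSpec ''ᵁ PrimeSpectrum.basicOpen g = X.basicOpen g := hU.fromSpec_image_basicOpen g
  have hT : hU.fromSpec ''ᵁ ⊤ = U := by rw [Scheme.Hom.image_top_eq_opensRange, hU.opensRange_fromSpec]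
  obtain ⟨⟨s, ⟨_, n, rfl⟩⟩, hs⟩ := hloc.surj
    ((M.restrictAppIso hU.fromSpec _).inv (M.presheaf.map (homOfLE hD.le).op t))
  refine ⟨n, M.presheaf.map (homOfLE hT.ge).op ((M.restrictAppIso hU.fromSpec ⊤).hom s), ?_⟩
  let D : (Spec Γ(X, U)).Opens := PrimeSpectrum.basicOpen g
  let t₀ : Γ(N, D) := (M.restrictAppIso hU.fromSpec D).inv (M.presheaf.map (homOfLE hD.le).op t)
  have hs' : (M.restrictAppIso hU.fromSpec D).hom ((g ^ n) • t₀) =
      M.presheaf.map (homOfLE (hU.fromSpec.image_mono le_top)).op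
        ((M.restrictAppIso hU.fromSpec ⊤).hom s) :=
    congrArg (M.restrictAppIso hU.fromSpec D).hom hs
  rw [smul_restrict_fromSpec M hU _ (hD.le.trans (X.basicOpen_le g))] at hs'
  have h2 := congrArg (M.presheaf.map (homOfLE hD.ge).op) hs'
  erw [Scheme.Modules.map_smul] at h2
  have e1 : (M.restrictAppIso hU.fromSpec D).hom t₀ = M.presheaf.map (homOfLE hD.le).op t := rfl
  rw [e1] at h2
  erw [res_res, res_res, res_resX, map_pow] at h2
  erw [res_res]
  have hid : M.presheaf.map (homOfLE (le_refl (X.basicOpen g))).op t = t := by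
    rw [show (homOfLE (le_refl (X.basicOpen g))).op = 𝟙 _ from rfl, CategoryTheory.Functor.map_id]; rfl
  rw [← hid]
  exact h2.symm

/-- A section vanishing on a basic open is killed by a power of the function. -/
theorem exists_pow_smul_eq_zero (M : X.Modules) [M.IsQuasicoherent] {U : X.Opens} (hU : IsAffineOpen U)
    (g : Γ(X, U)) (s : Γ(M, U)) (h : M.presheaf.map (homOfLE (X.basicOpen_le g)).op s = 0) :
    ∃ n : ℕ, g ^ n • s = 0 := by
  let N := M.restrict hU.fromSpec
  have hloc := (AlgebraicGeometry.isIso_fromTildeΓ_iff_isLocalizing N).mp inferInstance g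
  have hD : hU.fromSpec ''ᵁ PrimeSpectrum.basicOpen g = X.basicOpen g := hU.fromSpec_image_basicOpen g
  have hT : hU.fromSpec ''ᵁ ⊤ = U := by rw [Scheme.Hom.image_top_eq_opensRange, hU.opensRange_fromSpec]
  let s₀ : Γ(N, ⊤) := (M.restrictAppIso hU.fromSpec ⊤).inv (M.presheaf.map (homOfLE hT.le).op s)
  have h0 : ((modulesSpecToSheaf.obj N).obj.map
      (PrimeSpectrum.basicOpen g).leTop.op).hom s₀ = 0 := by
    show M.presheaf.map (homOfLE (hU.fromSpec.image_mono le_top)).op
      (M.presheaf.map (homOfLE hT.le).op s) = 0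
    rw [← ConcreteCategory.comp_apply, ← Functor.map_comp]
    have := congrArg (M.presheaf.map (homOfLE hD.le).op) h
    rw [map_zero, ← ConcreteCategory.comp_apply, ← Functor.map_comp] at this
    exact this
  obtain ⟨⟨_, n, rfl⟩, hn⟩ := (IsLocalizedModule.eq_zero_iff (Submonoid.powers g) _).mp h0
  refine ⟨n, ?_⟩
  have h1 : (M.restrictAppIso hU.fromSpec ⊤).hom ((g ^ n) • s₀) = 0 :=
    (congrArg (M.restrictAppIso hU.fromSpec ⊤).hom hn).trans (map_zero _)
  rw [smul_restrict_fromSpec M hU ⊤ hT.le] at h1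
  have h2 := congrArg (M.presheaf.map (homOfLE hT.ge).op) h1
  erw [Scheme.Modules.map_smul] at h2
  have e1 : (M.restrictAppIso hU.fromSpec ⊤).hom s₀ = M.presheaf.map (homOfLE hT.le).op s := rfl
  rw [e1, map_zero] at h2
  erw [res_res, res_resX, map_pow] at h2
  have hid : M.presheaf.map (homOfLE (le_refl U)).op s = s := by
    rw [show (homOfLE (le_refl U)).op = 𝟙 _ from rfl, CategoryTheory.Functor.map_id]; rfl
  have hidX : X.presheaf.map (homOfLE (le_refl U)).op g = g := by
    rw [show (homOfLE (le_refl U)).op = 𝟙 _ from rfl, CategoryTheory.Functor.map_id]; rfl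
  rw [← hid, ← hidX]
  exact h2

/-- Every stalk element is, up to a unit, the germ of a section on a given affine neighbourhood. -/
theorem exists_smul_eq_germ (M : X.Modules) [M.IsQuasicoherent] {U : X.Opens} (hU : IsAffineOpen U)
    (x : X) (hx : x ∈ U) (m : M.presheaf.stalk x) :
    ∃ (c : Γ(X, U)) (s : Γ(M, U)), x ∈ X.basicOpen c ∧
      X.presheaf.germ U x hx c • m = M.presheaf.germ U x hx s := by
  obtain ⟨W, hxW, t, rfl⟩ := M.presheaf.exists_germ_eq (x := x) m
  obtain ⟨g, hg, hxg⟩ := hU.exists_basicOpen_le (V := W) ⟨x, hxW⟩ hx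
  obtain ⟨n, s, hs⟩ := exists_extend M hU g (M.presheaf.map (homOfLE hg).op t)
  refine ⟨g ^ (n + 1), g • s, by rw [Scheme.basicOpen_pow _ _ n.succ_pos]; exact hxg, ?_⟩
  rw [germ_smul, map_pow, pow_succ', mul_smul]
  congr 1
  rw [← M.presheaf.germ_res_apply (homOfLE (X.basicOpen_le g)) x hxg s, hs, germ_smul, map_pow,
    TopCat.Presheaf.germ_res_apply, TopCat.Presheaf.germ_res_apply]

/-- A section with vanishing germ is killed by a function not vanishing at the point. -/
theorem exists_smul_eq_zero_of_germ (M : X.Modules) [M.IsQuasicoherent] {U : X.Opens}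
    (hU : IsAffineOpen U) (x : X) (hx : x ∈ U) (s : Γ(M, U)) (h : M.presheaf.germ U x hx s = 0) :
    ∃ c : Γ(X, U), x ∈ X.basicOpen c ∧ c • s = 0 := by
  obtain ⟨W, hxW, i, j, hW⟩ := M.presheaf.germ_eq x hx hx s 0 (h.trans (map_zero _).symm)
  obtain ⟨g, hg, hxg⟩ := hU.exists_basicOpen_le (V := W) ⟨x, hxW⟩ hx
  have h0 : M.presheaf.map (homOfLE (X.basicOpen_le g)).op s = 0 := by
    rw [show (homOfLE (X.basicOpen_le g)).op = i.op ≫ (homOfLE hg).op from rfl, Functor.map_comp,
      ConcreteCategory.comp_apply, hW, map_zero, map_zero]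
  obtain ⟨n, hn⟩ := exists_pow_smul_eq_zero M hU g s h0
  exact ⟨g ^ (n + 1), by rw [Scheme.basicOpen_pow _ _ n.succ_pos]; exact hxg,
    by rw [pow_succ', mul_smul, hn, smul_zero]⟩

end Groth.Agent.ModStalk
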