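import Groth.Agent.ModStalk.UnitStalk
import Groth.Prelude.Def_RefHull

/-! Associated points: supported sections, exact sequences, generic points. -/

set_option autoImplicit false
universe u

open CategoryTheory CategoryTheory.Limits AlgebraicGeometry Opposite TopologicalSpace

namespace Groth.Agent.ModStalk

variable {X : Scheme.{u}}

/-- Near an associated point there is a section with nonzero germ supported in the closure of the point. -/
theorem exists_supported_section [IsLocallyNoetherian X] (M : X.Modules) [M.IsQuasicoherent] {x : X}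
    (hx : Curv2.IsAssPoint M x) :
    ∃ (D : X.Opens) (hxD : x ∈ D), IsAffineOpen D ∧ ∃ s : Γ(M, D), M.presheaf.germ D x hxD s ≠ 0 ∧
      ∀ (y : X) (hy : y ∈ D), ¬ x ⤳ y → M.presheaf.germ D y hy s = 0 := by
  obtain ⟨hp, m, hm⟩ := isAssociatedPrime_iff.mp hx
  obtain ⟨W, hxW, t, rfl⟩ := M.presheaf.exists_germ_eq (x := x) m
  obtain ⟨_, ⟨V, hV, rfl⟩, hxV, hVW⟩ := X.isBasis_affineOpens.exists_subset_of_mem_open hxW W.isOpen
  replace hVW : V ≤ W := hVW
  rw [← M.presheaf.germ_res_apply (homOfLE hVW) x hxV t] at hm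
  generalize M.presheaf.map (homOfLE hVW).op t = t' at hm
  have := IsLocallyNoetherian.component_noetherian ⟨V, hV⟩
  obtain ⟨T, hT⟩ := IsNoetherian.noetherian (hV.primeIdealOf ⟨x, hxV⟩).asIdeal
  have hkill : ∀ r ∈ T, ∃ c : Γ(X, V), x ∈ X.basicOpen c ∧ c • (r • t') = 0 := fun r hr => by
    have hrp : r ∈ (hV.primeIdealOf ⟨x, hxV⟩).asIdeal := hT ▸ Submodule.subset_span hr
    have hrm : X.presheaf.germ V x hxV r ∈ IsLocalRing.maximalIdeal (X.presheaf.stalk x) := by
      rw [IsLocalRing.mem_maximalIdeal, mem_nonunits_iff, ← Scheme.mem_basicOpen]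
      exact fun h => (germ_mem_primeIdeal_iff hV ⟨x, hxV⟩ r).mpr h hrp
    rw [hm, Submodule.mem_colon_singleton, Submodule.mem_bot, ← germ_smul] at hrm
    exact exists_smul_eq_zero_of_germ M hV x hxV _ hrm
  choose c hc hc0 using hkill
  let cc : Γ(X, V) := ∏ r : T, c r.1 r.2
  have hcc : x ∈ X.basicOpen cc := by
    rw [Scheme.mem_basicOpen _ _ _ hxV, map_prod, IsUnit.prod_univ_iff]
    exact fun r => (Scheme.mem_basicOpen _ _ _ hxV).mp (hc r.1 r.2)
  refine ⟨X.basicOpen cc, hcc, hV.basicOpen cc, M.presheaf.map (homOfLE (X.basicOpen_le cc)).op t', ?_, ?_⟩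
  · intro h0
    rw [TopCat.Presheaf.germ_res_apply] at h0
    apply hp.ne_top
    rw [hm, h0, Ideal.eq_top_iff_one]
    exact Submodule.mem_colon_singleton.mpr (by simp)
  · intro y hy hxy
    have hyV : y ∈ V := X.basicOpen_le cc hy
    rw [TopCat.Presheaf.germ_res_apply]
    obtain ⟨r, hr, hry⟩ : ∃ r ∈ T, r ∉ (hV.primeIdealOf ⟨y, hyV⟩).asIdeal := by
      by_contra hall
      push Not at hall
      refine hxy (specializes_of_primeIdeal_le hV (x := ⟨y, hyV⟩) (y := ⟨x, hxV⟩) ?_)
      rw [← hT]; exact Submodule.span_le.mpr hall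
    have hur := (Scheme.mem_basicOpen _ _ _ hyV).mp ((germ_mem_primeIdeal_iff hV ⟨y, hyV⟩ r).mp hry)
    have huc : IsUnit (X.presheaf.germ V y hyV (c r hr)) := by
      have h := (Scheme.mem_basicOpen _ _ _ hyV).mp hy
      rw [map_prod, IsUnit.prod_univ_iff] at h
      exact h ⟨r, hr⟩
    have h0 := congrArg (M.presheaf.germ V y hyV) (hc0 r hr)
    rw [germ_smul, germ_smul, map_zero, huc.smul_eq_zero, hur.smul_eq_zero] at h0
    exact h0

theorem stalkMap_injective_of_mono {M N : X.Modules} (i : N ⟶ M) [Mono i] (x : X) :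
    Function.Injective (RefHull.stalkMapₗ i x) := by
  rw [injective_iff_map_eq_zero]
  intro v hv
  obtain ⟨U, hx, a, rfl⟩ := N.presheaf.exists_germ_eq (x := x) v
  rw [RefHull.stalkMapₗ_germ] at hv
  obtain ⟨W, hxW, i₁, i₂, h⟩ := M.presheaf.germ_eq x hx hx _ 0 (hv.trans (map_zero _).symm)
  rw [map_zero] at h
  have h' : N.presheaf.map i₁.op a = 0 := injective_app_of_mono M i W (by
    rw [map_zero, ← h]
    exact ConcreteCategory.congr_hom (i.mapPresheaf.naturality i₁.op) a)
  rw [← N.presheaf.germ_res_apply i₁ x hxW a, h', map_zero]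

theorem stalkMap_exact (S : ShortComplex X.Modules) (hS : S.Exact) [Mono S.f] (x : X) :
    Function.Exact (RefHull.stalkMapₗ S.f x) (RefHull.stalkMapₗ S.g x) := by
  intro v
  constructor
  · intro hv
    obtain ⟨U, hx, a, rfl⟩ := S.X₂.presheaf.exists_germ_eq (x := x) v
    rw [RefHull.stalkMapₗ_germ] at hv
    obtain ⟨W, hxW, i₁, i₂, h⟩ := S.X₃.presheaf.germ_eq x hx hx _ 0 (hv.trans (map_zero _).symm)
    rw [map_zero] at h
    let F := Scheme.Modules.toPresheaf X ⋙ (evaluation _ _).obj (op W)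
    have : F.PreservesZeroMorphisms := ⟨fun _ _ => rfl⟩
    have : PreservesLimitsOfSize.{0, 0} (Scheme.Modules.toPresheaf X) := preservesLimitsOfSize_shrink _
    have h2e : PreservesLimitsOfShape WalkingParallelPair ((evaluation (Opens X)ᵒᵖ Ab.{u}).obj (op W)) :=
      inferInstance
    have : PreservesLimit (parallelPair S.g 0) F :=
      @comp_preservesLimit _ _ _ _ _ _ _ _ _ (Scheme.Modules.toPresheaf X) ((evaluation _ _).obj (op W)) _
        h2e.preservesLimit
    have hex := hS.map_of_mono_of_preservesKernel F inferInstance inferInstance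
    have h2 : S.g.app W (S.X₂.presheaf.map i₁.op a) = 0 := by
      rw [← h]
      exact ConcreteCategory.congr_hom (S.g.mapPresheaf.naturality i₁.op) a
    obtain ⟨b, hb⟩ := (ShortComplex.ab_exact_iff _).mp hex _ h2
    refine ⟨S.X₁.presheaf.germ W x hxW b, ?_⟩
    erw [RefHull.stalkMapₗ_germ S.f x hxW b, hb]
    exact TopCat.Presheaf.germ_res_apply ..
  · rintro ⟨b, rfl⟩
    obtain ⟨U, hx, a, rfl⟩ := S.X₁.presheaf.exists_germ_eq (x := x) b
    rw [RefHull.stalkMapₗ_germ, RefHull.stalkMapₗ_germ]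
    have h0 : S.g.app U (S.f.app U a) = 0 := congrArg (fun f => Scheme.Modules.Hom.app f U a) S.zero
    rw [h0, map_zero]

/-- A point with no proper generization is an associated point of the structure sheaf. -/
theorem isAssPoint_unit_of_minimal (x : X) (hx : ∀ y : X, y ⤳ x → y = x) :
    Curv2.IsAssPoint (Coh.structureModule X) x := by
  rw [isAssPoint_iff_isWeakAssPoint]
  obtain ⟨_, ⟨V, hV, rfl⟩, hxV, -⟩ :=
    X.isBasis_affineOpens.exists_subset_of_mem_open (Set.mem_univ x) isOpen_univ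
  obtain ⟨y, hyx, -, hw⟩ := exists_isWeakAssPoint hV (Coh.structureModule X) ⟨x, hxV⟩
    (toUnit (1 : Γ(X, V))) (by rw [Ne, germ_toUnit_eq_zero_iff, map_one]; exact one_ne_zero)
  exact hx y.1 hyx ▸ hw

end Groth.Agent.ModStalk
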