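import Groth.Agent.ModStalk.Pullback
import Groth.Agent.ModStalk.AssPoint
import Groth.Agent.ModStalk.Localization
import Groth.Agent.ModStalk.Affine

/-! Stalkwise criteria for mono and epi of restricted morphisms; open loci. -/

set_option autoImplicit false
universe u

open CategoryTheory CategoryTheory.Limits AlgebraicGeometry

namespace Groth.Agent.ModStalk

variable {X Y : Scheme.{u}}

theorem mono_of_stalkMap_injective {F G : X.Modules} (u : F ⟶ G)
    (h : ∀ x, Function.Injective (RefHull.stalkMapₗ u x)) : Mono u := by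
  refine ⟨fun {Z} g g' e => Scheme.Modules.hom_ext g g' fun U => ?_⟩
  ext t
  refine eq_of_germ_eq _ _ _ fun x hx => h x ?_
  rw [RefHull.stalkMapₗ_germ, RefHull.stalkMapₗ_germ]
  exact congrArg _ (congrArg (fun φ => Scheme.Modules.Hom.app φ U t) e)

theorem stalkMap_restrict_injective (j : X ⟶ Y) [IsOpenImmersion j] {F G : Y.Modules} (u : F ⟶ G) (x : X)
    (h : Function.Injective (RefHull.stalkMapₗ u (j x))) :
    Function.Injective (RefHull.stalkMapₗ ((Scheme.Modules.restrictFunctor j).map u) x) := by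
  have nat := (Scheme.Modules.restrictStalkNatIso j x).hom.naturality u
  have hF := ConcreteCategory.bijective_of_isIso ((Scheme.Modules.restrictStalkNatIso j x).hom.app F)
  intro a b hab
  apply hF.1
  apply h
  exact (ConcreteCategory.congr_hom nat a).symm.trans
    ((congrArg ((Scheme.Modules.restrictStalkNatIso j x).hom.app G) hab).trans (ConcreteCategory.congr_hom nat b))

theorem stalkMap_restrict_surjective (j : X ⟶ Y) [IsOpenImmersion j] {F G : Y.Modules} (u : F ⟶ G) (x : X)
    (h : Function.Surjective (RefHull.stalkMapₗ u (j x))) :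
    Function.Surjective (RefHull.stalkMapₗ ((Scheme.Modules.restrictFunctor j).map u) x) := by
  have nat := (Scheme.Modules.restrictStalkNatIso j x).hom.naturality u
  have hG := ConcreteCategory.bijective_of_isIso ((Scheme.Modules.restrictStalkNatIso j x).hom.app G)
  have hF := ConcreteCategory.bijective_of_isIso ((Scheme.Modules.restrictStalkNatIso j x).hom.app F)
  intro b
  obtain ⟨w, hw⟩ := h ((Scheme.Modules.restrictStalkNatIso j x).hom.app G b)
  obtain ⟨a, rfl⟩ := hF.2 w
  exact ⟨a, hG.1 ((ConcreteCategory.congr_hom nat a).trans hw)⟩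

theorem mono_restrict {F G : X.Modules} (u : F ⟶ G) (U : X.Opens)
    (h : ∀ x ∈ U, Function.Injective (RefHull.stalkMapₗ u x)) :
    Mono ((Scheme.Modules.restrictFunctor U.ι).map u) :=
  mono_of_stalkMap_injective _ fun x => stalkMap_restrict_injective U.ι u x (h _ x.2)

theorem epi_restrict {F G : X.Modules} (u : F ⟶ G) (U : X.Opens)
    (h : ∀ x ∈ U, Function.Surjective (RefHull.stalkMapₗ u x)) :
    Epi ((Scheme.Modules.restrictFunctor U.ι).map u) :=
  epi_of_stalkMap_surjective _ fun x => stalkMap_restrict_surjective U.ι u x (h _ x.2)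

/-- The locus where a morphism onto a finite type module is surjective on stalks is open. -/
theorem exists_nhd_surjective {F G : X.Modules} [SheafOfModules.IsFiniteType (R := X.ringCatSheaf) G] (u : F ⟶ G)
    (x : X) (h : Function.Surjective (RefHull.stalkMapₗ u x)) :
    ∃ U : X.Opens, x ∈ U ∧ ∀ y ∈ U, Function.Surjective (RefHull.stalkMapₗ u y) := by
  obtain ⟨W, hxW, I, _, s, hs⟩ := exists_generators G x
  have hz : ∀ i, ∃ V : X.Opens, x ∈ V ∧ ∀ y (hy : y ∈ W), y ∈ V →
      G.presheaf.germ W y hy (s i) ∈ LinearMap.range (RefHull.stalkMapₗ u y) := by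
    intro i
    obtain ⟨v, hv⟩ := h (G.presheaf.germ W x hxW (s i))
    obtain ⟨V', hxV', b, rfl⟩ := F.presheaf.exists_germ_eq v
    rw [RefHull.stalkMapₗ_germ] at hv
    obtain ⟨V, hxV, i₁, i₂, hV⟩ := G.presheaf.germ_eq x hxV' hxW _ _ hv
    refine ⟨V, hxV, fun y hy hyV => ⟨F.presheaf.germ V' y (i₁.le hyV) b, ?_⟩⟩
    rw [RefHull.stalkMapₗ_germ, ← G.presheaf.germ_res_apply i₁ y hyV, hV, G.presheaf.germ_res_apply]
  choose V hxV hV using hz
  refine ⟨⟨(W : Set X) ∩ ⋂ i, (V i : Set X), W.isOpen.inter (isOpen_iInter_of_finite fun i => (V i).isOpen)⟩,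
    ⟨hxW, Set.mem_iInter.mpr hxV⟩, fun y hy => ?_⟩
  rw [← LinearMap.range_eq_top, eq_top_iff, ← hs y hy.1, Submodule.span_le]
  rintro _ ⟨i, rfl⟩
  exact hV i y hy.1 (Set.mem_iInter.mp hy.2 i)

/-- The locus where a morphism of quasi-coherent modules with finite type source is injective on stalks is open. -/
theorem exists_nhd_injective [IsLocallyNoetherian X] {F G : X.Modules} [F.IsQuasicoherent] [G.IsQuasicoherent]
    [SheafOfModules.IsFiniteType (R := X.ringCatSheaf) F] (u : F ⟶ G)
    (x : X) (h : Function.Injective (RefHull.stalkMapₗ u x)) :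
    ∃ U : X.Opens, x ∈ U ∧ ∀ y ∈ U, Function.Injective (RefHull.stalkMapₗ u y) := by
  classical
  obtain ⟨_, ⟨V, hV, rfl⟩, hxV, -⟩ := X.isBasis_affineOpens.exists_subset_of_mem_open (Set.mem_univ x) isOpen_univ
  haveI : IsNoetherianRing Γ(X, V) := IsLocallyNoetherian.component_noetherian ⟨V, hV⟩
  haveI := finite_sections (M := F) hV
  let Φ : Γ(F, V) →ₗ[Γ(X, V)] Γ(G, V) :=
    { toFun := fun s => u.app V s, map_add' := fun a b => map_add _ a b,
      map_smul' := fun r a => Scheme.Modules.Hom.app_smul u r a }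
  obtain ⟨T, hT⟩ := (IsNoetherian.noetherian (LinearMap.ker Φ) : (LinearMap.ker Φ).FG)
  have hc : ∀ t : T, ∃ c : Γ(X, V), x ∈ X.basicOpen c ∧ c • t.1 = 0 := fun t => by
    refine exists_smul_eq_zero_of_germ F hV x hxV t.1 (h ?_)
    have ht : t.1 ∈ LinearMap.ker Φ := hT ▸ Submodule.subset_span t.2
    rw [RefHull.stalkMapₗ_germ, map_zero, show u.app V t.1 = 0 from ht, map_zero]
  choose c hxc hc using hc
  let a := ∏ t, c t
  have ha : ∀ k ∈ LinearMap.ker Φ, a • k = 0 := by
    intro k hk
    rw [← hT] at hk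
    induction hk using Submodule.span_induction with
    | mem t ht =>
      obtain ⟨d, hd⟩ := Finset.dvd_prod_of_mem c (Finset.mem_univ (⟨t, ht⟩ : T))
      show a • t = 0
      rw [show a = c ⟨t, ht⟩ * d from hd, mul_comm, mul_smul, hc ⟨t, ht⟩, smul_zero]
    | zero => exact smul_zero _
    | add p q _ _ hp hq => rw [smul_add, hp, hq, add_zero]
    | smul r p _ hp => rw [smul_comm, hp, smul_zero]
  refine ⟨X.basicOpen a, ?_, fun y hy => ?_⟩
  · rw [Scheme.mem_basicOpen _ _ _ hxV, map_prod, IsUnit.prod_univ_iff]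
    exact fun t => (Scheme.mem_basicOpen _ _ _ hxV).mp (hxc t)
  · have hyV : y ∈ V := X.basicOpen_le a hy
    rw [injective_iff_map_eq_zero]
    intro v hv
    obtain ⟨d, s, hyd, hs⟩ := exists_smul_eq_germ F hV y hyV v
    have h1 : G.presheaf.germ V y hyV (u.app V s) = 0 := by
      rw [← RefHull.stalkMapₗ_germ, ← hs, map_smul, hv, smul_zero]
    obtain ⟨e, hye, he⟩ := exists_smul_eq_zero_of_germ G hV y hyV _ h1
    have h2 := ha (e • s) (by rw [LinearMap.mem_ker, map_smul]; exact he)
    have h3 := congrArg (F.presheaf.germ V y hyV) h2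
    rw [germ_smul, germ_smul, map_zero, smul_smul] at h3
    have h4 := (((Scheme.mem_basicOpen _ _ _ hyV).mp hy).mul ((Scheme.mem_basicOpen _ _ _ hyV).mp hye)).smul_eq_zero.mp h3
    exact ((Scheme.mem_basicOpen _ _ _ hyV).mp hyd).smul_eq_zero.mp (hs.trans h4)

end Groth.Agent.ModStalk
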