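import Groth.Agent.ModStalk.LocFree
import Groth.Agent.ModStalk.UnitStalk
import Groth.Agent.ModStalk.Restrict
import Mathlib.RingTheory.LocalRing.Module
import Mathlib.LinearAlgebra.Dimension.OrzechProperty
import Mathlib.RingTheory.Flat.FaithfullyFlat.Basic
import Mathlib.AlgebraicGeometry.Morphisms.Flat

/-! Ranks of stalks of locally free modules; descent of local freeness. -/

set_option autoImplicit false
set_option linter.style.haveILetI false
universe u

open CategoryTheory CategoryTheory.Limits AlgebraicGeometry Opposite TopologicalSpace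
open scoped TensorProduct

namespace Groth.Agent.ModStalk

variable {X : Scheme.{u}}

theorem stalkMap_id_apply (F : X.Modules) (x : X) (v : F.presheaf.stalk x) :
    RefHull.stalkMapₗ (𝟙 F) x v = v := by
  obtain ⟨U, hU, s, rfl⟩ := F.presheaf.exists_germ_eq v
  rw [RefHull.stalkMapₗ_germ]
  rfl

theorem stalkMap_comp_apply {F G H : X.Modules} (φ : F ⟶ G) (ψ : G ⟶ H) (x : X) (v : F.presheaf.stalk x) :
    RefHull.stalkMapₗ (φ ≫ ψ) x v = RefHull.stalkMapₗ ψ x (RefHull.stalkMapₗ φ x v) := by
  obtain ⟨U, hU, s, rfl⟩ := F.presheaf.exists_germ_eq v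
  simp only [RefHull.stalkMapₗ_germ]
  rfl

theorem stalkMap_zero_apply (F G : X.Modules) (x : X) (v : F.presheaf.stalk x) :
    RefHull.stalkMapₗ (0 : F ⟶ G) x v = 0 := by
  obtain ⟨U, hU, s, rfl⟩ := F.presheaf.exists_germ_eq v
  rw [RefHull.stalkMapₗ_germ]
  exact map_zero _

theorem stalkMap_add_apply {F G : X.Modules} (φ ψ : F ⟶ G) (x : X) (v : F.presheaf.stalk x) :
    RefHull.stalkMapₗ (φ + ψ) x v = RefHull.stalkMapₗ φ x v + RefHull.stalkMapₗ ψ x v := by
  obtain ⟨U, hU, s, rfl⟩ := F.presheaf.exists_germ_eq v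
  simp only [RefHull.stalkMapₗ_germ, ← map_add]
  rfl

/-- An isomorphism of modules as linear equivalences of stalks. -/
noncomputable def stalkEquivOfIso {F G : X.Modules} (e : F ≅ G) (x : X) :
    F.presheaf.stalk x ≃ₗ[X.presheaf.stalk x] G.presheaf.stalk x :=
  LinearEquiv.ofLinear (RefHull.stalkMapₗ e.hom x) (RefHull.stalkMapₗ e.inv x)
    (LinearMap.ext fun v => by
      rw [LinearMap.comp_apply, ← stalkMap_comp_apply, e.inv_hom_id, stalkMap_id_apply, LinearMap.id_apply])
    (LinearMap.ext fun v => by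
      rw [LinearMap.comp_apply, ← stalkMap_comp_apply, e.hom_inv_id, stalkMap_id_apply, LinearMap.id_apply])

/-- The stalks of `freeMod X n` are free of rank `n`. -/
theorem exists_freeMod_stalk_equiv (X : Scheme.{u}) (n : ℕ) (x : X) :
    Nonempty ((FlatMod.freeMod X n).presheaf.stalk x ≃ₗ[X.presheaf.stalk x] (Fin n → X.presheaf.stalk x)) := by
  let O := Coh.structureModule X
  let ι : Fin n → (O ⟶ FlatMod.freeMod X n) := fun i => Sigma.ι (fun _ : Fin n => O) i
  let π : Fin n → (FlatMod.freeMod X n ⟶ O) := fun i => Sigma.desc fun j => if j = i then 𝟙 O else 0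
  have hιπ : ∀ j i, ι j ≫ π i = if j = i then 𝟙 O else 0 := fun j i => Sigma.ι_desc _ _
  have hid : ∑ i, π i ≫ ι i = 𝟙 (FlatMod.freeMod X n) := by
    refine Sigma.hom_ext _ _ fun j => ?_
    rw [Category.comp_id, Preadditive.comp_sum, Finset.sum_eq_single j]
    · rw [← Category.assoc, hιπ, if_pos rfl, Category.id_comp]
    · intro i _ hij
      rw [← Category.assoc, hιπ, if_neg (Ne.symm hij), zero_comp]
    · simp
  have hsum : ∀ v, ∑ i, RefHull.stalkMapₗ (ι i) x (RefHull.stalkMapₗ (π i) x v) = v := by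
    intro v
    let ev : (FlatMod.freeMod X n ⟶ FlatMod.freeMod X n) →+ (FlatMod.freeMod X n).presheaf.stalk x :=
      { toFun := fun φ => RefHull.stalkMapₗ φ x v
        map_zero' := stalkMap_zero_apply _ _ x v
        map_add' := fun φ ψ => stalkMap_add_apply φ ψ x v }
    have h := congrArg ev hid
    rw [map_sum] at h
    refine Eq.trans ?_ (h.trans (stalkMap_id_apply _ x v))
    exact Finset.sum_congr rfl fun i _ => (stalkMap_comp_apply _ _ x v).symm
  let A : (FlatMod.freeMod X n).presheaf.stalk x →ₗ[X.presheaf.stalk x] (Fin n → X.presheaf.stalk x) :=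
    LinearMap.pi fun i => (unitStalkEquiv x).symm.toLinearMap ∘ₗ RefHull.stalkMapₗ (π i) x
  let B : (Fin n → X.presheaf.stalk x) →ₗ[X.presheaf.stalk x] (FlatMod.freeMod X n).presheaf.stalk x :=
    ∑ i, RefHull.stalkMapₗ (ι i) x ∘ₗ (unitStalkEquiv x).toLinearMap ∘ₗ LinearMap.proj i
  refine ⟨LinearEquiv.ofLinear A B (LinearMap.ext fun c => funext fun j => ?_) (LinearMap.ext fun v => ?_)⟩
  · simp only [LinearMap.comp_apply, A, B, LinearMap.pi_apply, LinearMap.sum_apply, map_sum, Finset.sum_apply,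
      LinearEquiv.coe_coe, LinearMap.proj_apply, LinearMap.id_apply, ← stalkMap_comp_apply, hιπ]
    rw [Finset.sum_eq_single j]
    · rw [if_pos rfl, stalkMap_id_apply, LinearEquiv.symm_apply_apply]
    · intro i _ hij
      rw [if_neg hij, stalkMap_zero_apply, map_zero]
    · simp
  · simp only [LinearMap.comp_apply, A, B, LinearMap.pi_apply, LinearMap.sum_apply, LinearEquiv.coe_coe,
      LinearMap.proj_apply, LinearMap.id_apply, LinearEquiv.apply_symm_apply]
    exact hsum v

/-- Flat pullback to a free module: the stalk downstairs is free of that rank. -/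
theorem free_stalk_of_pullback {V Y : Scheme.{u}} (g : V ⟶ Y) [Flat g] (M : Y.Modules)
    [SheafOfModules.IsFiniteType (R := Y.ringCatSheaf) M] {n : ℕ}
    (e : (Scheme.Modules.pullback g).obj M ≅ FlatMod.freeMod V n) (v : V) :
    Module.Free (Y.presheaf.stalk (g v)) (M.presheaf.stalk (g v)) ∧
      Module.finrank (Y.presheaf.stalk (g v)) (M.presheaf.stalk (g v)) = n := by
  obtain ⟨c⟩ := exists_freeMod_stalk_equiv V n v
  obtain ⟨t, -⟩ := exists_pullStalk_equiv g M v
  letI := (g.stalkMap v).hom.toAlgebra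
  let F : V.presheaf.stalk v ⊗[Y.presheaf.stalk (g v)] M.presheaf.stalk (g v) ≃ₗ[V.presheaf.stalk v]
      (Fin n → V.presheaf.stalk v) := t.symm ≪≫ₗ stalkEquivOfIso e v ≪≫ₗ c
  have : IsLocalHom (algebraMap (Y.presheaf.stalk (g v)) (V.presheaf.stalk v)) :=
    inferInstanceAs (IsLocalHom (g.stalkMap v).hom)
  have : Module.Flat (Y.presheaf.stalk (g v)) (V.presheaf.stalk v) := Flat.stalkMap g v
  have : Module.FaithfullyFlat (Y.presheaf.stalk (g v)) (V.presheaf.stalk v) :=
    Module.FaithfullyFlat.of_flat_of_isLocalHom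
  have : Module.Flat (V.presheaf.stalk v) (V.presheaf.stalk v ⊗[Y.presheaf.stalk (g v)] M.presheaf.stalk (g v)) :=
    Module.Flat.of_linearEquiv F
  have : Module.Flat (Y.presheaf.stalk (g v)) (M.presheaf.stalk (g v)) :=
    Module.Flat.of_flat_tensorProduct _ _ (V.presheaf.stalk v)
  have hfree : Module.Free (Y.presheaf.stalk (g v)) (M.presheaf.stalk (g v)) := Module.free_of_flat_of_isLocalRing
  refine ⟨hfree, ?_⟩
  rw [← Module.finrank_baseChange (R := V.presheaf.stalk v), F.finrank_eq, Module.finrank_fin_fun]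

/-- Generation of stalks spreads out. -/
theorem exists_span_nhd (M : X.Modules) [SheafOfModules.IsFiniteType (R := X.ringCatSheaf) M] {U : X.Opens}
    {I : Type*} [Fintype I] (s : I → Γ(M, U)) (x : X) (hx : x ∈ U)
    (h : Submodule.span (X.presheaf.stalk x) (Set.range fun i => M.presheaf.germ U x hx (s i)) = ⊤) :
    ∃ (U' : X.Opens) (hle : U' ≤ U), x ∈ U' ∧ ∀ (y : X) (hy : y ∈ U'),
      Submodule.span (X.presheaf.stalk y) (Set.range fun i => M.presheaf.germ U y (hle hy) (s i)) = ⊤ := by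
  classical
  obtain ⟨W, hxW, J, _, t, ht⟩ := exists_generators M x
  have loc : ∀ j, ∃ W' : X.Opens, x ∈ W' ∧ ∀ y, y ∈ W' → ∀ (hyU : y ∈ U) (hyW : y ∈ W),
      M.presheaf.germ W y hyW (t j) ∈
        Submodule.span (X.presheaf.stalk y) (Set.range fun i => M.presheaf.germ U y hyU (s i)) := by
    intro j
    obtain ⟨a, ha⟩ := (Submodule.mem_span_range_iff_exists_fun (X.presheaf.stalk x)).mp
      (h.ge (Submodule.mem_top (x := M.presheaf.germ W x hxW (t j))))
    choose V hV r hr using fun i => X.presheaf.exists_germ_eq (x := x) (a i)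
    let W₀ : X.Opens := W ⊓ U ⊓ Finset.univ.inf V
    have hx₀ : x ∈ W₀ := ⟨⟨hxW, hx⟩, (Finset.inf_induction (p := fun V : X.Opens => x ∈ V) trivial
      (fun _ h₁ _ h₂ => ⟨h₁, h₂⟩) fun i _ => hV i)⟩
    have hle : ∀ i, W₀ ≤ V i := fun i => inf_le_right.trans (Finset.inf_le (Finset.mem_univ i))
    have hW₀ : W₀ ≤ W := inf_le_left.trans inf_le_left
    have hU₀ : W₀ ≤ U := inf_le_left.trans inf_le_right
    let w : Γ(M, W₀) := ∑ i, X.presheaf.map (homOfLE (hle i)).op (r i) • M.presheaf.map (homOfLE hU₀).op (s i)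
    have hg : M.presheaf.germ W₀ x hx₀ (M.presheaf.map (homOfLE hW₀).op (t j)) = M.presheaf.germ W₀ x hx₀ w := by
      rw [TopCat.Presheaf.germ_res_apply, ← ha, map_sum]
      refine Finset.sum_congr rfl fun i _ => ?_
      rw [germ_smul, TopCat.Presheaf.germ_res_apply, TopCat.Presheaf.germ_res_apply, hr i]
    obtain ⟨W', hxW', i₁, i₂, heq⟩ := M.presheaf.germ_eq x hx₀ hx₀ _ _ hg
    refine ⟨W', hxW', fun y hy hyU hyW => ?_⟩
    have h1 := congrArg (M.presheaf.germ W' y hy) heq
    simp only [TopCat.Presheaf.germ_res_apply] at h1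
    rw [show M.presheaf.germ W y hyW (t j) = M.presheaf.germ W₀ y (i₂.le hy) w from h1, map_sum]
    refine Submodule.sum_mem _ fun i _ => ?_
    rw [germ_smul, TopCat.Presheaf.germ_res_apply]
    exact Submodule.smul_mem _ _ (Submodule.subset_span ⟨i, (TopCat.Presheaf.germ_res_apply _ _ _ _ _).symm⟩)
  choose W' hxW' hW' using loc
  refine ⟨U ⊓ W ⊓ Finset.univ.inf W', inf_le_left.trans inf_le_left, ⟨⟨hx, hxW⟩,
    (Finset.inf_induction (p := fun V : X.Opens => x ∈ V) trivial
      (fun _ h₁ _ h₂ => ⟨h₁, h₂⟩) fun j _ => hxW' j)⟩, fun y hy => ?_⟩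
  rw [eq_top_iff, ← ht y hy.1.2, Submodule.span_le]
  rintro _ ⟨j, rfl⟩
  exact hW' j y ((Finset.inf_le (Finset.mem_univ j) : Finset.univ.inf W' ≤ W' j) hy.2) hy.1.1 hy.1.2

/-- The evident presentation of a free module. -/
noncomputable def freePresentation (Z : Scheme.{u}) (I : Type u) :
    (SheafOfModules.free (R := Z.ringCatSheaf) I).Presentation :=
  SheafOfModules.presentationOfIsCokernelFree (ι := PEmpty.{u+1}) (σ := I) 0 (𝟙 _) zero_comp
    (CokernelCofork.IsColimit.ofId _ rfl)

/-- Finite locally free modules are of finite presentation. -/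
theorem isFinitePresentation_of_isFinLocFree {X : Scheme.{u}} (M : X.Modules) (h : FlatMod.IsFinLocFree M) :
    SheafOfModules.IsFinitePresentation (R := X.ringCatSheaf) M := by
  choose U n hxU he using h
  let e : ∀ x : X, SheafOfModules.free (R := (U x : Scheme.{u}).ringCatSheaf) (ULift.{u} (Fin (n x))) ≅ M.restrict (U x).ι :=
    fun x => Sigma.whiskerEquiv (f := fun _ : ULift.{u} (Fin (n x)) => SheafOfModules.unit (U x : Scheme.{u}).ringCatSheaf)
      (g := fun _ : Fin (n x) => Coh.structureModule (U x)) Equiv.ulift (fun _ => Iso.refl _) ≪≫ (he x).some.symm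
  let d : SheafOfModules.QuasicoherentData.{u} (R := X.ringCatSheaf) M :=
    { I := X
      X := U
      coversTop := by
        rw [Opens.coversTop_iff, IsOpenCover]
        exact eq_top_iff.mpr fun x _ => Opens.mem_iSup.mpr ⟨x, hxU x⟩
      presentation := fun x => overPresentation _ _ (presIso (e x) (freePresentation _ _)) }
  have hd : d.IsFinitePresentation :=
    { isFinite_presentation := fun x =>
        { isFiniteType_generators := ⟨(inferInstance : Finite (ULift.{u} (Fin (n x))))⟩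
          isFiniteType_relations := ⟨(inferInstance : Finite PEmpty.{u+1})⟩ } }
  exact { exists_quasicoherentData := ⟨d, hd⟩ }

theorem isFiniteType_of_isFinLocFree {X : Scheme.{u}} (M : X.Modules) (h : FlatMod.IsFinLocFree M) :
    SheafOfModules.IsFiniteType (R := X.ringCatSheaf) M :=
  have := isFinitePresentation_of_isFinLocFree M h
  inferInstance

/-- With free stalks of locally constant rank, bases spread out. -/
theorem exists_basis_nhd (M : X.Modules) [SheafOfModules.IsFiniteType (R := X.ringCatSheaf) M]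
    (h : ∀ x : X, Module.Free (X.presheaf.stalk x) (M.presheaf.stalk x))
    (hn : ∀ n : ℕ, IsOpen {x : X | Module.finrank (X.presheaf.stalk x) (M.presheaf.stalk x) = n}) (x : X) :
    ∃ (U : X.Opens) (n : ℕ) (s : Fin n → Γ(M, U)), x ∈ U ∧
      ∀ (y : X) (hy : y ∈ U), Submodule.span (X.presheaf.stalk y) (Set.range fun i => M.presheaf.germ U y hy (s i)) = ⊤ ∧
        LinearIndependent (X.presheaf.stalk y) fun i => M.presheaf.germ U y hy (s i) := by
  classical
  let n := Module.finrank (X.presheaf.stalk x) (M.presheaf.stalk x)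
  have := h x
  let b := Module.finBasisOfFinrankEq (X.presheaf.stalk x) (M.presheaf.stalk x) (n := n) rfl
  choose V hV r hr using fun i => M.presheaf.exists_germ_eq (x := x) (b i)
  let U₀ : X.Opens := ⟨_, hn n⟩ ⊓ Finset.univ.inf V
  have hx₀ : x ∈ U₀ := ⟨rfl, (Finset.inf_induction (p := fun V : X.Opens => x ∈ V) trivial
    (fun _ h₁ _ h₂ => ⟨h₁, h₂⟩) fun i _ => hV i)⟩
  have hle : ∀ i, U₀ ≤ V i := fun i => inf_le_right.trans (Finset.inf_le (Finset.mem_univ i))
  let s : Fin n → Γ(M, U₀) := fun i => M.presheaf.map (homOfLE (hle i)).op (r i)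
  have hs : (fun i => M.presheaf.germ U₀ x hx₀ (s i)) = ⇑b := funext fun i =>
    (TopCat.Presheaf.germ_res_apply _ _ x hx₀ (r i)).trans (hr i)
  obtain ⟨U, hle', hxU, hspan⟩ := exists_span_nhd M s x hx₀ (by rw [hs]; exact b.span_eq)
  refine ⟨U, n, fun i => M.presheaf.map (homOfLE hle').op (s i), hxU, fun y hy => ?_⟩
  simp only [TopCat.Presheaf.germ_res_apply]
  refine ⟨hspan y hy, ?_⟩
  have := h y
  have hyn : Module.finrank (X.presheaf.stalk y) (M.presheaf.stalk y) = n := (hle' hy).1
  exact linearIndependent_of_top_le_span_of_card_eq_finrank (hspan y hy).ge (by rw [Fintype.card_fin, hyn])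

/-- Locally constant free ranks give local freeness. -/
theorem isFinLocFree_of_rank (M : X.Modules) [SheafOfModules.IsFiniteType (R := X.ringCatSheaf) M]
    (h : ∀ x : X, Module.Free (X.presheaf.stalk x) (M.presheaf.stalk x))
    (hn : ∀ n : ℕ, IsOpen {x : X | Module.finrank (X.presheaf.stalk x) (M.presheaf.stalk x) = n}) :
    FlatMod.IsFinLocFree M :=
  isFinLocFree_of_basis M (exists_basis_nhd M h hn)

/-- A finite locally free module has free stalks of locally constant rank. -/
theorem free_stalk_of_isFinLocFree (M : X.Modules) (hM : FlatMod.IsFinLocFree M) :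
    (∀ x : X, Module.Free (X.presheaf.stalk x) (M.presheaf.stalk x)) ∧
      ∀ n : ℕ, IsOpen {x : X | Module.finrank (X.presheaf.stalk x) (M.presheaf.stalk x) = n} := by
  have : SheafOfModules.IsFiniteType (R := X.ringCatSheaf) M := isFiniteType_of_isFinLocFree M hM
  have key : ∀ x : X, ∃ (V : X.Opens) (n : ℕ), x ∈ V ∧ ∀ v ∈ V,
      Module.Free (X.presheaf.stalk v) (M.presheaf.stalk v) ∧
        Module.finrank (X.presheaf.stalk v) (M.presheaf.stalk v) = n := by
    intro x
    obtain ⟨V, n, hxV, ⟨e⟩⟩ := hM x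
    exact ⟨V, n, hxV, fun v hv => free_stalk_of_pullback V.ι M
      (((Scheme.Modules.restrictFunctorIsoPullback V.ι).app _).symm ≪≫ e) ⟨v, hv⟩⟩
  refine ⟨fun x => ?_, fun n => isOpen_iff_forall_mem_open.mpr fun x hx => ?_⟩
  · obtain ⟨V, m, hxV, hV⟩ := key x
    exact (hV x hxV).1
  · obtain ⟨V, m, hxV, hV⟩ := key x
    exact ⟨V, fun v hv => (hV v hv).2.trans ((hV x hxV).2.symm.trans hx), V.isOpen, hxV⟩

/-- Finite local freeness descends along quasi-compact faithfully flat morphisms. -/
theorem isFinLocFree_of_pullback {X' : Scheme.{u}} (g : X' ⟶ X) [Flat g] [Surjective g] [QuasiCompact g]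
    (F : X.Modules) [SheafOfModules.IsFiniteType (R := X.ringCatSheaf) F]
    (h : FlatMod.IsFinLocFree ((Scheme.Modules.pullback g).obj F)) : FlatMod.IsFinLocFree F := by
  have key : ∀ x' : X', ∃ (V : X'.Opens) (n : ℕ), x' ∈ V ∧ ∀ v ∈ V,
      Module.Free (X.presheaf.stalk (g v)) (F.presheaf.stalk (g v)) ∧
        Module.finrank (X.presheaf.stalk (g v)) (F.presheaf.stalk (g v)) = n := by
    intro x'
    obtain ⟨V, n, hxV, ⟨e⟩⟩ := h x'
    refine ⟨V, n, hxV, fun v hv => ?_⟩
    exact free_stalk_of_pullback (V.ι ≫ g) F (((Scheme.Modules.pullbackComp V.ι g).app F).symm ≪≫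
      ((Scheme.Modules.restrictFunctorIsoPullback V.ι).app _).symm ≪≫ e) ⟨v, hv⟩
  refine isFinLocFree_of_rank F (fun x => ?_) fun n => ?_
  · obtain ⟨x', rfl⟩ := g.surjective x
    obtain ⟨V, n, hxV, hV⟩ := key x'
    exact (hV x' hxV).1
  · rw [← (Flat.isQuotientMap_of_surjective g).isOpen_preimage, isOpen_iff_forall_mem_open]
    intro x' hx'
    obtain ⟨V, m, hxV, hV⟩ := key x'
    refine ⟨V, fun v hv => ?_, V.isOpen, hxV⟩
    exact (hV v hv).2.trans ((hV x' hxV).2.symm.trans hx')

end Groth.Agent.ModStalk
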