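import Groth.Agent.ModStalk.LocFree
import Groth.Agent.ModStalk.LocFreeDescent
import Groth.Agent.ModStalk.Localization
import Groth.Agent.ModStalk.FiniteType
import Mathlib.RingTheory.Spectrum.Prime.FreeLocus

/-! Finite locally free modules and their sections over affine opens. -/

set_option autoImplicit false
set_option linter.style.haveILetI false
universe u

open CategoryTheory CategoryTheory.Limits AlgebraicGeometry Opposite TopologicalSpace

namespace Groth.Agent.ModStalk

variable {X : Scheme.{u}}

/-- Sections inducing bases of all stalks over an affine open form a basis of the sections. -/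
theorem bijective_linearCombination_of_basis (M : X.Modules) [M.IsQuasicoherent] {U : X.Opens}
    (hU : IsAffineOpen U) {n : ℕ} (s : Fin n → Γ(M, U))
    (hs : ∀ (y : X) (hy : y ∈ U),
      Submodule.span (X.presheaf.stalk y) (Set.range fun i => M.presheaf.germ U y hy (s i)) = ⊤ ∧
        LinearIndependent (X.presheaf.stalk y) fun i => M.presheaf.germ U y hy (s i)) :
    Function.Bijective (Fintype.linearCombination Γ(X, U) s) := by
  classical
  refine ⟨(injective_iff_map_eq_zero _).mpr fun a ha => funext fun i => ?_, ?_⟩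
  · refine TopCat.Presheaf.section_ext X.sheaf U (a i) 0 fun y hy => ?_
    refine Eq.trans ?_ (map_zero (X.presheaf.germ U y hy).hom).symm
    refine Fintype.linearIndependent_iff.mp (hs y hy).2 (fun j => X.presheaf.germ U y hy (a j)) ?_ i
    have h0 := congrArg (M.presheaf.germ U y hy) ha
    rw [Fintype.linearCombination_apply, map_sum, map_zero] at h0
    simp only [germ_smul] at h0
    exact h0
  · rw [← LinearMap.range_eq_top]
    refine eq_top_of_span_germ_eq_top hU M _ fun y => ?_
    rw [eq_top_iff, ← (hs y.1 y.2).1]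
    refine Submodule.span_mono ?_
    rintro _ ⟨i, rfl⟩
    exact ⟨s i, ⟨Pi.single i 1, by simp [Fintype.linearCombination_apply_single]⟩, rfl⟩

/-- Near every point a finite locally free module has free sections on affine opens. -/
theorem exists_free_sections (M : X.Modules) [M.IsQuasicoherent] (hM : FlatMod.IsFinLocFree M) (x : X) :
    ∃ U : X.Opens, x ∈ U ∧ IsAffineOpen U ∧ Module.Free Γ(X, U) Γ(M, U) ∧ Module.Finite Γ(X, U) Γ(M, U) := by
  haveI := isFiniteType_of_isFinLocFree M hM
  obtain ⟨U₀, n, s, hxU₀, hs⟩ :=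
    exists_basis_nhd M (free_stalk_of_isFinLocFree M hM).1 (free_stalk_of_isFinLocFree M hM).2 x
  obtain ⟨_, ⟨U, hU, rfl⟩, hxU, hle⟩ := X.isBasis_affineOpens.exists_subset_of_mem_open hxU₀ U₀.2
  refine ⟨U, hxU, hU, ?_⟩
  let e := LinearEquiv.ofBijective _
    (bijective_linearCombination_of_basis M hU (fun i => M.presheaf.map (homOfLE hle).op (s i)) fun y hy => by
      rw [show (fun i => M.presheaf.germ U y hy (M.presheaf.map (homOfLE hle).op (s i))) =
        fun i => M.presheaf.germ U₀ y (hle hy) (s i) from
          funext fun i => TopCat.Presheaf.germ_res_apply _ _ _ _ _]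
      exact hs y (hle hy))
  exact ⟨Module.Free.of_equiv e, Module.Finite.equiv e⟩

/-- Flat finitely presented sections on an affine cover give finite local freeness. -/
theorem isFinLocFree_of_flat_sections (M : X.Modules) [M.IsQuasicoherent]
    [SheafOfModules.IsFiniteType (R := X.ringCatSheaf) M]
    (h : ∀ x : X, ∃ U : X.Opens, x ∈ U ∧ IsAffineOpen U ∧ Module.Flat Γ(X, U) Γ(M, U) ∧
      Module.FinitePresentation Γ(X, U) Γ(M, U)) : FlatMod.IsFinLocFree M := by
  have key : ∀ x : X, ∃ (U : X.Opens) (hU : IsAffineOpen U), x ∈ U ∧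
      Module.Flat Γ(X, U) Γ(M, U) ∧ Module.FinitePresentation Γ(X, U) Γ(M, U) := fun x => by
    obtain ⟨U, hx, hU, hf, hp⟩ := h x
    exact ⟨U, hU, hx, hf, hp⟩
  have loc : ∀ (U : X.Opens) (hU : IsAffineOpen U), Module.Flat Γ(X, U) Γ(M, U) →
      Module.FinitePresentation Γ(X, U) Γ(M, U) → ∀ y : U,
      Module.Free (X.presheaf.stalk y.1) (M.presheaf.stalk y.1) ∧
        Module.finrank (X.presheaf.stalk y.1) (M.presheaf.stalk y.1) =
          Module.rankAtStalk Γ(M, U) (hU.primeIdealOf y) := by
    intro U hU hf hp y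
    letI := sectionModule M y
    letI := TopCat.Presheaf.algebra_section_stalk X.presheaf y
    haveI := sectionTower M y
    haveI := hU.isLocalization_stalk y
    haveI := isLocalizedModule_germ hU M y
    have hfree : Module.Free (X.presheaf.stalk y.1) (M.presheaf.stalk y.1) :=
      (Module.mem_freeLocus_of_isLocalization (hU.primeIdealOf y) (X.presheaf.stalk y.1) _ (germₗ M y)).mp
        (by rw [Module.freeLocus_eq_univ]; trivial)
    refine ⟨hfree, ?_⟩
    have hbc : IsBaseChange (X.presheaf.stalk y.1) (germₗ M y) :=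
      (isLocalizedModule_iff_isBaseChange (hU.primeIdealOf y).asIdeal.primeCompl _ _).mp inferInstance
    let q : PrimeSpectrum (X.presheaf.stalk y.1) := ⟨IsLocalRing.maximalIdeal _, inferInstance⟩
    have hq : PrimeSpectrum.comap (algebraMap Γ(X, U) (X.presheaf.stalk y.1)) q = hU.primeIdealOf y :=
      PrimeSpectrum.ext (IsLocalization.AtPrime.under_maximalIdeal (X.presheaf.stalk y.1) (hU.primeIdealOf y).asIdeal)
    have h1 := Module.rankAtStalk_isBaseChange hbc q
    rw [Module.rankAtStalk_eq_finrank_of_free] at h1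
    rw [← hq, ← h1]
    rfl
  refine isFinLocFree_of_rank M (fun x => ?_) fun n => isOpen_iff_forall_mem_open.mpr fun x hx => ?_
  · obtain ⟨U, hU, hxU, hf, hp⟩ := key x
    exact (loc U hU hf hp ⟨x, hxU⟩).1
  · obtain ⟨U, hU, hxU, hf, hp⟩ := key x
    have hc : Continuous fun y : U => hU.primeIdealOf y := hU.isoSpec.hom.base.hom.continuous
    refine ⟨Subtype.val '' {y : U | Module.rankAtStalk Γ(M, U) (hU.primeIdealOf y) = n}, ?_, ?_,
      ⟨⟨x, hxU⟩, (loc U hU hf hp ⟨x, hxU⟩).2.symm.trans hx, rfl⟩⟩
    · rintro _ ⟨y, hy, rfl⟩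
      exact (loc U hU hf hp y).2.trans hy
    · exact U.isOpen.isOpenMap_subtype_val _
        (((Module.isLocallyConstant_rankAtStalk (R := Γ(X, U)) (M := Γ(M, U))).isOpen_fiber n).preimage hc)

end Groth.Agent.ModStalk
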