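import Mathlib.Algebra.Category.ModuleCat.Sheaf.Abelian
import Mathlib.Algebra.Category.ModuleCat.Sheaf.Colimits
import Mathlib.Algebra.Category.ModuleCat.Sheaf.Free
import Mathlib.Algebra.Category.ModuleCat.Sheaf.Generators
import Mathlib.Algebra.Category.ModuleCat.Sheaf.PushforwardContinuous
import Mathlib.Algebra.Category.ModuleCat.Presheaf.Sheafification
import Mathlib.Algebra.Category.ModuleCat.Presheaf.Colimits
import Mathlib.CategoryTheory.Sites.EpiMono
import Mathlib.CategoryTheory.Sites.Abelian
import Mathlib.CategoryTheory.Abelian.Basic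
import Mathlib.Algebra.Category.Grp.Abelian
import Mathlib.Algebra.Category.Grp.EpiMono

/-! Epimorphisms of sheaves of modules are locally surjective; finite free sheaves. -/

set_option autoImplicit false
universe v v' u u'

open CategoryTheory Limits Opposite

namespace Groth.Agent.ModStalk

theorem epi_map_of_reflective {A B D : Type*} [Category A] [Category B] [Category D]
    {L : A ⥤ B} {R : B ⥤ A} (adj : L ⊣ R) [IsIso adj.counit]
    [Abelian A] [Abelian B] [Abelian D] (T : B ⥤ D) [L.PreservesZeroMorphisms] [(L ⋙ T).PreservesZeroMorphisms]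
    [PreservesColimitsOfShape WalkingParallelPair (L ⋙ T)] [T.PreservesZeroMorphisms]
    {X Y : B} (f : X ⟶ Y) [Epi f] : Epi (T.map f) := by
  have hL : Epi (L.map (R.map f)) := by
    have : L.map (R.map f) = adj.counit.app X ≫ f ≫ inv (adj.counit.app Y) := by
      rw [← Category.assoc]
      exact (IsIso.eq_comp_inv _).mpr (adj.counit.naturality f)
    rw [this]
    infer_instance
  have := adj.leftAdjoint_preservesColimits
  have hz : IsZero (L.obj (cokernel (R.map f))) :=
    (Limits.isZero_zero _).of_iso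
      ((PreservesCokernel.iso L (R.map f)).trans (cokernel.ofEpi (L.map (R.map f))))
  have hz' : IsZero (cokernel ((L ⋙ T).map (R.map f))) :=
    (T.map_isZero hz).of_iso (PreservesCokernel.iso (L ⋙ T) (R.map f)).symm
  have h1 : Epi ((L ⋙ T).map (R.map f)) := Preadditive.epi_of_isZero_cokernel _ hz'
  have h2 : T.map f = inv (T.map (adj.counit.app X)) ≫ (L ⋙ T).map (R.map f) ≫ T.map (adj.counit.app Y) := by
    rw [Functor.comp_map, ← T.map_comp]
    erw [adj.counit.naturality f]
    rw [T.map_comp, IsIso.inv_hom_id_assoc]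
    rfl
  rw [h2]
  infer_instance

variable {C : Type u'} [Category.{v'} C] {J : GrothendieckTopology C} {R : Sheaf J RingCat.{u}}
  [HasSheafify J AddCommGrpCat.{u}] [J.WEqualsLocallyBijective AddCommGrpCat.{u}]
  [J.HasSheafCompose (forget AddCommGrpCat.{u})]

instance : (SheafOfModules.toSheaf.{u} R).PreservesZeroMorphisms where
  map_zero _ _ := rfl

theorem epi_toSheaf {M N : SheafOfModules.{u} R} (f : M ⟶ N) [Epi f] :
    Epi ((SheafOfModules.toSheaf R).map f) := by
  have hiso := PresheafOfModules.sheafificationCompToSheaf.{u} (𝟙 R.obj)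
  have : PreservesColimitsOfShape WalkingParallelPair
      (PresheafOfModules.sheafification.{u} (𝟙 R.obj) ⋙ SheafOfModules.toSheaf R) :=
    preservesColimitsOfShape_of_natIso hiso.symm
  have := (PresheafOfModules.sheafificationAdjunction.{u} (𝟙 R.obj)).isLeftAdjoint
  have : (PresheafOfModules.sheafification.{u} (𝟙 R.obj) ⋙ SheafOfModules.toSheaf R).PreservesZeroMorphisms :=
    inferInstance
  exact epi_map_of_reflective (PresheafOfModules.sheafificationAdjunction.{u} (𝟙 R.obj))
    (SheafOfModules.toSheaf R) f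

theorem isLocallySurjective_of_epi {M N : SheafOfModules.{u} R} (f : M ⟶ N) [Epi f] :
    Sheaf.IsLocallySurjective ((SheafOfModules.toSheaf R).map f) :=
  (Sheaf.isLocallySurjective_iff_epi' (φ := (SheafOfModules.toSheaf R).map f)).mpr (epi_toSheaf f)

open SheafOfModules in
/-- A map out of a finite free sheaf: sections are combinations of the images of the generators. -/
theorem app_eq_sum {I : Type u} [Fintype I] {M : SheafOfModules.{u} R} (φ : free I ⟶ M)
    (X : Cᵒᵖ) (t : (free (R := R) I).val.obj X) :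
    ∃ r : I → R.obj.obj X, φ.val.app X t = ∑ i, r i • ((M.freeHomEquiv φ) i).eval X := by
  classical
  let pr : I → (free (R := R) I ⟶ unit R) := fun i =>
    Cofan.IsColimit.desc (isColimitFreeCofan I) fun j => if j = i then 𝟙 _ else 0
  have hpr : ∀ j i, ιFree j ≫ pr i = if j = i then 𝟙 (unit R) else 0 := fun j i =>
    Cofan.IsColimit.fac (isColimitFreeCofan I) _ j
  have hid : ∑ i, pr i ≫ ιFree i = 𝟙 (free (R := R) I) := by
    refine Cofan.IsColimit.hom_ext (isColimitFreeCofan I) _ _ fun j => ?_
    show ιFree j ≫ (∑ i, pr i ≫ ιFree i : free (R := R) I ⟶ free I) = ιFree j ≫ 𝟙 (free (R := R) I)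
    refine (Preadditive.comp_sum (f := (ιFree j : unit R ⟶ free I)) (Finset.univ) fun i => pr i ≫ ιFree i).trans ?_
    rw [Finset.sum_eq_single j, Category.comp_id, ← Category.assoc, hpr, if_pos rfl, Category.id_comp]
    · intro i _ hij
      rw [← Category.assoc, hpr, if_neg (Ne.symm hij), zero_comp]
    · simp
  refine ⟨fun i => ((pr i).val.app X t : R.obj.obj X), ?_⟩
  have hφ : φ = ∑ i, pr i ≫ (M.unitHomEquiv.symm ((M.freeHomEquiv φ) i)) := by
    conv_lhs => rw [← Category.id_comp φ, ← hid, Preadditive.sum_comp]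
    simp only [unitHomEquiv_symm_freeHomEquiv_apply, Category.assoc]
  let ev : (free (R := R) I ⟶ M) →+ M.val.obj X :=
    { toFun := fun g => g.val.app X t
      map_zero' := rfl
      map_add' := fun _ _ => rfl }
  show ev φ = _
  conv_lhs => rw [hφ]
  rw [map_sum]
  rfl

section Over

variable (U : C) [HasSheafify (J.over U) AddCommGrpCat.{u}]
  [(J.over U).WEqualsLocallyBijective AddCommGrpCat.{u}]
  [(J.over U).HasSheafCompose (forget AddCommGrpCat.{u})]

open SheafOfModules in
/-- Sections are locally combinations of a finite family of generating sections. -/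
theorem exists_local_sum (M : SheafOfModules.{u} R) (σ : (M.over U).GeneratingSections)
    [Fintype σ.I] {W : C} (g : W ⟶ U) (t : M.val.obj (op W)) :
    ∃ S ∈ J W, ∀ ⦃W' : C⦄ (j : W' ⟶ W), S j → ∃ r : σ.I → R.obj.obj (op W'),
      M.val.map j.op t = ∑ i, r i • M.val.map (j ≫ g).op ((σ.s i).eval (op (Over.mk (𝟙 U)))) := by
  have hls := isLocallySurjective_of_epi σ.π
  have hmem := hls.imageSieve_mem (U := Over.mk g) t
  rw [GrothendieckTopology.mem_over_iff] at hmem
  refine ⟨_, hmem, fun W' j hj => ?_⟩
  rw [Sieve.overEquiv_iff] at hj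
  obtain ⟨l, hl⟩ := hj
  obtain ⟨r, hr⟩ := app_eq_sum σ.π (op (Over.mk (j ≫ g))) l
  refine ⟨r, (hl.symm.trans hr).trans (Finset.sum_congr rfl fun i _ => congrArg _ ?_)⟩
  rw [show (M.over U).freeHomEquiv σ.π = σ.s from Equiv.apply_symm_apply _ _]
  exact ((σ.s i).property
    (Over.homMk (U := Over.mk (j ≫ g)) (V := Over.mk (𝟙 U)) (j ≫ g) (Category.comp_id _)).op).symm

end Over

end Groth.Agent.ModStalk
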