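import Groth.Agent.ModStalk.QCoh
import Groth.Agent.ModStalk.AssPoint

/-! Sections on affines lift along epimorphisms with quasi-coherent kernel. -/

set_option autoImplicit false
universe u

open CategoryTheory CategoryTheory.Limits AlgebraicGeometry Opposite TopologicalSpace

namespace Groth.Agent.ModStalk

variable {X : Scheme.{u}}

theorem app_res {M N : X.Modules} (φ : M ⟶ N) {U V : X.Opens} (h : V ≤ U) (a : Γ(M, U)) :
    φ.app V (M.presheaf.map (homOfLE h).op a) = N.presheaf.map (homOfLE h).op (φ.app U a) :=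
  ConcreteCategory.congr_hom (φ.mapPresheaf.naturality (homOfLE h).op) a

theorem smul_res (M : X.Modules) {U V : X.Opens} (h : V ≤ U) (r : Γ(X, U)) (a : Γ(M, U)) :
    M.presheaf.map (homOfLE h).op (r • a) =
      X.presheaf.map (homOfLE h).op r • M.presheaf.map (homOfLE h).op a :=
  M.map_smul (homOfLE h) r a

theorem exists_app_eq {S : ShortComplex X.Modules} (hS : S.Exact) [Mono S.f] {W : X.Opens}
    (a : Γ(S.X₂, W)) (ha : S.g.app W a = 0) : ∃ b : Γ(S.X₁, W), S.f.app W b = a := by
  let F := Scheme.Modules.toPresheaf X ⋙ (evaluation _ _).obj (op W)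
  have : F.PreservesZeroMorphisms := ⟨fun _ _ => rfl⟩
  have : PreservesLimitsOfSize.{0, 0} (Scheme.Modules.toPresheaf X) := preservesLimitsOfSize_shrink _
  have h2e : PreservesLimitsOfShape WalkingParallelPair ((evaluation (Opens X)ᵒᵖ Ab.{u}).obj (op W)) :=
    inferInstance
  have : PreservesLimit (parallelPair S.g 0) F :=
    @comp_preservesLimit _ _ _ _ _ _ _ _ _ (Scheme.Modules.toPresheaf X) ((evaluation _ _).obj (op W)) _
      h2e.preservesLimit
  have hex := hS.map_of_mono_of_preservesKernel F inferInstance inferInstance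
  exact (ShortComplex.ab_exact_iff _).mp hex _ ha

theorem exists_local_lift {M N : X.Modules} (φ : M ⟶ N) [Epi φ] {U : X.Opens} (t : Γ(N, U)) (x : X)
    (hx : x ∈ U) : ∃ (V : X.Opens) (h : V ≤ U), x ∈ V ∧
      ∃ b : Γ(M, V), φ.app V b = N.presheaf.map (homOfLE h).op t := by
  have : @Epi (SheafOfModules.{u} X.ringCatSheaf) _ M N φ := ⟨fun g h e => (cancel_epi φ).mp e⟩
  have := (isLocallySurjective_of_epi (R := X.ringCatSheaf) φ).imageSieve_mem (U := U) t
  obtain ⟨V, i, ⟨b, hb⟩, hxV⟩ := this x hx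
  exact ⟨V, i.le, hxV, b, hb⟩

theorem glue_two (M : X.Modules) {D A B : X.Opens} (hA : A ≤ D) (hB : B ≤ D) (hcov : D ≤ A ⊔ B)
    (a : Γ(M, A)) (b : Γ(M, B))
    (h : M.presheaf.map (homOfLE (inf_le_left : A ⊓ B ≤ A)).op a =
      M.presheaf.map (homOfLE (inf_le_right : A ⊓ B ≤ B)).op b) :
    ∃ s : Γ(M, D), M.presheaf.map (homOfLE hA).op s = a ∧ M.presheaf.map (homOfLE hB).op s = b := by
  let U : Bool → X.Opens := fun i => bif i then A else B
  let sf : ∀ i, Γ(M, U i) := fun i => match i with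
    | true => a
    | false => b
  have hU : ∀ i, U i ≤ D := fun i => match i with
    | true => hA
    | false => hB
  have hc : TopCat.Presheaf.IsCompatible M.presheaf U sf := by
    rintro (_ | _) (_ | _)
    · rfl
    · have h1 := congrArg (M.presheaf.map (homOfLE (le_inf inf_le_right inf_le_left : B ⊓ A ≤ A ⊓ B)).op) h
      erw [res_res, res_res] at h1
      exact h1.symm
    · exact h
    · rfl
  obtain ⟨s, hs, -⟩ := TopCat.Sheaf.existsUnique_gluing' ⟨M.presheaf, M.isSheaf⟩ U D
    (fun i => homOfLE (hU i)) (hcov.trans (sup_le (le_iSup U true) (le_iSup U false))) sf hc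
  exact ⟨s, hs true, hs false⟩

theorem eq_of_two (M : X.Modules) {D A B : X.Opens} (hA : A ≤ D) (hB : B ≤ D) (hcov : D ≤ A ⊔ B)
    (s t : Γ(M, D)) (ha : M.presheaf.map (homOfLE hA).op s = M.presheaf.map (homOfLE hA).op t)
    (hb : M.presheaf.map (homOfLE hB).op s = M.presheaf.map (homOfLE hB).op t) : s = t := by
  refine eq_of_germ_eq M s t fun x hx => ?_
  rcases hcov hx with h | h
  · rw [← M.presheaf.germ_res_apply (homOfLE hA) x h s, ha, TopCat.Presheaf.germ_res_apply]
  · rw [← M.presheaf.germ_res_apply (homOfLE hB) x h s, hb, TopCat.Presheaf.germ_res_apply]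

/-- Vanishing of the first Čech cohomology for two basic opens covering an affine. -/
theorem exists_split (M : X.Modules) [M.IsQuasicoherent] {D : X.Opens} (hD : IsAffineOpen D)
    (f g : Γ(X, D)) (hfg : IsUnit (f + g)) (e : Γ(M, X.basicOpen f ⊓ X.basicOpen g)) :
    ∃ (a : Γ(M, X.basicOpen f)) (b : Γ(M, X.basicOpen g)),
      M.presheaf.map (homOfLE inf_le_left).op a + M.presheaf.map (homOfLE inf_le_right).op b = e := by
  obtain ⟨n, m, hm⟩ := exists_extend M hD (f * g)
    (M.presheaf.map (homOfLE (X.basicOpen_mul f g).le).op e)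
  obtain ⟨v, hv⟩ := hfg.exists_left_inv
  have hco : IsCoprime f g := ⟨v, v, by rw [← mul_add, hv]⟩
  obtain ⟨c₁, c₂, hc⟩ := hco.pow (m := n) (n := n)
  have hu : ∀ h : Γ(X, D), IsUnit (X.presheaf.map (homOfLE (X.basicOpen_le h)).op h ^ n) :=
    fun h => (RingedSpace.isUnit_res_basicOpen X.toRingedSpace h).pow n
  obtain ⟨wf, hwf⟩ := (hu f).exists_left_inv
  obtain ⟨wg, hwg⟩ := (hu g).exists_left_inv
  refine ⟨(X.presheaf.map (homOfLE (X.basicOpen_le f)).op c₂ * wf) • M.presheaf.map (homOfLE (X.basicOpen_le f)).op m,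
    (X.presheaf.map (homOfLE (X.basicOpen_le g)).op c₁ * wg) • M.presheaf.map (homOfLE (X.basicOpen_le g)).op m, ?_⟩
  have hE : X.basicOpen f ⊓ X.basicOpen g ≤ D := inf_le_left.trans (X.basicOpen_le f)
  have hm' : M.presheaf.map (homOfLE hE).op m =
      X.presheaf.map (homOfLE hE).op (f * g) ^ n • e := by
    have h1 := congrArg (M.presheaf.map (homOfLE (X.basicOpen_mul f g).ge).op) hm
    rw [res_res, smul_res, map_pow, res_resX, res_res, res_self] at h1
    exact h1
  rw [smul_res, smul_res, map_mul, map_mul, res_resX, res_resX, res_res, res_res, hm', smul_smul, smul_smul,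
    ← add_smul]
  have e1 := congrArg (X.presheaf.map (homOfLE (inf_le_left : X.basicOpen f ⊓ X.basicOpen g ≤ _)).op) hwf
  have e2 := congrArg (X.presheaf.map (homOfLE (inf_le_right : X.basicOpen f ⊓ X.basicOpen g ≤ _)).op) hwg
  have e3 := congrArg (X.presheaf.map (homOfLE hE).op) hc
  rw [map_mul, map_pow, res_resX, map_one] at e1 e2
  rw [map_add, map_mul, map_mul, map_pow, map_pow, map_one] at e3
  rw [map_mul, mul_pow]
  refine Eq.trans ?_ (one_smul Γ(X, X.basicOpen f ⊓ X.basicOpen g) e)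
  congr 1
  linear_combination
    (X.presheaf.map (homOfLE hE).op c₂ * X.presheaf.map (homOfLE hE).op g ^ n) * e1 +
    (X.presheaf.map (homOfLE hE).op c₁ * X.presheaf.map (homOfLE hE).op f ^ n) * e2 + e3

/-- Sections over affine opens lift along epimorphisms with quasi-coherent kernel. -/
theorem surjective_app_of_shortExact (S : ShortComplex X.Modules) (hS : S.ShortExact)
    [S.X₁.IsQuasicoherent] {U : X.Opens} (hU : IsAffineOpen U) :
    Function.Surjective (S.g.app U) := by
  have := hS.mono_f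
  have := hS.epi_g
  intro t
  let P : Γ(X, U) → Prop := fun f => ∃ b : Γ(S.X₂, X.basicOpen f),
    S.g.app _ b = S.X₃.presheaf.map (homOfLE (X.basicOpen_le f)).op t
  have hle : ∀ f f' : Γ(X, U), X.basicOpen f' ≤ X.basicOpen f → P f → P f' := by
    rintro f f' h ⟨b, hb⟩
    exact ⟨S.X₂.presheaf.map (homOfLE h).op b, by rw [app_res, hb, res_res]⟩
  have hadd : ∀ f g, P f → P g → P (f + g) := by
    rintro f g ⟨b₁, hb₁⟩ ⟨b₂, hb₂⟩
    let D := X.basicOpen (f + g)
    have hDU : D ≤ U := X.basicOpen_le _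
    let f' := X.presheaf.map (homOfLE hDU).op f
    let g' := X.presheaf.map (homOfLE hDU).op g
    have hf' : X.basicOpen f' ≤ X.basicOpen f := by rw [Scheme.basicOpen_res]; exact inf_le_right
    have hg' : X.basicOpen g' ≤ X.basicOpen g := by rw [Scheme.basicOpen_res]; exact inf_le_right
    have hunit : IsUnit (f' + g') := by
      rw [← map_add]
      exact RingedSpace.isUnit_res_basicOpen X.toRingedSpace (f + g)
    have hcov : D ≤ X.basicOpen f' ⊔ X.basicOpen g' := by
      intro x hx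
      rw [Scheme.basicOpen_res, Scheme.basicOpen_res]
      have hxU : x ∈ U := hDU hx
      have h := (Scheme.mem_basicOpen _ _ _ hxU).mp hx
      rw [map_add] at h
      rcases IsLocalRing.isUnit_or_isUnit_of_isUnit_add h with h | h
      · exact Or.inl ⟨hx, (Scheme.mem_basicOpen _ _ _ hxU).mpr h⟩
      · exact Or.inr ⟨hx, (Scheme.mem_basicOpen _ _ _ hxU).mpr h⟩
    let a₁ := S.X₂.presheaf.map (homOfLE hf').op b₁
    let a₂ := S.X₂.presheaf.map (homOfLE hg').op b₂
    have hd : S.g.app _ (S.X₂.presheaf.map (homOfLE (inf_le_left : X.basicOpen f' ⊓ X.basicOpen g' ≤ _)).op a₁ -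
        S.X₂.presheaf.map (homOfLE inf_le_right).op a₂) = 0 := by
      rw [map_sub, app_res, app_res, app_res, app_res, hb₁, hb₂, res_res, res_res, res_res, res_res, sub_self]
    obtain ⟨e, he⟩ := exists_app_eq hS.exact _ hd
    obtain ⟨p, q, hpq⟩ := exists_split S.X₁ ((hU.basicOpen _)) f' g' hunit e
    have hzero : ∀ (W : X.Opens) (z : Γ(S.X₁, W)), S.g.app W (S.f.app W z) = 0 := fun W z =>
      congrArg (fun φ => Scheme.Modules.Hom.app φ W z) S.zero
    obtain ⟨b, hb, hb'⟩ := glue_two S.X₂ (X.basicOpen_le f') (X.basicOpen_le g') hcov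
      (a₁ - S.f.app _ p) (a₂ + S.f.app _ q) (by
        rw [map_sub, map_add, ← app_res, ← app_res]
        rw [← hpq, map_add] at he
        linear_combination (norm := abel) -he)
    refine ⟨b, eq_of_two S.X₃ (X.basicOpen_le f') (X.basicOpen_le g') hcov _ _ ?_ ?_⟩
    · rw [← app_res, hb, map_sub, hzero, sub_zero, app_res, hb₁, res_res, res_res]
    · rw [← app_res, hb', map_add, hzero, add_zero, app_res, hb₂, res_res, res_res]
  let I : Ideal Γ(X, U) :=
    { carrier := {f | P f}
      add_mem' := fun hf hg => hadd _ _ hf hg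
      zero_mem' := by
        obtain ⟨b, hb, -⟩ := TopCat.Sheaf.existsUnique_gluing' ⟨S.X₂.presheaf, S.X₂.isSheaf⟩
          (fun i : PEmpty.{u+1} => i.elim) (X.basicOpen (0 : Γ(X, U))) (fun i => i.elim) (by simp)
          (fun i => i.elim) (fun i => i.elim)
        refine ⟨b, eq_of_germ_eq S.X₃ _ _ fun x hx => ?_⟩
        rw [Scheme.basicOpen_zero] at hx
        exact hx.elim
      smul_mem' := fun c f hf => hle f (c * f) (by rw [Scheme.basicOpen_mul]; exact inf_le_right) hf }
  have htop : I = ⊤ := by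
    by_contra hne
    obtain ⟨m, hm, hIm⟩ := Ideal.exists_le_maximal I hne
    obtain ⟨x, hx⟩ := exists_point hU m
    obtain ⟨V, hVU, hxV, b, hb⟩ := exists_local_lift S.g t x.1 x.2
    obtain ⟨f, hf, hxf⟩ := hU.exists_basicOpen_le (V := V) ⟨x.1, hxV⟩ x.2
    have hPf : f ∈ I := ⟨S.X₂.presheaf.map (homOfLE hf).op b, by rw [app_res, hb, res_res]⟩
    have hfm : f ∈ (hU.primeIdealOf x).asIdeal := hx ▸ hIm hPf
    exact ((germ_mem_primeIdeal_iff (hU := hU) x f).mpr hxf) hfm
  obtain ⟨b, hb⟩ : P 1 := (show (1 : Γ(X, U)) ∈ I by rw [htop]; trivial)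
  have h1 : U ≤ X.basicOpen (1 : Γ(X, U)) := by rw [Scheme.basicOpen_of_isUnit _ isUnit_one]
  exact ⟨S.X₂.presheaf.map (homOfLE h1).op b, by rw [app_res, hb, res_res, res_self]⟩

/-- An extension of quasi-coherent modules is quasi-coherent. -/
theorem isQuasicoherent_of_shortExact (S : ShortComplex X.Modules) (hS : S.ShortExact)
    [S.X₁.IsQuasicoherent] [S.X₃.IsQuasicoherent] : Coh.IsQCoh S.X₂ := by
  have := hS.mono_f
  refine isQuasicoherent_of_localizing _ (fun U hU g t => ?_) fun U hU g s hs => ?_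
  · obtain ⟨n, s₃, hs₃⟩ := exists_extend S.X₃ hU g (S.g.app _ t)
    obtain ⟨s₂, hs₂⟩ := surjective_app_of_shortExact S hS hU s₃
    obtain ⟨e, he⟩ := exists_app_eq hS.exact (X.presheaf.map (homOfLE (X.basicOpen_le g)).op g ^ n • t -
      S.X₂.presheaf.map (homOfLE (X.basicOpen_le g)).op s₂) (by
        rw [map_sub, S.g.app_smul, app_res, hs₂, hs₃, sub_self])
    obtain ⟨m, s₁, hs₁⟩ := exists_extend S.X₁ hU g e
    refine ⟨m + n, g ^ m • s₂ + S.f.app U s₁, ?_⟩
    rw [map_add, smul_res, map_pow, ← app_res, hs₁, S.f.app_smul, he, smul_sub, smul_smul, ← pow_add]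
    abel
  · obtain ⟨n, hn⟩ := exists_pow_smul_eq_zero S.X₃ hU g (S.g.app U s) (by rw [← app_res, hs, map_zero])
    obtain ⟨e, he⟩ := exists_app_eq hS.exact (g ^ n • s) (by rw [S.g.app_smul, hn])
    obtain ⟨m, hm⟩ := exists_pow_smul_eq_zero S.X₁ hU g e (injective_app_of_mono S.X₂ S.f _ (by
      rw [app_res, he, smul_res, hs, smul_zero, map_zero]))
    exact ⟨m + n, by rw [pow_add, mul_smul, ← he, ← S.f.app_smul, hm, map_zero]⟩

end Groth.Agent.ModStalk
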