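import Groth.Agent.ModStalk.Epi
import Groth.Prelude.Def_FlatMod2
import Mathlib.AlgebraicGeometry.Modules.Sheaf
import Mathlib.RingTheory.Finiteness.Basic

/-! Stalks of finite type modules on schemes: local generation and finiteness. -/

set_option autoImplicit false
universe u

open CategoryTheory CategoryTheory.Limits AlgebraicGeometry Opposite TopologicalSpace

namespace Groth.Agent.ModStalk

variable {X : Scheme.{u}}

theorem germ_smul (M : X.Modules) {U : X.Opens} (y : X) (hy : y ∈ U) (a : Γ(X, U)) (b : Γ(M, U)) :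
    M.presheaf.germ U y hy (a • b) = X.presheaf.germ U y hy a • M.presheaf.germ U y hy b :=
  PresheafOfModules.germ_smul (R := X.presheaf)
    (show PresheafOfModules (X.presheaf ⋙ forget₂ CommRingCat RingCat) from M.val) y U hy a b

/-- The germ of a combination of restrictions lies in the span of the germs. -/
theorem germ_sum_mem (M : X.Modules) {I : Type u} [Fintype I] {U W : X.Opens} (g : W ⟶ U) (y : X)
    (hy : y ∈ W) (r : I → Γ(X, W)) (s : I → Γ(M, U)) :
    M.presheaf.germ W y hy (∑ i, r i • M.presheaf.map g.op (s i)) ∈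
      Submodule.span (X.presheaf.stalk y) (Set.range fun i => M.presheaf.germ U y (leOfHom g hy) (s i)) := by
  rw [map_sum]
  refine Submodule.sum_mem _ fun i _ => ?_
  rw [germ_smul]
  refine Submodule.smul_mem _ _ (Submodule.subset_span ⟨i, ?_⟩)
  exact (M.presheaf.germ_res_apply g y hy (s i)).symm

/-- Locally generating sections generate the stalks. -/
theorem span_germ_eq_top (M : X.Modules) {U : X.Opens} {I : Type u} [Fintype I] (s : I → Γ(M, U))
    (h : ∀ ⦃W : X.Opens⦄ (g : W ⟶ U) (t : Γ(M, W)), ∃ S ∈ Opens.grothendieckTopology X W,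
      ∀ ⦃W' : X.Opens⦄ (j : W' ⟶ W), S j → ∃ r : I → Γ(X, W'),
        M.presheaf.map j.op t = ∑ i, r i • M.presheaf.map (j ≫ g).op (s i))
    (y : X) (hy : y ∈ U) :
    Submodule.span (X.presheaf.stalk y) (Set.range fun i => M.presheaf.germ U y hy (s i)) = ⊤ := by
  refine Submodule.eq_top_iff'.mpr fun m => ?_
  obtain ⟨W, hyW, t, rfl⟩ := M.presheaf.exists_germ_eq (x := y) m
  obtain ⟨S, hS, hSr⟩ := h (homOfLE (inf_le_right : W ⊓ U ≤ U))
    (M.presheaf.map (homOfLE (inf_le_left : W ⊓ U ≤ W)).op t)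
  obtain ⟨W', j, hj, hyW'⟩ := hS y ⟨hyW, hy⟩
  obtain ⟨r, hr⟩ := hSr j hj
  rw [show M.presheaf.germ W y hyW t = M.presheaf.germ W' y hyW' (M.presheaf.map j.op
      (M.presheaf.map (homOfLE (inf_le_left : W ⊓ U ≤ W)).op t)) by
    rw [TopCat.Presheaf.germ_res_apply, TopCat.Presheaf.germ_res_apply], hr]
  exact germ_sum_mem M (j ≫ homOfLE (inf_le_right : W ⊓ U ≤ U)) y hyW' r s

/-- A finite type module is generated on stalks by finitely many sections near every point. -/
theorem exists_generators (M : X.Modules) [hM : SheafOfModules.IsFiniteType (R := X.ringCatSheaf) M]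
    (x : X) : ∃ U : X.Opens, x ∈ U ∧ ∃ (I : Type u) (_ : Fintype I) (s : I → Γ(M, U)),
      ∀ (y : X) (hy : y ∈ U), Submodule.span (X.presheaf.stalk y)
        (Set.range fun i => M.presheaf.germ U y hy (s i)) = ⊤ := by
  obtain ⟨σ, hσ⟩ := hM.exists_localGeneratorsData
  obtain ⟨V, f, hV, hxV⟩ := (σ.coversTop (⊤ : X.Opens)) x trivial
  obtain ⟨i₀, ⟨g⟩⟩ := (Sieve.mem_ofObjects_iff ..).mp hV
  have := hσ.isFiniteType i₀
  let fI : Fintype (σ.generators i₀).I := Fintype.ofFinite _
  exact ⟨σ.X i₀, leOfHom g hxV, (σ.generators i₀).I, fI,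
    fun i => ((σ.generators i₀).s i).eval (op (Over.mk (𝟙 (σ.X i₀)))), fun y hy =>
    span_germ_eq_top M _ (fun W g t => exists_local_sum (σ.X i₀) M (σ.generators i₀) g t) y hy⟩

instance finite_stalk (M : X.Modules) [SheafOfModules.IsFiniteType (R := X.ringCatSheaf) M] (x : X) :
    Module.Finite (X.presheaf.stalk x) (M.presheaf.stalk x) := by
  obtain ⟨U, hxU, I, _, s, hs⟩ := exists_generators M x
  exact ⟨Submodule.fg_def.mpr ⟨_, Set.finite_range _, hs x hxU⟩⟩

end Groth.Agent.ModStalk
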