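import Groth.Prelude.Def_MeroSh
import Groth.Prelude.Def_RefHull
import Groth.Agent.ModStalk.Lift
import Groth.Agent.ModStalk.Stalk
import Groth.Prelude.Def_CohB1
import Mathlib.AlgebraicGeometry.Modules.Sheaf
import Mathlib.AlgebraicGeometry.ResidueField

/-! Stalks of pullbacks of modules: `(f^* M)_x` is the universal semilinear target of `M_{f x}`. -/

set_option autoImplicit false
universe u

open CategoryTheory CategoryTheory.Limits AlgebraicGeometry Opposite TopologicalSpace

namespace Groth.Agent.ModStalk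

variable {X : Scheme.{u}}

/-- The fibres of a skyscraper module. -/
def SkyFib (x : X) (N : Type u) (y : X) : Type u := PLift (y = x) → N

variable (x : X) (N : Type u) [AddCommGroup N] [Module (X.presheaf.stalk x) N]

noncomputable instance (y : X) : AddCommGroup (SkyFib x N y) :=
  inferInstanceAs (AddCommGroup (PLift (y = x) → N))

/-- Transport of the local ring along `y = x`. -/
noncomputable def skyHom {x y : X} (e : PLift (y = x)) : X.presheaf.stalk y →+* X.presheaf.stalk x :=
  (X.presheaf.stalkSpecializes (show x ⤳ y from specializes_of_eq e.down.symm)).hom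

noncomputable instance (y : X) : Module (X.presheaf.stalk y) (SkyFib x N y) where
  smul r h := fun (e : PLift (y = x)) => skyHom e r • (h e : N)
  one_smul h := funext fun e => by
    show skyHom e 1 • h e = h e
    rw [map_one, one_smul]
  mul_smul r s h := funext fun e => by
    show skyHom e (r * s) • h e = skyHom e r • skyHom e s • h e
    rw [map_mul, mul_smul]
  smul_zero r := funext fun e => smul_zero _
  smul_add r h h' := funext fun e => smul_add _ _ _
  add_smul r s h := funext fun e => by
    show skyHom e (r + s) • h e = skyHom e r • h e + skyHom e s • h e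
    rw [map_add, add_smul]
  zero_smul h := funext fun e => by
    show skyHom e 0 • h e = 0
    rw [map_zero, zero_smul]

/-- The predicate satisfied by all families. -/
def allPred : TopCat.LocalPredicate (SkyFib x N) where
  pred {_} _ := True
  res _ _ _ := trivial
  locality _ _ := trivial

noncomputable instance : Mero.IsModPred (allPred x N) :=
  ⟨fun _ => trivial, fun _ _ _ _ _ => trivial, fun _ _ _ _ => trivial⟩

/-- The skyscraper module at `x` with value `N`. -/
noncomputable def skyMod : X.Modules := Mero.modOf (allPred x N)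

variable {x N}

/-- The value of a section of the skyscraper module. -/
noncomputable def skyVal {U : X.Opens} (hx : x ∈ U) : Γ(skyMod x N, U) →+ N where
  toFun s := s.1 ⟨x, hx⟩ ⟨rfl⟩
  map_zero' := rfl
  map_add' _ _ := rfl

/-- The section of the skyscraper module with a given value. -/
noncomputable def skyMk (U : X.Opens) (g : x ∈ U → N) : Γ(skyMod x N, U) :=
  ⟨fun y e => g (e.down ▸ y.2 : x ∈ U), trivial⟩

theorem skyVal_mk {U : X.Opens} (hx : x ∈ U) (g : x ∈ U → N) : skyVal hx (skyMk U g) = g hx := rfl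

theorem skyVal_smul {U : X.Opens} (hx : x ∈ U) (r : Γ(X, U)) (s : Γ(skyMod x N, U)) :
    skyVal hx (r • s) = X.presheaf.germ U x hx r • skyVal hx s := by
  show skyHom (⟨rfl⟩ : PLift (x = x)) (X.presheaf.germ U x hx r) • skyVal hx s = _
  rw [skyHom, TopCat.Presheaf.stalkSpecializes_refl]
  rfl

theorem skyVal_res {U V : X.Opens} (i : V ≤ U) (hx : x ∈ V) (s : Γ(skyMod x N, U)) :
    skyVal hx ((skyMod x N).presheaf.map (homOfLE i).op s) = skyVal (i hx) s := rfl

theorem sky_ext {U : X.Opens} {s t : Γ(skyMod x N, U)} (h : ∀ hx : x ∈ U, skyVal hx s = skyVal hx t) :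
    s = t := by
  refine Subtype.ext (funext fun y => funext fun e => ?_)
  obtain ⟨y, hy⟩ := y
  obtain ⟨rfl⟩ := e
  exact h hy

/-- The morphism to a skyscraper module induced by a linear map on the stalk. -/
noncomputable def toSky (F : X.Modules) (l : F.presheaf.stalk x →ₗ[X.presheaf.stalk x] N) : F ⟶ skyMod x N :=
  ⟨PresheafOfModules.homMk
    { app := fun U => AddCommGrpCat.ofHom
        { toFun := fun m => skyMk U.unop fun hx => l (F.presheaf.germ U.unop x hx m)
          map_zero' := sky_ext fun hx => (congrArg l (map_zero (F.presheaf.germ U.unop x hx).hom)).trans l.map_zero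
          map_add' := fun a b => sky_ext fun hx =>
            (congrArg l (map_add (F.presheaf.germ U.unop x hx).hom a b)).trans (l.map_add _ _) }
      naturality := fun U V i => by
        ext m
        exact sky_ext (U := V.unop) fun hx => congrArg l (F.presheaf.germ_res_apply i.unop x hx m) }
    fun U r m => sky_ext (U := U.unop) fun hx => (congrArg l (germ_smul F x hx r m)).trans
      ((l.map_smul _ _).trans (skyVal_smul hx r (skyMk U.unop fun h => l (F.presheaf.germ U.unop x h m))).symm)⟩

theorem skyVal_toSky (F : X.Modules) (l : F.presheaf.stalk x →ₗ[X.presheaf.stalk x] N) {U : X.Opens}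
    (hx : x ∈ U) (m : Γ(F, U)) : skyVal hx ((toSky F l).app U m) = l (F.presheaf.germ U x hx m) := rfl

/-- The value at `x` of a morphism to a skyscraper module, on the stalk. -/
theorem exists_stalkVal (F : X.Modules) (φ : F ⟶ skyMod x N) :
    ∃ l : F.presheaf.stalk x →ₗ[X.presheaf.stalk x] N,
      ∀ (U : X.Opens) (hx : x ∈ U) (m : Γ(F, U)), l (F.presheaf.germ U x hx m) = skyVal hx (φ.app U m) := by
  have hwd : ∀ (U V : X.Opens) (hU : x ∈ U) (hV : x ∈ V) (a : Γ(F, U)) (b : Γ(F, V)),
      F.presheaf.germ U x hU a = F.presheaf.germ V x hV b → skyVal hU (φ.app U a) = skyVal hV (φ.app V b) := by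
    intro U V hU hV a b h
    obtain ⟨W, hW, i, j, hij⟩ := F.presheaf.germ_eq x hU hV a b h
    have h1 := congrArg (fun c => skyVal hW (φ.app W c)) hij
    simp only at h1
    rwa [show i = homOfLE i.le from rfl, show j = homOfLE j.le from rfl, app_res, app_res, skyVal_res,
      skyVal_res] at h1
  choose U hU a ha using fun v : F.presheaf.stalk x => F.presheaf.exists_germ_eq v
  let g : F.presheaf.stalk x → N := fun v => skyVal (hU v) (φ.app (U v) (a v))
  have hg : ∀ (V : X.Opens) (hV : x ∈ V) (m : Γ(F, V)), g (F.presheaf.germ V x hV m) = skyVal hV (φ.app V m) :=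
    fun V hV m => hwd _ _ _ _ _ _ (ha _)
  refine ⟨{ toFun := g, map_add' := fun v w => ?_, map_smul' := fun r v => ?_ }, hg⟩
  · obtain ⟨V, hV, b, rfl⟩ := F.presheaf.exists_germ_eq v
    obtain ⟨W, hW, c, rfl⟩ := F.presheaf.exists_germ_eq w
    have hx : x ∈ V ⊓ W := ⟨hV, hW⟩
    rw [← F.presheaf.germ_res_apply (homOfLE (inf_le_left : V ⊓ W ≤ V)) x hx b,
      ← F.presheaf.germ_res_apply (homOfLE (inf_le_right : V ⊓ W ≤ W)) x hx c, ← map_add, hg, hg, hg, map_add, map_add]
  · obtain ⟨V, hV, b, rfl⟩ := F.presheaf.exists_germ_eq v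
    obtain ⟨W, hW, c, rfl⟩ := X.presheaf.exists_germ_eq r
    have hx : x ∈ V ⊓ W := ⟨hV, hW⟩
    rw [RingHom.id_apply, ← F.presheaf.germ_res_apply (homOfLE (inf_le_left : V ⊓ W ≤ V)) x hx b,
      ← X.presheaf.germ_res_apply (homOfLE (inf_le_right : V ⊓ W ≤ W)) x hx c, ← germ_smul, hg, hg,
      Scheme.Modules.Hom.app_smul, skyVal_smul]

variable {Y : Scheme.{u}} (f : X ⟶ Y) (M : Y.Modules)

/-- The unit of adjunction on stalks: `M_{f x} → (f^* M)_x`. -/
noncomputable def pullGerm (x : X) :
    M.presheaf.stalk (f x) →+ ((Scheme.Modules.pullback f).obj M).presheaf.stalk x :=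
  ((TopCat.Presheaf.stalkFunctor Ab (f x)).map
      ((Scheme.Modules.pullbackPushforwardAdjunction f).unit.app M).mapPresheaf ≫
    TopCat.Presheaf.stalkPushforward Ab f.base ((Scheme.Modules.pullback f).obj M).presheaf x).hom

theorem pullGerm_germ (x : X) {U : Y.Opens} (hx : f x ∈ U) (m : Γ(M, U)) :
    pullGerm f M x (M.presheaf.germ U (f x) hx m) =
      ((Scheme.Modules.pullback f).obj M).presheaf.germ (f ⁻¹ᵁ U) x hx
        (((Scheme.Modules.pullbackPushforwardAdjunction f).unit.app M).app U m) := by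
  refine (congrArg (TopCat.Presheaf.stalkPushforward Ab f.base ((Scheme.Modules.pullback f).obj M).presheaf x)
    (TopCat.Presheaf.stalkFunctor_map_germ_apply U (f x) hx _ m)).trans ?_
  exact ConcreteCategory.congr_hom
    (TopCat.Presheaf.stalkPushforward_germ Ab f.base ((Scheme.Modules.pullback f).obj M).presheaf U x hx) _

theorem pullGerm_smul (x : X) (r : Y.presheaf.stalk (f x)) (v : M.presheaf.stalk (f x)) :
    pullGerm f M x (r • v) = f.stalkMap x r • pullGerm f M x v := by
  obtain ⟨V, hV, b, rfl⟩ := M.presheaf.exists_germ_eq v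
  obtain ⟨W, hW, c, rfl⟩ := Y.presheaf.exists_germ_eq r
  have hx : f x ∈ V ⊓ W := ⟨hV, hW⟩
  rw [← M.presheaf.germ_res_apply (homOfLE (inf_le_left : V ⊓ W ≤ V)) (f x) hx b,
    ← Y.presheaf.germ_res_apply (homOfLE (inf_le_right : V ⊓ W ≤ W)) (f x) hx c, ← germ_smul, pullGerm_germ,
    pullGerm_germ, Scheme.Modules.Hom.app_smul, Scheme.Hom.germ_stalkMap_apply]
  exact germ_smul ((Scheme.Modules.pullback f).obj M) x hx _ _

/-- Linear maps out of `(f^* M)_x` are determined on the image of `M_{f x}`. -/
theorem pullStalk_ext {x : X} {N : Type u} [AddCommGroup N] [Module (X.presheaf.stalk x) N]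
    (l l' : ((Scheme.Modules.pullback f).obj M).presheaf.stalk x →ₗ[X.presheaf.stalk x] N)
    (h : ∀ v, l (pullGerm f M x v) = l' (pullGerm f M x v)) : l = l' := by
  let adj := Scheme.Modules.pullbackPushforwardAdjunction f
  have h1 : toSky _ l = toSky _ l' := by
    apply (adj.homEquiv M (skyMod x N)).injective
    rw [Adjunction.homEquiv_unit, Adjunction.homEquiv_unit]
    refine Scheme.Modules.hom_ext _ _ fun U => ?_
    ext m
    refine sky_ext (U := f ⁻¹ᵁ U) fun hx => ?_
    refine (skyVal_toSky _ l hx _).trans (Eq.trans ?_ (skyVal_toSky _ l' hx _).symm)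
    have := h (M.presheaf.germ U (f x) hx m)
    rw [pullGerm_germ] at this
    exact this
  refine LinearMap.ext fun v => ?_
  obtain ⟨U, hx, m, rfl⟩ := ((Scheme.Modules.pullback f).obj M).presheaf.exists_germ_eq v
  have h2 := congrArg (fun φ => skyVal hx (Scheme.Modules.Hom.app φ U m)) h1
  exact h2

/-- Semilinear maps out of `M_{f x}` extend to `(f^* M)_x`. -/
theorem exists_pullStalk_lift {x : X} {N : Type u} [AddCommGroup N] [Module (X.presheaf.stalk x) N]
    (ψ : M.presheaf.stalk (f x) →+ N) (hψ : ∀ r v, ψ (r • v) = f.stalkMap x r • ψ v) :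
    ∃ l : ((Scheme.Modules.pullback f).obj M).presheaf.stalk x →ₗ[X.presheaf.stalk x] N,
      ∀ v, l (pullGerm f M x v) = ψ v := by
  let adj := Scheme.Modules.pullbackPushforwardAdjunction f
  let β : M ⟶ (Scheme.Modules.pushforward f).obj (skyMod x N) :=
    ⟨PresheafOfModules.homMk
      { app := fun U => AddCommGrpCat.ofHom
          { toFun := fun m => (skyMk (f ⁻¹ᵁ U.unop) fun hx => ψ (M.presheaf.germ U.unop (f x) hx m) :
              Γ(skyMod x N, f ⁻¹ᵁ U.unop))
            map_zero' := sky_ext (U := f ⁻¹ᵁ U.unop) fun hx =>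
              (congrArg ψ (map_zero (M.presheaf.germ U.unop (f x) hx).hom)).trans ψ.map_zero
            map_add' := fun a b => sky_ext (U := f ⁻¹ᵁ U.unop) fun hx =>
              (congrArg ψ (map_add (M.presheaf.germ U.unop (f x) hx).hom a b)).trans (ψ.map_add _ _) }
        naturality := fun U V i => by
          ext m
          exact sky_ext (U := f ⁻¹ᵁ V.unop) fun hx => congrArg ψ (M.presheaf.germ_res_apply i.unop (f x) hx m) }
      fun U r m => sky_ext (U := f ⁻¹ᵁ U.unop) fun hx => by
        refine (skyVal_mk hx fun h => ψ (M.presheaf.germ U.unop (f x) h (r • m))).trans ((congrArg ψ (germ_smul M (f x) hx r m)).trans ((hψ _ _).trans ?_))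
        refine Eq.trans ?_ (skyVal_smul hx (f.app U.unop r) _).symm
        rw [Scheme.Hom.germ_stalkMap_apply]
        rfl⟩
  obtain ⟨l, hl⟩ := exists_stalkVal _ ((adj.homEquiv M (skyMod x N)).symm β)
  refine ⟨l, fun v => ?_⟩
  obtain ⟨U, hx, m, rfl⟩ := M.presheaf.exists_germ_eq v
  rw [pullGerm_germ, hl]
  have h1 := (adj.homEquiv M (skyMod x N)).apply_symm_apply β
  rw [Adjunction.homEquiv_unit] at h1
  exact congrArg (fun φ => skyVal (U := f ⁻¹ᵁ U) hx (Scheme.Modules.Hom.app φ U m)) h1

/-- The image of `M_{f x}` generates `(f^* M)_x`. -/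
theorem span_pullGerm (x : X) :
    Submodule.span (X.presheaf.stalk x) (Set.range (pullGerm f M x)) = ⊤ := by
  have h := pullStalk_ext f M (Submodule.span (X.presheaf.stalk x) (Set.range (pullGerm f M x))).mkQ 0
    fun v => (Submodule.Quotient.mk_eq_zero _).mpr (Submodule.subset_span ⟨v, rfl⟩)
  exact Submodule.eq_top_iff'.mpr fun w => (Submodule.Quotient.mk_eq_zero _).mp (LinearMap.congr_fun h w)

theorem subsingleton_pullStalk (x : X) [Subsingleton (M.presheaf.stalk (f x))] :
    Subsingleton (((Scheme.Modules.pullback f).obj M).presheaf.stalk x) := by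
  have h : Submodule.span (X.presheaf.stalk x) (Set.range (pullGerm f M x)) = ⊥ :=
    Submodule.span_eq_bot.mpr fun w ⟨v, hv⟩ => by rw [← hv, Subsingleton.elim v 0, map_zero]
  rw [span_pullGerm] at h
  exact subsingleton_of_forall_eq 0 fun w => (Submodule.mem_bot _).mp (h ▸ Submodule.mem_top)

/-- A nonzero finite module over `O_{f x}` has a nonzero semilinear functional to `κ(x)`. -/
theorem exists_residue_functional (x : X) (Q : Type u) [AddCommGroup Q] [Module (Y.presheaf.stalk (f x)) Q]
    [Module.Finite (Y.presheaf.stalk (f x)) Q] [Nontrivial Q] :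
    ∃ ψ : Q →+ X.residueField x,
      (∀ r v, ψ (r • v) = X.residue x (f.stalkMap x r) * ψ v) ∧ ∃ v, ψ v ≠ 0 := by
  let R := Y.presheaf.stalk (f x)
  let m := IsLocalRing.maximalIdeal R
  have hne : (m • ⊤ : Submodule R Q) ≠ ⊤ := fun h0 => top_ne_bot (Submodule.eq_bot_of_le_smul_of_le_jacobson_bot m ⊤
    Module.Finite.fg_top h0.ge (IsLocalRing.maximalIdeal_le_jacobson _))
  obtain ⟨w, -, hw⟩ := SetLike.exists_of_lt (lt_top_iff_ne_top.mpr hne)
  let V := Q ⧸ (m • ⊤ : Submodule R Q)
  have hw' : (Submodule.Quotient.mk w : V) ≠ 0 := by rwa [Ne, Submodule.Quotient.mk_eq_zero]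
  obtain ⟨d, hd⟩ : ∃ d : Module.Dual (R ⧸ m) V, d (Submodule.Quotient.mk w) ≠ 0 := by
    letI := Ideal.Quotient.field m
    by_contra hcon
    push Not at hcon
    exact hw' ((Module.forall_dual_apply_eq_zero_iff (R ⧸ m) _).mp hcon)
  let ρ : R ⧸ m →+* X.residueField x := Ideal.Quotient.lift m
    ((X.residue x).hom.comp (f.stalkMap x).hom) fun a ha => by
      show IsLocalRing.residue (X.presheaf.stalk x) (f.stalkMap x a) = 0
      exact IsLocalRing.residue_eq_zero_iff _ |>.mpr ((IsLocalRing.mem_maximalIdeal _).mpr fun hu =>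
        (IsLocalRing.mem_maximalIdeal _).mp ha (isUnit_of_map_unit (f.stalkMap x).hom a hu))
  refine ⟨ρ.toAddMonoidHom.comp (d.toAddMonoidHom.comp (Submodule.mkQ (m • ⊤ : Submodule R Q)).toAddMonoidHom),
    fun r v => ?_, w, ?_⟩
  · show ρ (d (Submodule.Quotient.mk (r • v))) = X.residue x (f.stalkMap x r) * ρ (d (Submodule.Quotient.mk v))
    rw [Submodule.Quotient.mk_smul, ← IsScalarTower.algebraMap_smul (R ⧸ m) r (Submodule.Quotient.mk v : V),
      map_smul, smul_eq_mul, map_mul]
    rfl
  · intro h0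
    letI := Ideal.Quotient.field m
    exact hd (ρ.injective (h0.trans (map_zero _).symm))

/-- A finite module with nonzero stalk has nonzero pullback stalk. -/
theorem nontrivial_pullStalk (x : X) [Module.Finite (Y.presheaf.stalk (f x)) (M.presheaf.stalk (f x))]
    [Nontrivial (M.presheaf.stalk (f x))] :
    Nontrivial (((Scheme.Modules.pullback f).obj M).presheaf.stalk x) := by
  by_contra h
  rw [not_nontrivial_iff_subsingleton] at h
  obtain ⟨ψ, hψ, w, hw⟩ := exists_residue_functional f x (M.presheaf.stalk (f x))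
  letI : Module (X.presheaf.stalk x) (X.residueField x) := Module.compHom _ (X.residue x).hom
  obtain ⟨l, hl⟩ := exists_pullStalk_lift f M (x := x) ψ hψ
  refine hw ?_
  rw [← hl w, Subsingleton.elim (pullGerm f M x w) 0, map_zero]

/-- Naturality of `pullGerm`. -/
theorem stalkMap_pullGerm {M' : Y.Modules} (u : M ⟶ M') (x : X) (v : M.presheaf.stalk (f x)) :
    RefHull.stalkMapₗ ((Scheme.Modules.pullback f).map u) x (pullGerm f M x v) =
      pullGerm f M' x (RefHull.stalkMapₗ u (f x) v) := by
  obtain ⟨U, hx, m, rfl⟩ := M.presheaf.exists_germ_eq v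
  rw [pullGerm_germ, RefHull.stalkMapₗ_germ, RefHull.stalkMapₗ_germ, pullGerm_germ]
  congr 1
  exact (congrArg (fun φ => Scheme.Modules.Hom.app φ U m)
    ((Scheme.Modules.pullbackPushforwardAdjunction f).unit.naturality u)).symm

theorem stalkMap_surjective_of_epi {F G : X.Modules} (u : F ⟶ G) [Epi u] (x : X) :
    Function.Surjective (RefHull.stalkMapₗ u x) := by
  intro v
  obtain ⟨U, hx, t, rfl⟩ := G.presheaf.exists_germ_eq v
  obtain ⟨V, h, hxV, b, hb⟩ := exists_local_lift u t x hx
  exact ⟨F.presheaf.germ V x hxV b, by rw [RefHull.stalkMapₗ_germ, hb, TopCat.Presheaf.germ_res_apply]⟩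

theorem epi_of_stalkMap_surjective {F G : X.Modules} (u : F ⟶ G)
    (h : ∀ x, Function.Surjective (RefHull.stalkMapₗ u x)) : Epi u := by
  refine ⟨fun {Z} g g' e => Scheme.Modules.hom_ext g g' fun U => ?_⟩
  ext t
  refine eq_of_germ_eq _ _ _ fun x hx => ?_
  obtain ⟨v, hv⟩ := h x (G.presheaf.germ U x hx t)
  obtain ⟨V, hV, b, rfl⟩ := F.presheaf.exists_germ_eq v
  rw [RefHull.stalkMapₗ_germ] at hv
  have h1 : ∀ k : G ⟶ Z, RefHull.stalkMapₗ k x (G.presheaf.germ V x hV (u.app V b)) =
      RefHull.stalkMapₗ k x (G.presheaf.germ U x hx t) := fun k => by rw [hv]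
  refine (RefHull.stalkMapₗ_germ g x hx t).symm.trans (Eq.trans ?_ (RefHull.stalkMapₗ_germ g' x hx t))
  rw [← h1 g, ← h1 g', RefHull.stalkMapₗ_germ, RefHull.stalkMapₗ_germ]
  exact congrArg _ (congrArg (fun φ => Scheme.Modules.Hom.app φ V b) e)

/-- Pullback preserves epimorphisms onto finite type modules exactly, over points in the image. -/
theorem stalkMap_surjective_of_pullback {M' : Y.Modules} (u : M ⟶ M') (x : X)
    [Module.Finite (Y.presheaf.stalk (f x)) (M'.presheaf.stalk (f x))]
    (h : Function.Surjective (RefHull.stalkMapₗ ((Scheme.Modules.pullback f).map u) x)) :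
    Function.Surjective (RefHull.stalkMapₗ u (f x)) := by
  let R := LinearMap.range (RefHull.stalkMapₗ u (f x))
  by_contra hs
  have : Nontrivial (M'.presheaf.stalk (f x) ⧸ R) :=
    Submodule.Quotient.nontrivial_iff.mpr fun h0 => hs (LinearMap.range_eq_top.mp h0)
  obtain ⟨ψ, hψ, w, hw⟩ := exists_residue_functional f x (M'.presheaf.stalk (f x) ⧸ R)
  letI : Module (X.presheaf.stalk x) (X.residueField x) := Module.compHom _ (X.residue x).hom
  obtain ⟨l, hl⟩ := exists_pullStalk_lift f M' (x := x) (ψ.comp R.mkQ.toAddMonoidHom) fun r v => hψ r (R.mkQ v)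
  have h0 : l.comp (RefHull.stalkMapₗ ((Scheme.Modules.pullback f).map u) x) = 0 :=
    pullStalk_ext f M _ _ fun v => by
      rw [LinearMap.comp_apply, stalkMap_pullGerm, hl, LinearMap.zero_apply, AddMonoidHom.comp_apply,
        LinearMap.toAddMonoidHom_coe, Submodule.mkQ_apply,
        (Submodule.Quotient.mk_eq_zero R).mpr ⟨v, rfl⟩, map_zero]
  obtain ⟨w', rfl⟩ := Submodule.Quotient.mk_surjective R w
  obtain ⟨z, hz⟩ := h (pullGerm f M' x w')
  exact hw ((hl w').symm.trans ((congrArg l hz.symm).trans (LinearMap.congr_fun h0 z)))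

/-- The support of the pullback of a finite type module. -/
theorem support_pullback [SheafOfModules.IsFiniteType (R := Y.ringCatSheaf) M] :
    CohB1.support ((Scheme.Modules.pullback f).obj M) = f ⁻¹' CohB1.support M := by
  ext x
  show ¬ Subsingleton _ ↔ ¬ Subsingleton _
  refine not_congr ⟨fun h => ?_, fun h => subsingleton_pullStalk f M x⟩
  by_contra h'
  rw [not_subsingleton_iff_nontrivial] at h'
  exact not_nontrivial_iff_subsingleton.mpr h (nontrivial_pullStalk f M x)

end Groth.Agent.ModStalk
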