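import Groth.Agent.ModStalk.Stalk
import Mathlib.Topology.Sheaves.Skyscraper
import Mathlib.AlgebraicGeometry.Modules.Sheaf

/-! Taking stalks of sheaves of modules commutes with colimits. -/

set_option autoImplicit false
universe v v' u u'

open CategoryTheory CategoryTheory.Limits AlgebraicGeometry Opposite TopologicalSpace

namespace Groth.Agent.ModStalk

theorem preservesColimitsOfShape_of_reflective {A B D K : Type*} [Category A] [Category B] [Category D]
    [Category K] {L : A ⥤ B} {R : B ⥤ A} (adj : L ⊣ R) [IsIso adj.counit] [HasColimitsOfShape K A]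
    (T : B ⥤ D) [PreservesColimitsOfShape K (L ⋙ T)] : PreservesColimitsOfShape K T where
  preservesColimit {E} := by
    have := adj.leftAdjoint_preservesColimits
    let e : (E ⋙ R) ⋙ L ≅ E :=
      Functor.associator _ _ _ ≪≫ Functor.isoWhiskerLeft E (asIso adj.counit) ≪≫ E.rightUnitor
    have : PreservesColimit ((E ⋙ R) ⋙ L) T :=
      preservesColimit_of_preserves_colimit_cocone
        (isColimitOfPreserves L (colimit.isColimit (E ⋙ R)))
        (isColimitOfPreserves (L ⋙ T) (colimit.isColimit (E ⋙ R)))
    exact preservesColimit_of_iso_diagram T e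

section Site

variable {C : Type u'} [Category.{v'} C] {J : GrothendieckTopology C} {R : Sheaf J RingCat.{u}}
  [HasSheafify J AddCommGrpCat.{u}] [J.WEqualsLocallyBijective AddCommGrpCat.{u}]

theorem preservesColimitsOfShape_toSheaf (K : Type v) [Category.{v} K]
    [HasColimitsOfShape K (PresheafOfModules.{u} R.obj)]
    [PreservesColimitsOfShape K (PresheafOfModules.toPresheaf.{u} R.obj)] :
    PreservesColimitsOfShape K (SheafOfModules.toSheaf.{u} R) := by
  have hiso := PresheafOfModules.sheafificationCompToSheaf.{u} (𝟙 R.obj)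
  have : (presheafToSheaf J AddCommGrpCat.{u}).IsLeftAdjoint := inferInstance
  have : PreservesColimitsOfShape K
      (PresheafOfModules.sheafification.{u} (𝟙 R.obj) ⋙ SheafOfModules.toSheaf R) :=
    preservesColimitsOfShape_of_natIso hiso.symm
  exact preservesColimitsOfShape_of_reflective (PresheafOfModules.sheafificationAdjunction.{u} (𝟙 R.obj))
    (SheafOfModules.toSheaf R)

end Site

variable {X : Scheme.{u}}

/-- The stalk of a sheaf of modules as an abelian group. -/
noncomputable abbrev stalkAb (x : X) : X.Modules ⥤ Ab.{u} :=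
  Scheme.Modules.toPresheaf X ⋙ TopCat.Presheaf.stalkFunctor Ab.{u} x

theorem preservesColimitsOfShape_stalkAb (x : X) (K : Type u) [Category.{u} K] :
    PreservesColimitsOfShape K (stalkAb x) := by
  have h2 := preservesColimitsOfShape_toSheaf (R := X.ringCatSheaf) K
  have h3 : PreservesColimitsOfShape K (TopCat.Sheaf.forget Ab.{u} X ⋙ TopCat.Presheaf.stalkFunctor Ab.{u} x) := by
    have := Adjunction.ofIsLeftAdjoint (TopCat.Sheaf.forget Ab.{u} (X : TopCat.{u}) ⋙ TopCat.Presheaf.stalkFunctor Ab.{u} x)
    have h : PreservesColimitsOfSize.{u, u} _ := this.leftAdjoint_preservesColimits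
    exact h.preservesColimitsOfShape
  exact @comp_preservesColimitsOfShape _ _ _ _ _ _ _ _ (SheafOfModules.toSheaf X.ringCatSheaf)
    (TopCat.Sheaf.forget Ab.{u} X ⋙ TopCat.Presheaf.stalkFunctor Ab.{u} x) h2 h3

end Groth.Agent.ModStalk
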