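import Groth.Agent.ModStalk.Lift
import Groth.Agent.ModStalk.QCoh
import Groth.Agent.ModStalk.FiniteType
import Groth.Prelude.Def_ClSub2

/-! Kernels of quasi-coherent modules; the ideal module of an ideal sheaf. -/

set_option autoImplicit false
universe u

open CategoryTheory CategoryTheory.Limits AlgebraicGeometry

namespace Groth.Agent.ModStalk

variable {X : Scheme.{u}}

/-- The kernel in a left exact sequence of quasi-coherent modules is quasi-coherent. -/
theorem isQuasicoherent_of_leftExact (S : ShortComplex X.Modules) (hS : S.Exact) [Mono S.f]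
    [S.X₂.IsQuasicoherent] [S.X₃.IsQuasicoherent] : Coh.IsQCoh S.X₁ := by
  have hzero : ∀ (U : X.Opens) a, S.g.app U (S.f.app U a) = 0 := fun U a =>
    congrArg (fun φ => Scheme.Modules.Hom.app φ U a) S.zero
  refine isQuasicoherent_of_localizing _ (fun U hU g t => ?_) fun U hU g s hs => ?_
  · obtain ⟨n, s₂, hs₂⟩ := exists_extend S.X₂ hU g (S.f.app _ t)
    obtain ⟨m, hm⟩ := exists_pow_smul_eq_zero S.X₃ hU g (S.g.app U s₂) (by
      rw [← app_res, hs₂, ← S.f.app_smul, hzero])
    obtain ⟨s₁, hs₁⟩ := exists_app_eq hS (W := U) (g ^ m • s₂) (by rw [S.g.app_smul, hm])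
    refine ⟨m + n, s₁, injective_app_of_mono _ S.f _ ?_⟩
    rw [app_res, hs₁, smul_res, hs₂, map_pow, S.f.app_smul, smul_smul, ← pow_add]
  · obtain ⟨n, hn⟩ := exists_pow_smul_eq_zero S.X₂ hU g (S.f.app U s) (by rw [← app_res, hs, map_zero])
    exact ⟨n, injective_app_of_mono _ S.f _ (by rw [S.f.app_smul, hn, map_zero])⟩

/-- The kernel of a morphism of quasi-coherent modules is quasi-coherent. -/
theorem isQuasicoherent_kernel {F G : X.Modules} (u : F ⟶ G) [F.IsQuasicoherent] [G.IsQuasicoherent] :
    Coh.IsQCoh (kernel u) := by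
  let S : ShortComplex X.Modules := ShortComplex.mk (kernel.ι u) u (kernel.condition u)
  have hS : S.Exact := ShortComplex.exact_of_f_is_kernel S (kernelIsKernel u)
  have : S.X₂.IsQuasicoherent := ‹F.IsQuasicoherent›
  have : S.X₃.IsQuasicoherent := ‹G.IsQuasicoherent›
  exact isQuasicoherent_of_leftExact S hS

/-- The ideal module of an ideal sheaf is quasi-coherent. -/
theorem isQuasicoherent_idealMod (I : X.IdealSheafData) : Coh.IsQCoh (ClSub.idealMod I) := by
  have : ((Scheme.Modules.pushforward I.subschemeι).obj (Coh.structureModule I.subscheme)).IsQuasicoherent :=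
    isQuasicoherent_pushforward I.subschemeι _
  exact isQuasicoherent_kernel _

/-- Sections of the ideal module over an affine open are the ideal. -/
theorem exists_idealMod_app (I : X.IdealSheafData) (U : X.affineOpens) (a : Γ(X, U.1)) :
    a ∈ I.ideal U ↔ ∃ t : Γ(ClSub.idealMod I, U.1), (ClSub.idealModι I).app U.1 t = a := by
  rw [← I.ker_subschemeι_app U, RingHom.mem_ker]
  let T : ShortComplex X.Modules := ShortComplex.mk (ClSub.idealModι I) (ClSub.toSubscheme I) (kernel.condition _)
  have hT : T.Exact := ShortComplex.exact_of_f_is_kernel T (kernelIsKernel (ClSub.toSubscheme I))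
  have : Mono T.f := inferInstanceAs (Mono (kernel.ι (ClSub.toSubscheme I)))
  constructor
  · intro ha
    exact exists_app_eq hT (W := U.1) a ha
  · rintro ⟨t, rfl⟩
    exact congrArg (fun φ => Scheme.Modules.Hom.app φ U.1 t) (kernel.condition (ClSub.toSubscheme I))

theorem idealModι_injective (I : X.IdealSheafData) (U : X.Opens) :
    Function.Injective ((ClSub.idealModι I).app U) := by
  have : Mono (ClSub.idealModι I) := inferInstanceAs (Mono (kernel.ι (ClSub.toSubscheme I)))
  exact injective_app_of_mono _ (ClSub.idealModι I) U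

end Groth.Agent.ModStalk
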