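import Groth.Agent.ModStalk.PullbackQCoh
import Groth.Agent.ModStalk.IdealMod

/-! Restriction of scalars for sheaves of modules; modules over quasi-coherent algebras. -/

set_option autoImplicit false
set_option linter.style.haveILetI false
universe w' w u

open CategoryTheory CategoryTheory.Limits

namespace Groth.Agent.ModStalk.AlgMod

section Generic

open SheafOfModules

variable {C : Type u} [SmallCategory C] {J : GrothendieckTopology C} (R : Sheaf J RingCat.{u})
  [HasSheafify J AddCommGrpCat.{u}] [J.WEqualsLocallyBijective AddCommGrpCat.{u}]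

theorem preservesColimits_toSheaf (K : Type w) [Category.{w'} K]
    [HasColimitsOfShape K AddCommGrpCat.{u}] :
    PreservesColimitsOfShape K (SheafOfModules.toSheaf.{u} R) where
  preservesColimit {F} := by
    let L := PresheafOfModules.sheafification.{u} (𝟙 R.obj)
    let e : F ≅ (F ⋙ forget R) ⋙ L :=
      Functor.isoWhiskerLeft F (asIso (PresheafOfModules.sheafificationAdjunction (𝟙 R.obj)).counit).symm
    have : PreservesColimit ((F ⋙ forget R) ⋙ L) (SheafOfModules.toSheaf.{u} R) := by
      have : PreservesColimit (F ⋙ forget R) L :=
        (PresheafOfModules.sheafificationAdjunction (𝟙 R.obj)).leftAdjoint_preservesColimits.preservesColimitsOfShape.preservesColimit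
      have : (presheafToSheaf J AddCommGrpCat.{u}).IsLeftAdjoint := inferInstance
      have : PreservesColimit (F ⋙ forget R) (L ⋙ SheafOfModules.toSheaf.{u} R) :=
        preservesColimit_of_natIso _ (PresheafOfModules.sheafificationCompToSheaf (𝟙 R.obj)).symm
      exact preservesColimit_of_preserves_colimit_cocone
        (isColimitOfPreserves L (colimit.isColimit (F ⋙ forget R)))
        (isColimitOfPreserves (L ⋙ SheafOfModules.toSheaf.{u} R) (colimit.isColimit (F ⋙ forget R)))
    exact preservesColimit_of_iso_diagram _ e.symm

variable {R} {S : Sheaf J RingCat.{u}} (α : R ⟶ S)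

instance : (SheafOfModules.toSheaf.{u} R).Additive where

theorem preservesColimits_restrictScalars (K : Type w) [Category.{w'} K]
    [HasColimitsOfShape K AddCommGrpCat.{u}] :
    PreservesColimitsOfShape K (SheafOfModules.restrictScalars.{u} α) := by
  have := preservesColimits_toSheaf R K
  have := preservesColimits_toSheaf S K
  have : PreservesColimitsOfShape K (SheafOfModules.restrictScalars.{u} α ⋙ SheafOfModules.toSheaf.{u} R) :=
    preservesColimitsOfShape_of_natIso (NatIso.ofComponents (fun M => Iso.refl ((SheafOfModules.toSheaf.{u} S).obj M)))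
  have : ReflectsColimitsOfShape K (SheafOfModules.toSheaf.{u} R) :=
    reflectsColimitsOfShape_of_reflectsIsomorphisms
  exact preservesColimitsOfShape_of_reflects_of_preserves _ (SheafOfModules.toSheaf.{u} R)

theorem preservesFiniteLimits_restrictScalars :
    PreservesFiniteLimits (SheafOfModules.restrictScalars.{u} α) := by
  refine ⟨fun K _ _ => ?_⟩
  have : PreservesLimitsOfShape K (SheafOfModules.restrictScalars.{u} α ⋙ SheafOfModules.toSheaf.{u} R) :=
    preservesLimitsOfShape_of_natIso (NatIso.ofComponents (fun M => Iso.refl ((SheafOfModules.toSheaf.{u} S).obj M)))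
  have : ReflectsLimitsOfShape K (SheafOfModules.toSheaf.{u} R) :=
    reflectsLimitsOfShape_of_reflectsIsomorphisms
  exact preservesLimitsOfShape_of_reflects_of_preserves _ (SheafOfModules.toSheaf.{u} R)

instance : (SheafOfModules.restrictScalars.{u} α).Faithful where
  map_injective {M N} f g h := by
    apply SheafOfModules.Hom.ext
    ext U x
    exact congrArg (fun φ : (SheafOfModules.restrictScalars α).obj M ⟶ (SheafOfModules.restrictScalars α).obj N =>
      φ.val.app U x) h

/-- A map whose sections contain generators after restriction of scalars is an epimorphism. -/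
theorem epi_of_sections {M N : SheafOfModules.{u} S} (p : N ⟶ M)
    (σ : ((SheafOfModules.restrictScalars.{u} α).obj M).GeneratingSections)
    (t : σ.I → ((SheafOfModules.restrictScalars.{u} α).obj N).sections)
    (h : ∀ i, sectionsMap ((SheafOfModules.restrictScalars.{u} α).map p) (t i) = σ.s i) : Epi p := by
  let G := SheafOfModules.restrictScalars.{u} α
  have h2 : (G.obj N).freeHomEquiv.symm t ≫ G.map p = σ.π := by
    rw [freeHomEquiv_symm_comp]
    exact congrArg _ (funext h)
  have : Epi ((G.obj N).freeHomEquiv.symm t ≫ G.map p) := by rw [h2]; infer_instance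
  have : Epi (G.map p) := epi_of_epi ((G.obj N).freeHomEquiv.symm t) _
  exact G.epi_of_epi_map this

/-- The sections of a restriction of scalars are those of the module. -/
noncomputable def toSections {M : SheafOfModules.{u} S} (s : ((SheafOfModules.restrictScalars.{u} α).obj M).sections) :
    M.sections :=
  PresheafOfModules.sectionsMk (fun U => s.val U) fun {U V} f => s.property f

/-- The sections of a module are those of its restriction of scalars. -/
noncomputable def ofSections {M : SheafOfModules.{u} S} (s : M.sections) :
    ((SheafOfModules.restrictScalars.{u} α).obj M).sections :=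
  PresheafOfModules.sectionsMk (fun U => s.val U) fun {U V} f => s.property f

/-- Generators after restriction of scalars generate. -/
noncomputable def generatingSections {M : SheafOfModules.{u} S}
    (σ : ((SheafOfModules.restrictScalars.{u} α).obj M).GeneratingSections) : M.GeneratingSections where
  I := σ.I
  s i := toSections α (σ.s i)
  epi := epi_of_sections α _ σ (fun i => ofSections α (freeSection i)) fun i => by
    have h := sectionsMap_freeHomEquiv_symm_freeSection (fun j => toSections α (σ.s j)) i
    apply PresheafOfModules.sections_ext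
    intro U
    exact congrArg (fun s : M.sections => s.val U) h

end Generic

section AffineQCoh

open AlgebraicGeometry

theorem isQuasicoherent_of_isColimit_spec {R : CommRingCat.{u}} {K : Type w} [Category.{w'} K]
    [HasColimitsOfShape K (ModuleCat.{u} R)] {D : K ⥤ (Spec R).Modules} (hD : ∀ k, (D.obj k).IsQuasicoherent)
    {c : Cocone D} (hc : IsColimit c) : c.pt.IsQuasicoherent := by
  let T := tilde.functor R
  let e : (D ⋙ moduleSpecΓFunctor) ⋙ T ≅ D :=
    NatIso.ofComponents (fun k =>
      haveI := (isQuasicoherent_iff_isIso_fromTildeΓ (D.obj k)).mp (hD k)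
      @asIso _ _ _ _ ((tilde.adjunction (R := R)).counit.app (D.obj k)) this)
      (fun f => (tilde.adjunction (R := R)).counit.naturality (D.map f))
  have h : IsColimit (T.mapCocone (colimit.cocone (D ⋙ moduleSpecΓFunctor))) :=
    isColimitOfPreserves T (colimit.isColimit _)
  exact (SheafOfModules.isQuasicoherent (Spec R).ringCatSheaf).prop_of_iso
    (IsColimit.coconePointsIsoOfNatIso h hc e) (inferInstanceAs (T.obj _).IsQuasicoherent)

/-- Quasi-coherent modules on an affine scheme are closed under colimits. -/
theorem isQuasicoherent_of_isColimit {W : Scheme.{u}} [IsAffine W] {K : Type w} [Category.{w'} K]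
    [HasColimitsOfShape K (ModuleCat.{u} Γ(W, ⊤))] {D : K ⥤ W.Modules} (hD : ∀ k, (D.obj k).IsQuasicoherent)
    {c : Cocone D} (hc : IsColimit c) : c.pt.IsQuasicoherent := by
  let a := Scheme.Modules.restrictFunctor W.isoSpec.inv
  haveI : PreservesColimit D a :=
    (Scheme.Modules.restrictAdjunction W.isoSpec.inv).leftAdjoint_preservesColimits.preservesColimitsOfShape.preservesColimit
  have h : (a.obj c.pt).IsQuasicoherent :=
    isQuasicoherent_of_isColimit_spec (D := D ⋙ a) (fun k => by have := hD k; exact inferInstanceAs ((D.obj k).restrict W.isoSpec.inv).IsQuasicoherent) (isColimitOfPreserves a hc)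
  exact (SheafOfModules.isQuasicoherent W.ringCatSheaf).prop_of_iso
    (((Scheme.Modules.restrictFunctorComp W.isoSpec.hom W.isoSpec.inv).app c.pt).symm ≪≫
      (Scheme.Modules.restrictFunctorCongr W.isoSpec.hom_inv_id).app c.pt ≪≫
      Scheme.Modules.restrictFunctorId.app c.pt)
    (inferInstanceAs ((Scheme.Modules.restrictFunctor W.isoSpec.hom).obj (a.obj c.pt)).IsQuasicoherent)

/-- A quasi-coherent module on an affine scheme has a presentation. -/
theorem exists_presentation {W : Scheme.{u}} [IsAffine W] (N : W.Modules) [N.IsQuasicoherent] :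
    Nonempty N.Presentation := by
  let N' := N.restrict W.isoSpec.inv
  have h : IsIso N'.fromTildeΓ := (isQuasicoherent_iff_isIso_fromTildeΓ N').mp inferInstance
  let P₀ : N'.Presentation := presIso (@asIso _ _ _ _ N'.fromTildeΓ h)
    (presentationTilde _ .univ (by simp) _ (Submodule.span_eq _))
  exact ⟨presIso (((Scheme.Modules.restrictFunctorComp W.isoSpec.hom W.isoSpec.inv).app N).symm ≪≫
      (Scheme.Modules.restrictFunctorCongr W.isoSpec.hom_inv_id).app N ≪≫
      Scheme.Modules.restrictFunctorId.app N)
    (Scheme.Modules.presentationRestrict W.isoSpec.hom P₀)⟩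

end AffineQCoh

section SchemeAlg

open AlgebraicGeometry SheafOfModules

variable {X : Scheme.{u}} {S : Sheaf (Opens.grothendieckTopology X) RingCat.{u}} (α : X.ringCatSheaf ⟶ S)

/-- The structure map over an open. -/
abbrev αOver (V : X.Opens) : X.ringCatSheaf.over V ⟶ S.over V :=
  ((Opens.grothendieckTopology X).overPullback RingCat.{u} V).map α

/-- Restriction of scalars commutes with restriction to an open. -/
noncomputable def overCompat (V : X.Opens) (F : SheafOfModules.{u} S) :
    SheafOfModules.over (R := X.ringCatSheaf) ((restrictScalars α).obj F) V ≅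
      (restrictScalars (αOver α V)).obj (F.over V) :=
  Iso.refl _

/-- A module over `S` over an open, as a module on a smaller scheme. -/
noncomputable def toMod (V W : X.Opens) (h : W ≤ V) :
    SheafOfModules.{u} (X.ringCatSheaf.over V) ⥤ (W : Scheme.{u}).Modules :=
  (Scheme.Modules.overEquiv V).functor ⋙ Scheme.Modules.restrictFunctor (X.homOfLE h)

/-- The comparison with restriction. -/
noncomputable def toModIso (V W : X.Opens) (h : W ≤ V) (N : X.Modules) :
    (toMod V W h).obj (SheafOfModules.over (R := X.ringCatSheaf) N V) ≅ N.restrict W.ι :=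
  (Scheme.Modules.restrictFunctor (X.homOfLE h)).mapIso ((Scheme.Modules.overFunctorEquiv V).app N) ≪≫
    ((Scheme.Modules.restrictFunctorComp (X.homOfLE h) V.ι).app N).symm ≪≫
    (Scheme.Modules.restrictFunctorCongr (X.homOfLE_ι h)).app N

variable (hB : ((restrictScalars α).obj (SheafOfModules.unit S) : X.Modules).IsQuasicoherent)
include hB

theorem isQuasicoherent_toMod_of_presentation {V : X.Opens} {F : SheafOfModules.{u} (S.over V)} (P : F.Presentation)
    {W : X.Opens} (h : W ≤ V) (hW : IsAffineOpen W) :
    ((toMod V W h).obj ((restrictScalars (αOver α V)).obj F)).IsQuasicoherent := by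
  haveI : IsAffine (W : Scheme.{u}) := hW
  let Φ := restrictScalars.{u} (αOver α V) ⋙ toMod V W h
  have hpres : ∀ (K : Type u) [SmallCategory K], PreservesColimitsOfShape K Φ := fun K _ => by
    haveI := preservesColimits_restrictScalars (αOver α V) K
    haveI : PreservesColimitsOfShape K (Scheme.Modules.restrictFunctor (X.homOfLE h)) :=
      (Scheme.Modules.restrictAdjunction (X.homOfLE h)).leftAdjoint_preservesColimits.preservesColimitsOfShape
    haveI : PreservesColimitsOfShape K (toMod V W h) :=
      comp_preservesColimitsOfShape (Scheme.Modules.overEquiv V).functor _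
    exact comp_preservesColimitsOfShape _ _
  haveI hpp : PreservesColimitsOfShape WalkingParallelPair Φ := by
    haveI := preservesColimits_restrictScalars (αOver α V) WalkingParallelPair
    haveI : PreservesColimitsOfShape WalkingParallelPair (Scheme.Modules.restrictFunctor (X.homOfLE h)) :=
      (Scheme.Modules.restrictAdjunction (X.homOfLE h)).leftAdjoint_preservesColimits.preservesColimitsOfShape
    haveI : PreservesColimitsOfShape WalkingParallelPair (toMod V W h) :=
      comp_preservesColimitsOfShape (Scheme.Modules.overEquiv V).functor _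
    exact comp_preservesColimitsOfShape _ _
  have hunit : (Φ.obj (SheafOfModules.unit (S.over V))).IsQuasicoherent := by
    have h0 : (Scheme.Modules.restrict ((restrictScalars α).obj (SheafOfModules.unit S) : X.Modules) W.ι).IsQuasicoherent :=
      inferInstance
    exact (SheafOfModules.isQuasicoherent (W : Scheme.{u}).ringCatSheaf).prop_of_iso
      (toModIso V W h ((restrictScalars α).obj (SheafOfModules.unit S))).symm h0
  have hfree : ∀ I : Type u, (Φ.obj (free (R := S.over V) I)).IsQuasicoherent := fun I => by
    haveI := hpres (Discrete I)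
    exact isQuasicoherent_of_isColimit (fun _ => hunit) (isColimitOfPreserves Φ (isColimitFreeCofan I))
  exact isQuasicoherent_of_isColimit (fun k => by cases k <;> exact hfree _)
    (isColimitOfPreserves Φ P.isColimit)

omit hB in
theorem isQuasicoherent_restrict_iff_cover (N : X.Modules)
    (h : ∀ x : X, ∃ W : X.Opens, x ∈ W ∧ IsAffineOpen W ∧ (N.restrict W.ι).IsQuasicoherent) :
    Coh.IsQCoh N := by
  choose W hxW hW hq using h
  have hp : ∀ x, Nonempty (N.restrict (W x).ι).Presentation := fun x => by
    haveI : IsAffine (W x : Scheme.{u}) := hW x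
    haveI := hq x
    exact exists_presentation _
  let d : SheafOfModules.QuasicoherentData.{u} (R := X.ringCatSheaf) N :=
    { I := X, X := W,
      coversTop := by
        rw [Opens.coversTop_iff, TopologicalSpace.IsOpenCover]
        exact eq_top_iff.mpr fun x _ => TopologicalSpace.Opens.mem_iSup.mpr ⟨x, hxW x⟩
      presentation := fun x => overPresentation N (W x) (hp x).some }
  exact d.isQuasicoherent

/-- A quasi-coherent module over a quasi-coherent algebra is quasi-coherent over the base. -/
theorem isQCoh_restrictScalars (F : SheafOfModules.{u} S) [F.IsQuasicoherent] :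
    Coh.IsQCoh ((restrictScalars α).obj F : X.Modules) := by
  obtain ⟨d⟩ := SheafOfModules.IsQuasicoherent.nonempty_quasicoherentData (M := F)
  refine isQuasicoherent_restrict_iff_cover _ fun x => ?_
  have hc := d.coversTop
  rw [Opens.coversTop_iff, TopologicalSpace.IsOpenCover] at hc
  obtain ⟨i, hi⟩ := TopologicalSpace.Opens.mem_iSup.mp (hc.ge (trivial : x ∈ (⊤ : X.Opens)))
  obtain ⟨_, ⟨W, hW, rfl⟩, hxW, hle⟩ :=
    X.isBasis_affineOpens.exists_subset_of_mem_open hi (d.X i).2
  refine ⟨W, hxW, hW, ?_⟩
  exact (SheafOfModules.isQuasicoherent (W : Scheme.{u}).ringCatSheaf).prop_of_iso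
    ((toMod _ W hle).mapIso (overCompat α (d.X i) F).symm ≪≫ toModIso _ W hle ((restrictScalars α).obj F))
    (isQuasicoherent_toMod_of_presentation α hB (V := d.X i) (F := F.over (d.X i)) (d.presentation i) hle hW)

omit hB in
theorem exists_generatingSections_over {W : X.Opens} (hW : IsAffineOpen W)
    (M : SheafOfModules.{u} (S.over W))
    (hM : ((Scheme.Modules.overEquiv W).functor.obj ((restrictScalars (αOver α W)).obj M)).IsQuasicoherent) :
    Nonempty M.GeneratingSections := by
  haveI : IsAffine (W : Scheme.{u}) := hW
  let E := Scheme.Modules.overEquiv W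
  let N := (restrictScalars (αOver α W)).obj M
  haveI := hM
  obtain ⟨P⟩ := exists_presentation (E.functor.obj N)
  let η : SheafOfModules.unit (X.ringCatSheaf.over W) ≅ E.inverse.obj (SheafOfModules.unit _) :=
    E.unitIso.app _ ≪≫ E.inverse.mapIso
      ((Scheme.Modules.overFunctorEquiv W).app (SheafOfModules.unit X.ringCatSheaf) ≪≫
        Scheme.Modules.restrictUnitIso W.ι)
  let Q : N.Presentation := presIso (E.unitIso.app N).symm (presEquiv E.symm η P)
  exact ⟨generatingSections (αOver α W) Q.generators⟩

theorem exists_presentation_over_affine (F : SheafOfModules.{u} S) {W : X.Opens} (hW : IsAffineOpen W)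
    (hF : (Scheme.Modules.restrict ((restrictScalars α).obj F : X.Modules) W.ι).IsQuasicoherent) :
    Nonempty (F.over W).Presentation := by
  haveI : IsAffine (W : Scheme.{u}) := hW
  let E := Scheme.Modules.overEquiv W
  let G := restrictScalars.{u} (αOver α W)
  have hM : (E.functor.obj (G.obj (F.over W))).IsQuasicoherent :=
    (SheafOfModules.isQuasicoherent (W : Scheme.{u}).ringCatSheaf).prop_of_iso
      (E.functor.mapIso (overCompat α W F).symm ≪≫ (Scheme.Modules.overFunctorEquiv W).app _).symm hF
  obtain ⟨σ⟩ := exists_generatingSections_over α hW _ hM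
  have hu : (Scheme.Modules.restrict ((restrictScalars α).obj (SheafOfModules.unit S) : X.Modules) W.ι).IsQuasicoherent :=
    inferInstance
  have hu' : (E.functor.obj (G.obj (SheafOfModules.unit (S.over W)))).IsQuasicoherent :=
    (SheafOfModules.isQuasicoherent (W : Scheme.{u}).ringCatSheaf).prop_of_iso
      ((Scheme.Modules.overFunctorEquiv W).app ((restrictScalars α).obj (SheafOfModules.unit S))).symm hu
  have hfree : (E.functor.obj (G.obj (free (R := S.over W) σ.I))).IsQuasicoherent := by
    haveI := preservesColimits_restrictScalars (αOver α W) (Discrete σ.I)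
    let Φ := G ⋙ E.functor
    haveI : PreservesColimitsOfShape (Discrete σ.I) Φ := comp_preservesColimitsOfShape _ _
    exact isQuasicoherent_of_isColimit (fun _ => hu') (isColimitOfPreserves Φ (isColimitFreeCofan σ.I))
  haveI := preservesFiniteLimits_restrictScalars (αOver α W)
  let Φ := G ⋙ E.functor
  haveI : PreservesFiniteLimits Φ := comp_preservesFiniteLimits _ _
  haveI : Φ.PreservesZeroMorphisms :=
    { map_zero := fun A B => by
        show E.functor.map (G.map (0 : A ⟶ B)) = 0
        rw [Functor.map_zero, Functor.map_zero] }
  have hK : (Φ.obj (kernel σ.π)).IsQuasicoherent := by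
    haveI : (Φ.obj (free (R := S.over W) σ.I)).IsQuasicoherent := hfree
    haveI : (Φ.obj (F.over W)).IsQuasicoherent := hM
    exact (SheafOfModules.isQuasicoherent (W : Scheme.{u}).ringCatSheaf).prop_of_iso
      (PreservesKernel.iso Φ σ.π).symm (isQuasicoherent_kernel (Φ.map σ.π))
  obtain ⟨τ⟩ := exists_generatingSections_over α hW _ hK
  exact ⟨{ generators := σ, relations := τ }⟩

/-- A module over a quasi-coherent algebra, quasi-coherent over the base, is quasi-coherent. -/
theorem isQuasicoherent_of_isQCoh_restrictScalars (F : SheafOfModules.{u} S)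
    (hF : Coh.IsQCoh ((restrictScalars α).obj F : X.Modules)) : F.IsQuasicoherent := by
  haveI : ((restrictScalars α).obj F : X.Modules).IsQuasicoherent := hF
  have key : ∀ x : X, ∃ W : X.Opens, x ∈ W ∧ Nonempty (F.over W).Presentation := by
    intro x
    obtain ⟨_, ⟨W, hW, rfl⟩, hxW, -⟩ := X.isBasis_affineOpens.exists_subset_of_mem_open (Set.mem_univ x) isOpen_univ
    exact ⟨W, hxW, exists_presentation_over_affine α hB F hW inferInstance⟩
  choose W hxW hP using key
  let d : SheafOfModules.QuasicoherentData.{u} (R := S) F :=
    { I := X, X := W,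
      coversTop := by
        rw [Opens.coversTop_iff, TopologicalSpace.IsOpenCover]
        exact eq_top_iff.mpr fun x _ => TopologicalSpace.Opens.mem_iSup.mpr ⟨x, hxW x⟩
      presentation := fun x => (hP x).some }
  exact d.isQuasicoherent

end SchemeAlg

end Groth.Agent.ModStalk.AlgMod
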