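import Groth.Agent.ModStalk.PullbackQCoh
import Groth.Agent.ModStalk.Localization
import Mathlib.RingTheory.IsTensorProduct
import Mathlib.RingTheory.Localization.BaseChange
import Mathlib.RingTheory.LocalProperties.Exactness

/-! Sections of pullbacks of quasi-coherent modules on affine opens are base changes. -/

set_option autoImplicit false
set_option linter.style.haveILetI false
universe u

open CategoryTheory CategoryTheory.Limits AlgebraicGeometry Opposite TopologicalSpace
open scoped TensorProduct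

namespace Groth.Agent.ModStalk

/-- Localizations of a base change, in a commutative square of rings. -/
theorem isLocalizedModule_liftBaseChange {A B R S : Type u} [CommRing A] [CommRing B] [CommRing R] [CommRing S]
    [Algebra A B] [Algebra A R] [Algebra B S] [Algebra R S] [Algebra A S] [IsScalarTower A B S]
    [IsScalarTower A R S] (P : Submonoid B) [IsLocalization P S] {MA MR NS : Type u} [AddCommGroup MA]
    [AddCommGroup MR] [AddCommGroup NS] [Module A MA] [Module A MR] [Module R MR] [IsScalarTower A R MR]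
    [Module A NS] [Module B NS] [Module R NS] [Module S NS] [IsScalarTower A R NS] [IsScalarTower A S NS]
    [IsScalarTower A B NS] [IsScalarTower B S NS] [IsScalarTower R S NS]
    (l : MA →ₗ[A] MR) (hl : IsBaseChange R l) (e : MR →ₗ[R] NS) (he : IsBaseChange S e) :
    IsLocalizedModule P (((e.restrictScalars A).comp l).liftBaseChange B) := by
  have h := hl.comp he
  have hb : IsBaseChange B (TensorProduct.mk A B MA 1) := TensorProduct.isBaseChange A MA B
  rw [isLocalizedModule_iff_isBaseChange P S]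
  refine IsBaseChange.of_comp hb ?_
  convert h using 1
  ext m
  simp

/-- A linear map inducing a bijection at every maximal ideal. -/
theorem bijective_of_localizations {B : Type u} [CommRing B] {M N : Type u} [AddCommGroup M] [AddCommGroup N]
    [Module B M] [Module B N] (F : M →ₗ[B] N)
    (L : ∀ (P : Ideal B) [P.IsMaximal], ∃ (Q : Type u) (_ : AddCommGroup Q) (_ : Module B Q) (g : N →ₗ[B] Q),
      IsLocalizedModule P.primeCompl g ∧ IsLocalizedModule P.primeCompl (g ∘ₗ F)) :
    Function.Bijective F := by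
  choose Q i₁ i₂ g hg hgF using L
  let Q' (P : Ideal B) [hP : P.IsMaximal] : Type u := @Q P hP
  let g' (P : Ideal B) [hP : P.IsMaximal] : N →ₗ[B] Q' P := @g P hP
  letI (P : Ideal B) [hP : P.IsMaximal] : AddCommGroup (Q' P) := @i₁ P hP
  letI (P : Ideal B) [hP : P.IsMaximal] : Module B (Q' P) := @i₂ P hP
  haveI (P : Ideal B) [hP : P.IsMaximal] : IsLocalizedModule.AtPrime P (g' P) := @hg P hP
  haveI (P : Ideal B) [hP : P.IsMaximal] : IsLocalizedModule.AtPrime P (g' P ∘ₗ F) := @hgF P hP
  refine bijective_of_isLocalized_maximal Q' (fun P _ => g' P ∘ₗ F) Q' g' F fun P _ => ?_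
  have h : IsLocalizedModule.map P.primeCompl (g' P ∘ₗ F) (g' P) F = LinearMap.id := by
    apply IsLocalizedModule.linearMap_ext P.primeCompl (g' P ∘ₗ F) (g' P)
    rw [IsLocalizedModule.map_comp, LinearMap.id_comp]
  rw [h]
  exact Function.bijective_id

variable {X Y : Scheme.{u}} (f : X ⟶ Y) (M : Y.Modules)

/-- The pullback of a section. -/
noncomputable def pullSec {U : Y.Opens} {V : X.Opens} (h : V ≤ f ⁻¹ᵁ U) :
    Γ(M, U) →+ Γ((Scheme.Modules.pullback f).obj M, V) :=
  (((Scheme.Modules.pullback f).obj M).presheaf.map (homOfLE h).op).hom.comp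
    ((((Scheme.Modules.pullbackPushforwardAdjunction f).unit.app M).app U).hom :
      Γ(M, U) →+ Γ((Scheme.Modules.pullback f).obj M, f ⁻¹ᵁ U))

theorem germ_pullSec {U : Y.Opens} {V : X.Opens} (h : V ≤ f ⁻¹ᵁ U) (x : X) (hx : x ∈ V) (m : Γ(M, U)) :
    ((Scheme.Modules.pullback f).obj M).presheaf.germ V x hx (pullSec f M h m) =
      pullGerm f M x (M.presheaf.germ U (f x) (h hx) m) := by
  rw [pullGerm_germ]
  exact TopCat.Presheaf.germ_res_apply _ (homOfLE h) x hx _

theorem pullSec_smul {U : Y.Opens} {V : X.Opens} (h : V ≤ f ⁻¹ᵁ U) (a : Γ(Y, U)) (m : Γ(M, U)) :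
    pullSec f M h (a • m) = f.appLE U V h a • pullSec f M h m := by
  refine eq_of_germ_eq _ _ _ fun x hx => ?_
  rw [germ_pullSec, germ_smul, germ_smul, germ_pullSec, pullGerm_smul, Scheme.Hom.germ_stalkMap_apply]
  congr 1
  exact (TopCat.Presheaf.germ_res_apply _ (homOfLE h) x hx _).symm

/-- Sections of the pullback over an affine open mapping into an affine open are a base change. -/
theorem exists_sectionsEquiv [M.IsQuasicoherent] {U : Y.Opens} (hU : IsAffineOpen U) {V : X.Opens}
    (hV : IsAffineOpen V) (h : V ≤ f ⁻¹ᵁ U) :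
    letI := (f.appLE U V h).hom.toAlgebra
    ∃ e : Γ(X, V) ⊗[Γ(Y, U)] Γ(M, U) ≃ₗ[Γ(X, V)] Γ((Scheme.Modules.pullback f).obj M, V),
      ∀ m, e (1 ⊗ₜ m) = pullSec f M h m := by
  let N := (Scheme.Modules.pullback f).obj M
  have : N.IsQuasicoherent := isQuasicoherent_pullback f M
  letI := (f.appLE U V h).hom.toAlgebra
  letI : Module Γ(Y, U) Γ(N, V) := Module.compHom _ (f.appLE U V h).hom
  haveI : IsScalarTower Γ(Y, U) Γ(X, V) Γ(N, V) := IsScalarTower.of_algebraMap_smul fun _ _ => rfl
  let p : Γ(M, U) →ₗ[Γ(Y, U)] Γ(N, V) :=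
    { toFun := pullSec f M h, map_add' := map_add _, map_smul' := pullSec_smul f M h }
  have hbij : Function.Bijective (p.liftBaseChange Γ(X, V)) := by
    apply bijective_of_localizations
    intro P _
    obtain ⟨x, rfl⟩ := exists_point hV P
    letI : Module Γ(Y, U) (M.presheaf.stalk (f x.1)) := sectionModule M ⟨f x.1, h x.2⟩
    letI : Algebra Γ(Y, U) (Y.presheaf.stalk (f x.1)) := (Y.presheaf.germ U (f x.1) (h x.2)).hom.toAlgebra
    haveI : IsScalarTower Γ(Y, U) (Y.presheaf.stalk (f x.1)) (M.presheaf.stalk (f x.1)) :=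
      sectionTower M (⟨f x.1, h x.2⟩ : U)
    haveI : IsLocalization.AtPrime (Y.presheaf.stalk (f x.1)) (hU.primeIdealOf ⟨f x.1, h x.2⟩).asIdeal :=
      hU.isLocalization_stalk ⟨f x.1, h x.2⟩
    have hl : IsBaseChange (Y.presheaf.stalk (f x.1)) (germₗ M (⟨f x.1, h x.2⟩ : U)) :=
      (isLocalizedModule_iff_isBaseChange (hU.primeIdealOf ⟨f x.1, h x.2⟩).asIdeal.primeCompl
        (Y.presheaf.stalk (f x.1)) _).mp (isLocalizedModule_germ hU M ⟨f x.1, h x.2⟩)
    letI : Module Γ(X, V) (N.presheaf.stalk x.1) := sectionModule N x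
    letI : Algebra Γ(X, V) (X.presheaf.stalk x.1) := TopCat.Presheaf.algebra_section_stalk X.presheaf x
    haveI : IsScalarTower Γ(X, V) (X.presheaf.stalk x.1) (N.presheaf.stalk x.1) := sectionTower N x
    haveI : IsLocalization.AtPrime (X.presheaf.stalk x.1) (hV.primeIdealOf x).asIdeal :=
      hV.isLocalization_stalk x
    letI : Algebra (Y.presheaf.stalk (f x.1)) (X.presheaf.stalk x.1) := (f.stalkMap x.1).hom.toAlgebra
    letI : Algebra Γ(Y, U) (X.presheaf.stalk x.1) :=
      ((algebraMap Γ(X, V) (X.presheaf.stalk x.1)).comp (algebraMap Γ(Y, U) Γ(X, V))).toAlgebra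
    haveI : IsScalarTower Γ(Y, U) Γ(X, V) (X.presheaf.stalk x.1) := IsScalarTower.of_algebraMap_eq fun _ => rfl
    haveI : IsScalarTower Γ(Y, U) (Y.presheaf.stalk (f x.1)) (X.presheaf.stalk x.1) :=
      IsScalarTower.of_algebraMap_eq fun a => by
        show X.presheaf.germ V x.1 x.2 (f.appLE U V h a) = f.stalkMap x.1 (Y.presheaf.germ U (f x.1) (h x.2) a)
        rw [Scheme.Hom.germ_stalkMap_apply]
        exact TopCat.Presheaf.germ_res_apply _ (homOfLE h) x.1 x.2 _
    letI : Module (Y.presheaf.stalk (f x.1)) (N.presheaf.stalk x.1) := Module.compHom _ (f.stalkMap x.1).hom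
    haveI : IsScalarTower (Y.presheaf.stalk (f x.1)) (X.presheaf.stalk x.1) (N.presheaf.stalk x.1) :=
      IsScalarTower.of_algebraMap_smul fun _ _ => rfl
    letI : Module Γ(Y, U) (N.presheaf.stalk x.1) := Module.compHom _ (algebraMap Γ(Y, U) Γ(X, V))
    haveI : IsScalarTower Γ(Y, U) Γ(X, V) (N.presheaf.stalk x.1) :=
      IsScalarTower.of_algebraMap_smul fun _ _ => rfl
    haveI : IsScalarTower Γ(Y, U) (X.presheaf.stalk x.1) (N.presheaf.stalk x.1) :=
      IsScalarTower.of_algebraMap_smul fun _ _ => rfl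
    haveI : IsScalarTower Γ(Y, U) (Y.presheaf.stalk (f x.1)) (N.presheaf.stalk x.1) :=
      IsScalarTower.of_algebraMap_smul fun a n => by
        rw [← IsScalarTower.algebraMap_smul (X.presheaf.stalk x.1) (algebraMap Γ(Y, U) (Y.presheaf.stalk (f x.1)) a) n,
          ← IsScalarTower.algebraMap_apply, IsScalarTower.algebraMap_smul]
    let e : M.presheaf.stalk (f x.1) →ₗ[Y.presheaf.stalk (f x.1)] N.presheaf.stalk x.1 :=
      { toFun := pullGerm f M x.1, map_add' := map_add _, map_smul' := pullGerm_smul f M x.1 }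
    obtain ⟨E, hE⟩ := exists_pullStalk_equiv f M x.1
    have he : IsBaseChange (X.presheaf.stalk x.1) e :=
      IsBaseChange.of_equiv E.symm fun v => E.injective ((E.apply_symm_apply _).trans (hE v).symm)
    refine ⟨N.presheaf.stalk x.1, inferInstance, inferInstance, germₗ N x, isLocalizedModule_germ hV N x, ?_⟩
    have key := isLocalizedModule_liftBaseChange (hV.primeIdealOf x).asIdeal.primeCompl (germₗ M (⟨f x.1, h x.2⟩ : U)) hl e he
      (B := Γ(X, V))
    convert key using 1
    · rfl
    refine LinearMap.ext fun t => ?_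
    induction t using TensorProduct.induction_on with
    | zero => simp only [map_zero]
    | add t t' ht ht' => simp only [map_add, ht, ht']
    | tmul b m =>
    rw [LinearMap.comp_apply, LinearMap.liftBaseChange_tmul, LinearMap.liftBaseChange_tmul, map_smul]
    exact congrArg (fun v : N.presheaf.stalk x.1 => b • v) (germ_pullSec f M h x.1 x.2 m)
  refine ⟨LinearEquiv.ofBijective _ hbij, fun m => ?_⟩
  show p.liftBaseChange Γ(X, V) (1 ⊗ₜ m) = _
  rw [LinearMap.liftBaseChange_tmul, one_smul]
  rfl

end Groth.Agent.ModStalk
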