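import Groth.Agent.ModStalk.IsoCriterion
import Groth.Agent.ModStalk.IdealMod
import Groth.Agent.ModStalk.PullbackSections
import Groth.Agent.ModStalk.Lift
import Groth.Agent.ModStalk.AssPoint

/-! Exactness of sequences of quasi-coherent modules, tested on sections over an affine cover. -/

set_option autoImplicit false
universe u

open CategoryTheory CategoryTheory.Limits AlgebraicGeometry Opposite TopologicalSpace

namespace Groth.Agent.ModStalk

variable {X : Scheme.{u}}

theorem epi_of_app_surjective {F G : X.Modules} [G.IsQuasicoherent] (u : F ⟶ G)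
    (h : ∀ x : X, ∃ U : X.Opens, IsAffineOpen U ∧ x ∈ U ∧ Function.Surjective (u.app U)) : Epi u := by
  refine epi_of_stalkMap_surjective u fun x n => ?_
  obtain ⟨U, hU, hx, hsurj⟩ := h x
  obtain ⟨c, t, hc, ht⟩ := exists_smul_eq_germ G hU x hx n
  obtain ⟨s, rfl⟩ := hsurj t
  obtain ⟨v, hv⟩ := ((Scheme.mem_basicOpen X c x hx).mp hc)
  refine ⟨(↑v⁻¹ : X.presheaf.stalk x) • F.presheaf.germ U x hx s, ?_⟩
  rw [map_smul, RefHull.stalkMapₗ_germ, ← ht, smul_smul, ← hv, Units.inv_mul, one_smul]

/-- A short complex of quasi-coherent modules is exact when it is so on the sections over an affine cover. -/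
theorem exact_of_app (S : ShortComplex X.Modules) [S.X₁.IsQuasicoherent] [S.X₂.IsQuasicoherent]
    [S.X₃.IsQuasicoherent]
    (h : ∀ x : X, ∃ U : X.Opens, IsAffineOpen U ∧ x ∈ U ∧ ∀ a, S.g.app U a = 0 → ∃ b, S.f.app U b = a) :
    S.Exact := by
  rw [ShortComplex.exact_iff_epi_kernel_lift]
  haveI : (kernel S.g).IsQuasicoherent := isQuasicoherent_kernel S.g
  refine epi_of_app_surjective _ fun x => ?_
  obtain ⟨U, hU, hx, hex⟩ := h x
  refine ⟨U, hU, hx, fun k => ?_⟩
  have h0 : S.g.app U ((kernel.ι S.g).app U k) = 0 :=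
    congrArg (fun φ => Scheme.Modules.Hom.app φ U k) (kernel.condition S.g)
  obtain ⟨b, hb⟩ := hex _ h0
  refine ⟨b, injective_app_of_mono _ (kernel.ι S.g) U ?_⟩
  show (kernel.lift S.g S.f S.zero ≫ kernel.ι S.g).app U b = _
  rw [kernel.lift_ι]
  exact hb

/-- Maps out of quasi-coherent modules are determined by the sections over an affine cover. -/
theorem eq_zero_of_app {F G : X.Modules} [F.IsQuasicoherent] [G.IsQuasicoherent] (u : F ⟶ G)
    (h : ∀ x : X, ∃ U : X.Opens, IsAffineOpen U ∧ x ∈ U ∧ ∀ a, u.app U a = 0) : u = 0 := by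
  haveI : (kernel u).IsQuasicoherent := isQuasicoherent_kernel u
  have : Epi (kernel.ι u) := by
    refine epi_of_app_surjective _ fun x => ?_
    obtain ⟨U, hU, hx, h0⟩ := h x
    refine ⟨U, hU, hx, fun a => ?_⟩
    let F' := Scheme.Modules.toPresheaf X ⋙ (evaluation _ _).obj (op U)
    have : F'.PreservesZeroMorphisms := ⟨fun _ _ => rfl⟩
    have : PreservesLimitsOfSize.{0, 0} (Scheme.Modules.toPresheaf X) := preservesLimitsOfSize_shrink _
    have h2e : PreservesLimitsOfShape WalkingParallelPair ((evaluation (Opens X)ᵒᵖ Ab.{u}).obj (op U)) :=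
      inferInstance
    have : PreservesLimit (parallelPair u 0) F' :=
      @comp_preservesLimit _ _ _ _ _ _ _ _ _ (Scheme.Modules.toPresheaf X) ((evaluation _ _).obj (op U)) _
        h2e.preservesLimit
    let S : ShortComplex X.Modules := ShortComplex.mk _ _ (kernel.condition u)
    haveI : Mono S.f := inferInstanceAs (Mono (kernel.ι u))
    have hS : S.Exact := S.exact_of_f_is_kernel (kernelIsKernel u)
    exact (ShortComplex.ab_exact_iff _).mp (hS.map_of_mono_of_preservesKernel F' inferInstance inferInstance) a (h0 a)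
  exact (cancel_epi (kernel.ι u)).mp (by rw [kernel.condition, comp_zero])

theorem app_pullbackId_hom (M : X.Modules) {U : X.Opens} (m : Γ(M, U)) :
    ((Scheme.Modules.pullbackId X).hom.app M).app U (pullSec (𝟙 X) M (le_refl U) m) = m := by
  let adj := Scheme.Modules.pullbackPushforwardAdjunction (𝟙 X)
  have h := unit_conjugateEquiv Adjunction.id adj (Scheme.Modules.pullbackId X).hom M
  rw [Scheme.Modules.conjugateEquiv_pullbackId_hom] at h
  have h2 := ConcreteCategory.congr_hom (congrArg (fun φ => Scheme.Modules.Hom.app φ U) h) m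
  refine Eq.trans ?_ h2.symm
  refine congrArg (((Scheme.Modules.pullbackId X).hom.app M).app U) ?_
  show ((Scheme.Modules.pullback (𝟙 X)).obj M).presheaf.map (homOfLE (le_refl U)).op _ = _
  erw [show (homOfLE (le_refl U)).op = 𝟙 (op U) from rfl, CategoryTheory.Functor.map_id]
  rfl

theorem app_pullbackId_inv (M : X.Modules) {U : X.Opens} (m : Γ(M, U)) :
    ((Scheme.Modules.pullbackId X).inv.app M).app U m = pullSec (𝟙 X) M (le_refl U) m := by
  conv_lhs => rw [← app_pullbackId_hom M m]
  exact congrArg (fun φ => Scheme.Modules.Hom.app φ U (pullSec (𝟙 X) M (le_refl U) m))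
    ((Scheme.Modules.pullbackId X).hom_inv_id_app M)

end Groth.Agent.ModStalk
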