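import Groth.Agent.ModStalk.Restrict

/-! A morphism of quasi-coherent modules that is bijective on an affine cover is an isomorphism. -/

set_option autoImplicit false
universe u

open CategoryTheory CategoryTheory.Limits AlgebraicGeometry

namespace Groth.Agent.ModStalk

variable {X : Scheme.{u}}

theorem isIso_of_app_bijective {F G : X.Modules} [F.IsQuasicoherent] [G.IsQuasicoherent] (u : F ⟶ G)
    (h : ∀ x : X, ∃ U : X.Opens, IsAffineOpen U ∧ x ∈ U ∧ Function.Bijective (u.app U)) : IsIso u := by
  have hb : ∀ x, Function.Bijective (RefHull.stalkMapₗ u x) := by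
    intro x
    obtain ⟨U, hU, hx, hinj, hsurj⟩ := h x
    refine ⟨(injective_iff_map_eq_zero _).mpr fun m hm => ?_, fun n => ?_⟩
    · obtain ⟨c, s, hc, hs⟩ := exists_smul_eq_germ F hU x hx m
      have h1 : G.presheaf.germ U x hx (u.app U s) = 0 := by
        rw [← RefHull.stalkMapₗ_germ u, ← hs, map_smul, hm, smul_zero]
      obtain ⟨d, hd, hds⟩ := exists_smul_eq_zero_of_germ G hU x hx _ h1
      have h2 : d • s = 0 := hinj (by rw [u.app_smul, hds, map_zero])
      have h3 : F.presheaf.germ U x hx s = 0 := by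
        have h4 := congrArg (F.presheaf.germ U x hx) h2
        rw [germ_smul, map_zero] at h4
        exact ((Scheme.mem_basicOpen X d x hx).mp hd).smul_eq_zero.mp h4
      rw [h3] at hs
      exact ((Scheme.mem_basicOpen X c x hx).mp hc).smul_eq_zero.mp hs
    · obtain ⟨c, t, hc, ht⟩ := exists_smul_eq_germ G hU x hx n
      obtain ⟨s, rfl⟩ := hsurj t
      obtain ⟨v, hv⟩ := ((Scheme.mem_basicOpen X c x hx).mp hc)
      refine ⟨(↑v⁻¹ : X.presheaf.stalk x) • F.presheaf.germ U x hx s, ?_⟩
      rw [map_smul, RefHull.stalkMapₗ_germ, ← ht, smul_smul, ← hv, Units.inv_mul, one_smul]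
  have : Mono u := mono_of_stalkMap_injective u fun x => (hb x).1
  have : Epi u := epi_of_stalkMap_surjective u fun x => (hb x).2
  exact isIso_of_mono_of_epi u

end Groth.Agent.ModStalk
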