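import Mathlib.RingTheory.IsTensorProduct
import Mathlib.RingTheory.Ideal.Maps

/-! The kernel of a retraction of algebras commutes with base change. -/

set_option autoImplicit false
universe u

open scoped TensorProduct

namespace Groth.Agent.ModStalk

theorem split_ideal_baseChange {A A' B B' K : Type u} [CommRing A] [CommRing A'] [CommRing B] [CommRing B']
    [Algebra A A'] [Algebra A B] [Algebra A' B'] [Algebra B B'] [Algebra A B'] [IsScalarTower A A' B']
    [IsScalarTower A B B'] [h : Algebra.IsPushout A A' B B'] [AddCommGroup K] [Module B K]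
    (r : B →+* A) (hr : ∀ a, r (algebraMap A B a) = a) (r' : B' →+* A') (hr' : ∀ a, r' (algebraMap A' B' a) = a)
    (hrr : ∀ b, r' (algebraMap B B' b) = algebraMap A A' (r b))
    (ι : K →ₗ[B] B) (hι : Function.Injective ι) (hK : ∀ b, r b = 0 ↔ ∃ k, ι k = b)
    (Φ : B' ⊗[B] K →ₗ[B'] B') (hΦ : ∀ k, Φ (1 ⊗ₜ k) = algebraMap B B' (ι k)) :
    Function.Injective Φ ∧ ∀ x, r' x = 0 ↔ ∃ t, Φ t = x := by
  letI : Module A K := Module.compHom K (algebraMap A B)
  haveI : IsScalarTower A B K := IsScalarTower.of_algebraMap_smul fun a k => rfl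
  let ψ : A' ⊗[A] B ≃ₗ[A'] B' := h.out.equiv
  have hψ : ∀ a b, ψ (a ⊗ₜ b) = algebraMap A' B' a * algebraMap B B' b := fun a b => by
    rw [show ψ (a ⊗ₜ b) = a • algebraMap B B' b from h.out.equiv_tmul a b, Algebra.smul_def]
  let j : K →ₗ[A] B := ι.restrictScalars A
  have hr0 : ∀ k, r (ι k) = 0 := fun k => (hK _).mpr ⟨k, rfl⟩
  have hex : ∀ b, ∃ k, ι k = b - algebraMap A B (r b) := fun b => (hK _).mp (by rw [map_sub, hr, sub_self])
  choose π hπ using hex
  let πl : B →ₗ[A] K :=
    { toFun := π
      map_add' := fun x y => hι (by rw [map_add ι, hπ, hπ, hπ, map_add, map_add]; ring)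
      map_smul' := fun a x => hι (by
        show ι (π (a • x)) = ι (algebraMap A B a • π x)
        rw [map_smul, hπ, hπ, Algebra.smul_def, map_mul, hr, map_mul, smul_eq_mul]
        ring) }
  have hπj : πl.comp j = LinearMap.id := LinearMap.ext fun k => hι (by
    show ι (π (ι k)) = ι k
    rw [hπ, hr0, map_zero, sub_zero])
  let θ : A' ⊗[A] K →+ B' ⊗[B] K :=
    TensorProduct.liftAddHom
      { toFun := fun a => ((TensorProduct.mk B B' K) (algebraMap A' B' a)).toAddMonoidHom
        map_zero' := by ext; simp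
        map_add' := fun a b => by ext; simp [TensorProduct.add_tmul] }
      (fun c a k => by
        show algebraMap A' B' (c • a) ⊗ₜ[B] k = algebraMap A' B' a ⊗ₜ[B] (algebraMap A B c • k)
        rw [← TensorProduct.smul_tmul, Algebra.smul_def, Algebra.smul_def, map_mul, ← IsScalarTower.algebraMap_apply,
          ← IsScalarTower.algebraMap_apply])
  have hθ : ∀ a k, θ (a ⊗ₜ k) = algebraMap A' B' a ⊗ₜ[B] k := fun a k => rfl
  have hΦ' : ∀ a k, Φ (algebraMap A' B' a ⊗ₜ k) = ψ (a ⊗ₜ ι k) := fun a k => by
    rw [hψ, ← hΦ, ← smul_eq_mul, ← map_smul, TensorProduct.smul_tmul', smul_eq_mul, mul_one]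
  have hcomp : ∀ t, Φ (θ t) = ψ (j.baseChange A' t) := by
    intro t
    induction t using TensorProduct.induction_on with
    | zero => simp
    | add a b ha hb => rw [map_add, map_add, map_add, map_add, ha, hb]
    | tmul a k => rw [hθ, hΦ', LinearMap.baseChange_tmul]; rfl
  have hsurj : ∀ s, ∃ t, θ t = s := by
    intro s
    induction s using TensorProduct.induction_on with
    | zero => exact ⟨0, map_zero θ⟩
    | add a b ha hb =>
      obtain ⟨x, rfl⟩ := ha
      obtain ⟨y, rfl⟩ := hb
      exact ⟨x + y, map_add θ x y⟩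
    | tmul b' k =>
      obtain ⟨w, rfl⟩ := ψ.surjective b'
      induction w using TensorProduct.induction_on with
      | zero => exact ⟨0, by rw [map_zero, map_zero, TensorProduct.zero_tmul]⟩
      | add a b ha hb =>
        obtain ⟨x, hx⟩ := ha
        obtain ⟨y, hy⟩ := hb
        exact ⟨x + y, by rw [map_add, map_add, hx, hy, TensorProduct.add_tmul]⟩
      | tmul a b =>
        refine ⟨a ⊗ₜ (b • k), ?_⟩
        rw [hθ, hψ, ← TensorProduct.smul_tmul, Algebra.smul_def, mul_comm]
  refine ⟨fun s s' hs => ?_, fun x => ⟨fun hx => ?_, ?_⟩⟩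
  · obtain ⟨t, rfl⟩ := hsurj s
    obtain ⟨t', rfl⟩ := hsurj s'
    rw [hcomp, hcomp] at hs
    have h1 : ∀ u, πl.baseChange A' (j.baseChange A' u) = u := fun u => by
      rw [← LinearMap.comp_apply, ← LinearMap.baseChange_comp, hπj, LinearMap.baseChange_id]
      rfl
    rw [← h1 t, ψ.injective hs, h1]
  · obtain ⟨w, rfl⟩ := ψ.surjective x
    refine ⟨θ (πl.baseChange A' w), ?_⟩
    rw [hcomp]
    have hw : ψ w = ψ (j.baseChange A' (πl.baseChange A' w)) + algebraMap A' B' (r' (ψ w)) := by
      clear hx
      induction w using TensorProduct.induction_on with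
      | zero => simp
      | add a b ha hb =>
        simp only [map_add]
        conv_lhs => rw [ha, hb]
        ring
      | tmul a b =>
        rw [LinearMap.baseChange_tmul, LinearMap.baseChange_tmul]
        show _ = ψ (a ⊗ₜ ι (π b)) + _
        rw [hψ, hψ, map_mul, hr', hrr, hπ, map_mul, map_sub, ← IsScalarTower.algebraMap_apply A A' B',
          ← IsScalarTower.algebraMap_apply A B B']
        ring
    rw [hx, map_zero, add_zero] at hw
    exact hw.symm
  · rintro ⟨t, rfl⟩
    obtain ⟨u, rfl⟩ := hsurj t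
    rw [hcomp]
    induction u using TensorProduct.induction_on with
    | zero => simp
    | add a b ha hb => rw [map_add, map_add, map_add, ha, hb, add_zero]
    | tmul a k =>
      rw [LinearMap.baseChange_tmul, hψ, map_mul, hrr]
      show _ * algebraMap A A' (r (ι k)) = 0
      rw [hr0, map_zero, mul_zero]

end Groth.Agent.ModStalk
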