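import Groth.Agent.ModStalk.PullbackSections
import Groth.Agent.ModStalk.IdealMod
import Groth.Agent.ModStalk.IsoCriterion
import Groth.Agent.ModStalk.SplitIdeal
import Groth.Prelude.Def_Omega4
import Mathlib.AlgebraicGeometry.Morphisms.Flat

/-! The conormal sheaf of a section commutes with every base change. -/

set_option autoImplicit false
set_option linter.style.haveILetI false
universe u

open CategoryTheory CategoryTheory.Limits AlgebraicGeometry Opposite TopologicalSpace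
open scoped TensorProduct

namespace Groth.Agent.ModStalk

theorem exists_idealLift {P X : Scheme.{u}} (i : X ⟶ P) [QuasiCompact i] {W : P.Opens} (x : Γ(P, W))
    (hx : i.app W x = 0) :
    ∃ k : Γ(ClSub.idealMod i.ker, W), (ClSub.idealModι i.ker).app W k = OmegaSh.strSect P W x := by
  have h0 : i.ker.subschemeι.app W x = 0 := by
    let ι := i.ker.subschemeι
    refine i.ker.subscheme.sheaf.eq_of_locally_eq'
      (fun V : {V : P.affineOpens // (V : P.Opens) ≤ W} => ι ⁻¹ᵁ (V.1 : P.Opens))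
      (ι ⁻¹ᵁ W) (fun V => (Opens.map ι.base).map (homOfLE V.2)) ?_ _ _ ?_
    · intro z hz
      obtain ⟨_, ⟨V, hV, rfl⟩, hzV, hVW⟩ := P.isBasis_affineOpens.exists_subset_of_mem_open hz W.isOpen
      exact Opens.mem_iSup.mpr ⟨⟨⟨V, hV⟩, hVW⟩, hzV⟩
    · intro V
      change i.ker.subscheme.presheaf.map ((Opens.map ι.base).map (homOfLE V.2)).op (ι.app W x) =
        i.ker.subscheme.presheaf.map ((Opens.map ι.base).map (homOfLE V.2)).op 0
      rw [map_zero, ← ConcreteCategory.comp_apply]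
      erw [← Scheme.Hom.naturality ι (homOfLE V.2).op]
      rw [ConcreteCategory.comp_apply]
      have hmem : P.presheaf.map (homOfLE V.2).op x ∈ i.ker.ideal V.1 := by
        rw [Scheme.Hom.ker_apply, RingHom.mem_ker]
        show (P.presheaf.map (homOfLE V.2).op ≫ i.app V.1) x = 0
        rw [Scheme.Hom.naturality, ConcreteCategory.comp_apply, hx, map_zero]
      rw [← Scheme.IdealSheafData.ker_subschemeι_app, RingHom.mem_ker] at hmem
      exact hmem
  exact ⟨OmegaSh.kerLift (ClSub.toSubscheme i.ker) W (OmegaSh.strSect P W x)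
    (by rw [OmegaSh.toSubscheme_app_strSect]; exact h0), OmegaSh.ι_kerLift _ _ _ _⟩

theorem app_idealSect_eq_zero {P X : Scheme.{u}} (i : X ⟶ P) (W : P.Opens) (k : Γ(ClSub.idealMod i.ker, W)) :
    i.app W (OmegaSh.idealSect i.ker W k) = 0 := by
  have h0 : i.ker.subschemeι.app W (OmegaSh.idealSect i.ker W k) = 0 :=
    congrArg (fun φ => Scheme.Modules.Hom.app φ W k) (kernel.condition (ClSub.toSubscheme i.ker))
  have h1 : i = i.toImage ≫ i.ker.subschemeι := i.toImage_imageι.symm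
  rw [Scheme.Hom.congr_app h1 W, Scheme.Hom.comp_app]
  erw [ConcreteCategory.comp_apply, ConcreteCategory.comp_apply, h0, map_zero, map_zero]

variable {Z Z' S S' : Scheme.{u}} (e : S ⟶ Z) (e' : S' ⟶ Z') (g : S' ⟶ S) (q : Z' ⟶ Z)

theorem app_pullback_idealSect (heq : e' ≫ q = g ≫ e) (W : Z.Opens) (k : Γ(ClSub.idealMod e.ker, W)) :
    e'.app (q ⁻¹ᵁ W) (q.app W (OmegaSh.idealSect e.ker W k)) = 0 := by
  rw [← ConcreteCategory.comp_apply, ← Scheme.Hom.comp_app, Scheme.Hom.congr_app heq W, Scheme.Hom.comp_app]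
  erw [ConcreteCategory.comp_apply, ConcreteCategory.comp_apply, app_idealSect_eq_zero, map_zero, map_zero]

/-- The map of ideal modules over a compatible morphism, into the direct image. -/
theorem exists_idealMap [QuasiCompact e'] (heq : e' ≫ q = g ≫ e) :
    ∃ γ : ClSub.idealMod e.ker ⟶ (Scheme.Modules.pushforward q).obj (ClSub.idealMod e'.ker),
      ∀ (W : Z.Opens) (k : Γ(ClSub.idealMod e.ker, W)),
        OmegaSh.idealSect e'.ker (q ⁻¹ᵁ W) (γ.app W k) = q.app W (OmegaSh.idealSect e.ker W k) := by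
  choose L hL using fun (W : Z.Opens) (k : Γ(ClSub.idealMod e.ker, W)) =>
    exists_idealLift e' (q.app W (OmegaSh.idealSect e.ker W k)) (app_pullback_idealSect e e' g q heq W k)
  have hinj : ∀ (W : Z'.Opens), Function.Injective (OmegaSh.idealSect e'.ker W) :=
    fun W => OmegaSh.idealModι_app_injective W e'.ker
  have hL' : ∀ W k, OmegaSh.idealSect e'.ker (q ⁻¹ᵁ W) (L W k) = q.app W (OmegaSh.idealSect e.ker W k) :=
    fun W k => hL W k
  let φ : (ClSub.idealMod e.ker).presheaf ⟶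
      ((Scheme.Modules.pushforward q).obj (ClSub.idealMod e'.ker)).presheaf :=
    { app := fun W => AddCommGrpCat.ofHom (AddMonoidHom.mk' (fun k => L W.unop k) fun (a b : Γ(ClSub.idealMod e.ker, W.unop)) => hinj _ (by
        erw [map_add (OmegaSh.idealSect e'.ker _), hL', hL', hL', map_add, map_add]))
      naturality := fun W W' i => by
        ext k
        refine hinj (q ⁻¹ᵁ W'.unop) ?_
        show OmegaSh.idealSect e'.ker (q ⁻¹ᵁ W'.unop) (L W'.unop ((ClSub.idealMod e.ker).presheaf.map (homOfLE i.unop.le).op k)) =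
          OmegaSh.idealSect e'.ker (q ⁻¹ᵁ W'.unop)
            ((ClSub.idealMod e'.ker).presheaf.map (homOfLE (q.preimage_mono i.unop.le)).op (L W.unop k))
        rw [hL']
        show q.app W'.unop ((ClSub.idealModι e.ker).app W'.unop _) = (ClSub.idealModι e'.ker).app _ _
        rw [OmegaSh.idealModι_app_map, OmegaSh.idealModι_app_map, hL]
        exact (ConcreteCategory.congr_hom (q.naturality (homOfLE i.unop.le).op) _) }
  refine ⟨⟨PresheafOfModules.homMk φ fun W r k => hinj (q ⁻¹ᵁ W.unop) ?_⟩, hL'⟩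
  show OmegaSh.idealSect e'.ker (q ⁻¹ᵁ W.unop) (L W.unop (show Γ(ClSub.idealMod e.ker, W.unop) from r • k)) =
    OmegaSh.idealSect e'.ker (q ⁻¹ᵁ W.unop) (q.app W.unop (show Γ(Z, W.unop) from r) • L W.unop k)
  rw [hL']
  show q.app W.unop ((ClSub.idealModι e.ker).app W.unop _) = (ClSub.idealModι e'.ker).app (q ⁻¹ᵁ W.unop) _
  rw [Scheme.Modules.Hom.app_smul, hL]
  erw [Scheme.Modules.Hom.app_smul]
  exact map_mul (q.app W.unop).hom _ _

theorem pullSec_natural {M N : Z.Modules} (v : M ⟶ N) (f : Z' ⟶ Z) {U : Z.Opens} {V : Z'.Opens} (h : V ≤ f ⁻¹ᵁ U)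
    (m : Γ(M, U)) :
    ((Scheme.Modules.pullback f).map v).app V (pullSec f M h m) = pullSec f N h (v.app U m) := by
  refine (app_res ((Scheme.Modules.pullback f).map v) h _).trans ?_
  exact congrArg _ (ConcreteCategory.congr_hom
    (congrArg (fun φ => Scheme.Modules.Hom.app φ U)
      ((Scheme.Modules.pullbackPushforwardAdjunction f).unit.naturality v).symm) m)

theorem homEquiv_pullSec {M : Z.Modules} {N : Z'.Modules} (γ : M ⟶ (Scheme.Modules.pushforward q).obj N)
    {U : Z.Opens} {V : Z'.Opens} (h : V ≤ q ⁻¹ᵁ U) (m : Γ(M, U)) :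
    (((Scheme.Modules.pullbackPushforwardAdjunction q).homEquiv M N).symm γ).app V (pullSec q M h m) =
      N.presheaf.map (homOfLE h).op (show Γ(N, q ⁻¹ᵁ U) from γ.app U m) := by
  refine (app_res _ h _).trans (congrArg _ ?_)
  have h2 := ((Scheme.Modules.pullbackPushforwardAdjunction q).homEquiv M N).apply_symm_apply γ
  rw [Adjunction.homEquiv_unit] at h2
  exact ConcreteCategory.congr_hom (congrArg (fun φ => Scheme.Modules.Hom.app φ U) h2) m

/-- The conormal sheaf of a section commutes with base change. -/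
theorem nonempty_conormal_iso_of_isPullback (p : Z ⟶ S) (p' : Z' ⟶ S') (he : e ≫ p = 𝟙 S)
    (hsq : IsPullback q p' p g) (he' : e' ≫ p' = 𝟙 S') (heq : e' ≫ q = g ≫ e) [QuasiCompact e]
    [QuasiCompact e'] :
    Nonempty ((Scheme.Modules.pullback g).obj (Omega.conormal e) ≅ Omega.conormal e') := by
  obtain ⟨γ, hγ⟩ := exists_idealMap e e' g q heq
  let I := ClSub.idealMod e.ker
  let I' := ClSub.idealMod e'.ker
  have : I.IsQuasicoherent := isQuasicoherent_idealMod _
  have : I'.IsQuasicoherent := isQuasicoherent_idealMod _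
  let M := (Scheme.Modules.pullback q).obj I
  have : M.IsQuasicoherent := isQuasicoherent_pullback q I
  let δ : M ⟶ I' := ((Scheme.Modules.pullbackPushforwardAdjunction q).homEquiv I I').symm γ
  let σ := (Scheme.Modules.pullback e').map δ
  have : ((Scheme.Modules.pullback e').obj M).IsQuasicoherent := isQuasicoherent_pullback e' M
  have : ((Scheme.Modules.pullback e').obj I').IsQuasicoherent := isQuasicoherent_pullback e' I'
  suffices hσ : IsIso σ from
    ⟨((Scheme.Modules.pullbackComp g e).app I ≪≫ (Scheme.Modules.pullbackCongr heq.symm).app I ≪≫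
      ((Scheme.Modules.pullbackComp e' q).app I).symm) ≪≫ @asIso _ _ _ _ σ hσ⟩
  refine isIso_of_app_bijective σ fun y => ?_
  obtain ⟨_, ⟨V₀, hV₀, rfl⟩, hyV, -⟩ := S.isBasis_affineOpens.exists_subset_of_mem_open (Set.mem_univ (g y)) isOpen_univ
  have hpe : ∀ s, p (e s) = s := fun s => by rw [← Scheme.Hom.comp_apply, he]; rfl
  obtain ⟨_, ⟨U₀, hU₀, rfl⟩, hyU, hU₀le⟩ := Z.isBasis_affineOpens.exists_subset_of_mem_open
    (show e (g y) ∈ p ⁻¹ᵁ V₀ by show p (e (g y)) ∈ V₀; rw [hpe]; exact hyV) (p ⁻¹ᵁ V₀).2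
  obtain ⟨c, hcle, hyc⟩ := hV₀.exists_basicOpen_le (V := V₀ ⊓ e ⁻¹ᵁ U₀) ⟨g y, hyV, hyU⟩ hyV
  let V := S.basicOpen c
  have hV : IsAffineOpen V := hV₀.basicOpen c
  let U := U₀ ⊓ p ⁻¹ᵁ V
  have hU : IsAffineOpen U := by
    have hh : U = Z.basicOpen (p.appLE V₀ U₀ hU₀le c) := by
      rw [Scheme.Hom.appLE, ConcreteCategory.comp_apply, Scheme.basicOpen_res, ← Scheme.preimage_basicOpen]
      first | rfl | skip
    rw [hh]
    exact hU₀.basicOpen _
  have hUV : U ≤ p ⁻¹ᵁ V := inf_le_right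
  have heU : e ⁻¹ᵁ U = V := le_antisymm (fun s hs => by
    have h2 : p (e s) ∈ V := hs.2
    rwa [hpe] at h2) (fun s hs => ⟨(hcle hs).2, by show p (e s) ∈ V; rw [hpe]; exact hs⟩)
  obtain ⟨_, ⟨V', hV', rfl⟩, hyV', hV'le⟩ :=
    S'.isBasis_affineOpens.exists_subset_of_mem_open (show y ∈ g ⁻¹ᵁ V from hyc) (g ⁻¹ᵁ V).2
  let U' := q ⁻¹ᵁ U ⊓ p' ⁻¹ᵁ V'
  have hU' : IsAffineOpen U' := by
    have : IsAffine _ := hV
    have : IsAffine _ := hU
    have : IsAffine _ := hV'
    exact .of_isIso (Scheme.Hom.isPullback_resLE hsq hV'le hUV (rfl : U' = _)).isoPullback.hom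
  have hU'q : U' ≤ q ⁻¹ᵁ U := inf_le_left
  have hU'p : U' ≤ p' ⁻¹ᵁ V' := inf_le_right
  have hpe' : ∀ s, p' (e' s) = s := fun s => by rw [← Scheme.Hom.comp_apply, he']; rfl
  have hqe' : ∀ s, q (e' s) = e (g s) := fun s => by rw [← Scheme.Hom.comp_apply, heq]; rfl
  have he'U : e' ⁻¹ᵁ U' = V' := le_antisymm (fun s hs => by
    have h2 : p' (e' s) ∈ V' := hs.2
    rwa [hpe'] at h2) (fun s hs => ⟨by
      show q (e' s) ∈ U
      rw [hqe']
      exact heU.ge (hV'le hs), by show p' (e' s) ∈ V'; rw [hpe']; exact hs⟩)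
  refine ⟨V', hV', hyV', ?_⟩
  letI := (p.appLE V U hUV).hom.toAlgebra
  letI := (g.appLE V V' hV'le).hom.toAlgebra
  letI := (q.appLE U U' hU'q).hom.toAlgebra
  letI := (p'.appLE V' U' hU'p).hom.toAlgebra
  letI : Algebra Γ(S, V) Γ(Z', U') := ((algebraMap Γ(S', V') Γ(Z', U')).comp (algebraMap Γ(S, V) Γ(S', V'))).toAlgebra
  haveI : IsScalarTower Γ(S, V) Γ(S', V') Γ(Z', U') := IsScalarTower.of_algebraMap_eq fun _ => rfl
  haveI : IsScalarTower Γ(S, V) Γ(Z, U) Γ(Z', U') := IsScalarTower.of_algebraMap_eq fun a => by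
    show (g.appLE V V' hV'le ≫ p'.appLE V' U' hU'p) a = (p.appLE V U hUV ≫ q.appLE U U' hU'q) a
    rw [Scheme.Hom.appLE_comp_appLE, Scheme.Hom.appLE_comp_appLE]
    exact congr($(OmegaSh.appLE_congr_hom hsq.w.symm _ _) a)
  haveI : Algebra.IsPushout Γ(S, V) Γ(S', V') Γ(Z, U) Γ(Z', U') :=
    (CommRingCat.isPushout_iff_isPushout.mp ((isIso_pushoutSection_iff hsq hV'le hUV rfl).mp
      (isIso_pushoutSection_of_isAffineOpen hsq hV'le hUV rfl hV hV' hU))).symm
  let r : Γ(Z, U) →+* Γ(S, V) := (e.appLE U V heU.ge).hom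
  let r' : Γ(Z', U') →+* Γ(S', V') := (e'.appLE U' V' he'U.ge).hom
  have hr : ∀ a, r (algebraMap Γ(S, V) Γ(Z, U) a) = a := fun a => by
    show (p.appLE V U hUV ≫ e.appLE U V heU.ge) a = a
    rw [Scheme.Hom.appLE_comp_appLE, OmegaSh.id_appLE_eq_id he]
    rfl
  have hr' : ∀ a, r' (algebraMap Γ(S', V') Γ(Z', U') a) = a := fun a => by
    show (p'.appLE V' U' hU'p ≫ e'.appLE U' V' he'U.ge) a = a
    rw [Scheme.Hom.appLE_comp_appLE, OmegaSh.id_appLE_eq_id he']
    rfl
  have hrr : ∀ b, r' (algebraMap Γ(Z, U) Γ(Z', U') b) = algebraMap Γ(S, V) Γ(S', V') (r b) := fun b => by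
    show (q.appLE U U' hU'q ≫ e'.appLE U' V' he'U.ge) b = (e.appLE U V heU.ge ≫ g.appLE V V' hV'le) b
    rw [Scheme.Hom.appLE_comp_appLE, Scheme.Hom.appLE_comp_appLE]
    exact congr($(OmegaSh.appLE_congr_hom heq _ _) b)
  have hker : ∀ {X P : Scheme.{u}} (i : X ⟶ P) [QuasiCompact i] {A : P.Opens} (hA : IsAffineOpen A) {B : X.Opens}
      (hB : i ⁻¹ᵁ A = B) (b : Γ(P, A)), i.appLE A B hB.ge b = 0 ↔
        ∃ k, (ClSub.idealModι i.ker).app A k = b := by
    intro X P i _ A hA B hB b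
    subst hB
    rw [← Scheme.Hom.app_eq_appLE, ← RingHom.mem_ker]
    show b ∈ RingHom.ker (i.app A).hom ↔ _
    rw [← Scheme.Hom.ker_apply i ⟨A, hA⟩]
    exact exists_idealMod_app i.ker ⟨A, hA⟩ b
  let ι : Γ(I, U) →ₗ[Γ(Z, U)] Γ(Z, U) :=
    { toFun := fun t => (ClSub.idealModι e.ker).app U t
      map_add' := fun a b => map_add _ a b
      map_smul' := fun a b => Scheme.Modules.Hom.app_smul _ a b }
  let ι' : Γ(I', U') →ₗ[Γ(Z', U')] Γ(Z', U') :=
    { toFun := fun t => (ClSub.idealModι e'.ker).app U' t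
      map_add' := fun a b => map_add _ a b
      map_smul' := fun a b => Scheme.Modules.Hom.app_smul _ a b }
  obtain ⟨g1, hg1⟩ := exists_sectionsEquiv q I hU hU' hU'q
  let δU : Γ(M, U') →ₗ[Γ(Z', U')] Γ(I', U') :=
    { toFun := fun t => δ.app U' t
      map_add' := fun a b => map_add _ a b
      map_smul' := fun a b => Scheme.Modules.Hom.app_smul _ a b }
  have hΦ : ∀ k, (ι' ∘ₗ δU ∘ₗ g1.toLinearMap) (1 ⊗ₜ k) = algebraMap Γ(Z, U) Γ(Z', U') (ι k) := by
    intro k
    show (ClSub.idealModι e'.ker).app U' (δ.app U' (g1 (1 ⊗ₜ k))) = q.appLE U U' hU'q (OmegaSh.idealSect e.ker U k)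
    rw [hg1, homEquiv_pullSec q γ hU'q k, OmegaSh.idealModι_app_map]
    show Z'.presheaf.map (homOfLE hU'q).op (OmegaSh.idealSect e'.ker (q ⁻¹ᵁ U) (γ.app U k)) = _
    rw [hγ]
    rfl
  obtain ⟨hinj, hrange⟩ := split_ideal_baseChange r hr r' hr' hrr ι (idealModι_injective e.ker U)
    (fun b => hker e hU heU b) (ι' ∘ₗ δU ∘ₗ g1.toLinearMap) hΦ
  have hδ : Function.Bijective δU := by
    refine ⟨fun a b hab => ?_, fun t => ?_⟩
    · obtain ⟨a, rfl⟩ := g1.surjective a
      obtain ⟨b, rfl⟩ := g1.surjective b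
      exact congrArg g1 (hinj (congrArg ι' hab))
    · obtain ⟨s, hs⟩ := (hrange (ι' t)).mp ((hker e' hU' he'U _).mpr ⟨t, rfl⟩)
      exact ⟨g1 s, idealModι_injective e'.ker U' hs⟩
  letI := (e'.appLE U' V' he'U.ge).hom.toAlgebra
  obtain ⟨h1, hh1⟩ := exists_sectionsEquiv e' M hU' hV' he'U.ge
  obtain ⟨h2, hh2⟩ := exists_sectionsEquiv e' I' hU' hV' he'U.ge
  let L := LinearEquiv.baseChange Γ(Z', U') Γ(S', V') _ _ (LinearEquiv.ofBijective δU hδ)
  have hkey : ∀ t, σ.app V' (h1 t) = h2 (L t) := by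
    intro t
    induction t using TensorProduct.induction_on with
    | zero => rw [map_zero, map_zero, map_zero, map_zero]
    | add a b ha hb => rw [map_add, map_add, map_add, map_add, ha, hb]
    | tmul b m =>
      rw [show b ⊗ₜ[Γ(Z', U')] m = b • (1 ⊗ₜ m) by rw [TensorProduct.smul_tmul', smul_eq_mul, mul_one]]
      simp only [map_smul, Scheme.Modules.Hom.app_smul]
      rw [hh1, show L (1 ⊗ₜ m) = 1 ⊗ₜ δU m from rfl, hh2]
      exact congrArg (b • ·) (pullSec_natural δ e' he'U.ge m)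
  have hb : Function.Bijective (fun t => σ.app V' (h1 t)) := by
    rw [funext hkey]
    exact h2.bijective.comp L.bijective
  exact (Function.Bijective.of_comp_iff _ h1.bijective).mp hb

end Groth.Agent.ModStalk
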