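import Groth.Agent.ModStalk.OmegaLocal
import Groth.Agent.ModStalk.SectionConormal

/-! Existence and uniqueness of the canonical maps between sheaves of differentials. -/

set_option autoImplicit false
set_option linter.style.haveILetI false
universe u

open CategoryTheory CategoryTheory.Limits AlgebraicGeometry Opposite TopologicalSpace

namespace Groth.Agent.ModStalk

variable {X₁ S₁ X₂ S₂ : Scheme.{u}} {p₁ : X₁ ⟶ S₁} {p₂ : X₂ ⟶ S₂} (h : X₂ ⟶ X₁)

/-- A derivation upstairs, composed with the comorphism, is a derivation into the direct image. -/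
noncomputable def derPush {G : X₂.Modules} (b : S₂ ⟶ S₁) (hsq : p₂ ≫ b = h ≫ p₁) (D : OmegaSh.Der p₂ G) :
    OmegaSh.Der p₁ ((Scheme.Modules.pushforward h).obj G) where
  d {W} := (D.app (h ⁻¹ᵁ W.unop)).comp (h.app W.unop).hom.toAddMonoidHom
  d_mul {W} a a' := by
    show D.app _ (h.app W.unop (a * a')) =
      h.app W.unop a • D.app _ (h.app W.unop a') + h.app W.unop a' • D.app _ (h.app W.unop a)
    rw [map_mul]
    exact D.d_mul _ _
  d_map {W W'} i a := by
    show D.app _ (h.app W'.unop (X₁.presheaf.map i a)) =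
      G.presheaf.map ((Opens.map h.base).map i.unop).op (D.app _ (h.app W.unop a))
    rw [show h.app W'.unop (X₁.presheaf.map i a) = X₂.presheaf.map ((Opens.map h.base).map i.unop).op
      (h.app W.unop a) from ConcreteCategory.congr_hom (h.naturality i) a]
    exact D.d_map _ _
  d_app {O} c := by
    show D.app (h ⁻¹ᵁ (p₁ ⁻¹ᵁ O.unop)) (h.app (p₁ ⁻¹ᵁ O.unop) (p₁.app O.unop c)) = 0
    have hle : h ⁻¹ᵁ (p₁ ⁻¹ᵁ O.unop) ≤ p₂ ⁻¹ᵁ (b ⁻¹ᵁ O.unop) := by
      rw [← Scheme.Hom.comp_preimage, ← hsq, Scheme.Hom.comp_preimage]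
    have he : h.app (p₁ ⁻¹ᵁ O.unop) (p₁.app O.unop c) =
        X₂.presheaf.map (homOfLE hle).op (p₂.app (b ⁻¹ᵁ O.unop) (b.app O.unop c)) := by
      show (p₁.app O.unop ≫ h.app (p₁ ⁻¹ᵁ O.unop)) c =
        ((b.app O.unop ≫ p₂.app _) ≫ X₂.presheaf.map (homOfLE hle).op) c
      rw [← Scheme.Hom.comp_app, ← Scheme.Hom.comp_app, Scheme.Hom.congr_app hsq.symm]
      rfl
    rw [he]
    refine (D.d_map (homOfLE hle).op _).trans ?_
    exact (congrArg (G.val.map (homOfLE hle).op) (D.d_app (X := op (b ⁻¹ᵁ O.unop)) (b.app O.unop c))).trans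
      (map_zero _)

variable {Ω₁ : X₁.Modules} {d₁ : OmegaSh.Der p₁ Ω₁} {Ω₂ : X₂.Modules} {d₂ : OmegaSh.Der p₂ Ω₂}

theorem existsUnique_isDiffCompat (b : S₂ ⟶ S₁) (hsq : p₂ ≫ b = h ≫ p₁) (hd₁ : OmegaSh.IsUniversal d₁) :
    ∃! c : (Scheme.Modules.pullback h).obj Ω₁ ⟶ Ω₂, OmegaSh.IsDiffCompat h d₁ d₂ c := by
  let adj := Scheme.Modules.pullbackPushforwardAdjunction h
  obtain ⟨α, hα, huniq⟩ := hd₁ _ (derPush h b hsq d₂)
  refine ⟨(adj.homEquiv _ _).symm α, fun U s => ?_, fun c hc => ?_⟩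
  · have h2 := (adj.homEquiv Ω₁ Ω₂).apply_symm_apply α
    rw [Adjunction.homEquiv_unit] at h2
    refine (ConcreteCategory.congr_hom (congrArg (fun φ => Scheme.Modules.Hom.app φ U) h2) (d₁.app U s)).trans ?_
    exact PresheafOfModules.Derivation.congr_d hα (X := op U) s
  · rw [Equiv.eq_symm_apply]
    refine huniq _ (PresheafOfModules.Derivation.ext ?_)
    funext W
    ext s
    show (adj.homEquiv Ω₁ Ω₂ c).app W.unop (d₁.app W.unop s) = d₂.app (h ⁻¹ᵁ W.unop) (h.app W.unop s)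
    rw [Adjunction.homEquiv_unit]
    exact hc W.unop s

end Groth.Agent.ModStalk
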