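import Groth.Agent.ModStalk.OmegaCompat
import Groth.Agent.ModStalk.OmegaExist
import Groth.Agent.ModStalk.ExactSections
import Mathlib.AlgebraicGeometry.Morphisms.Immersion
import Mathlib.AlgebraicGeometry.Morphisms.ClosedImmersion

/-! Tools for the exact sequences of differentials. -/

set_option autoImplicit false
set_option linter.style.haveILetI false
universe u

open CategoryTheory CategoryTheory.Limits AlgebraicGeometry Opposite TopologicalSpace
open scoped TensorProduct

namespace Groth.Agent.ModStalk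

variable {X Y : Scheme.{u}} (h : X ⟶ Y)

/-- Two maps out of a pullback that agree on pulled back sections are equal. -/
theorem hom_ext_pullSect {M : Y.Modules} {G : X.Modules} (u v : (Scheme.Modules.pullback h).obj M ⟶ G)
    (huv : ∀ (U : Y.Opens) (s : Γ(M, U)), u.app (h ⁻¹ᵁ U) (OmegaSh.pullSect h M U s) =
      v.app (h ⁻¹ᵁ U) (OmegaSh.pullSect h M U s)) : u = v := by
  let adj := Scheme.Modules.pullbackPushforwardAdjunction h
  refine (adj.homEquiv M G).injective (Scheme.Modules.hom_ext _ _ fun U => AddCommGrpCat.hom_ext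
    (AddMonoidHom.ext fun s => ?_))
  show ((adj.homEquiv M G) u).app U s = ((adj.homEquiv M G) v).app U s
  rw [Adjunction.homEquiv_unit, Adjunction.homEquiv_unit]
  exact huv U s

/-- A map out of the pullback of the differentials is zero if it kills the pulled back differentials. -/
theorem eq_zero_of_pullSect {S : Scheme.{u}} {p : Y ⟶ S} {Ω : Y.Modules} {d : OmegaSh.Der p Ω}
    (hd : OmegaSh.IsUniversal d) {G : X.Modules} (u : (Scheme.Modules.pullback h).obj Ω ⟶ G)
    (hu : ∀ (U : Y.Opens) (s : Γ(Y, U)), u.app (h ⁻¹ᵁ U) (OmegaSh.pullSect h Ω U (d.app U s)) = 0) : u = 0 := by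
  let adj := Scheme.Modules.pullbackPushforwardAdjunction h
  refine (adj.homEquiv Ω G).injective ((hd _ (d.postcomp (adj.homEquiv Ω G 0).val)).unique ?_ rfl)
  refine PresheafOfModules.Derivation.ext ?_
  funext W
  ext s
  show (adj.homEquiv Ω G u).app W.unop (d.app W.unop s) = (adj.homEquiv Ω G 0).app W.unop (d.app W.unop s)
  rw [Adjunction.homEquiv_unit, Adjunction.homEquiv_unit, Functor.map_zero, comp_zero]
  exact hu W.unop s

/-- An immersion is surjective on functions over affine opens in which its image is closed. -/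
theorem affine_immersion_of_le [IsImmersion h] {U : Y.Opens} (hU : IsAffineOpen U) (hle : U ≤ h.coborderRange) :
    IsAffineOpen (h ⁻¹ᵁ U) ∧ Function.Surjective (h.app U) := by
  have key : ∀ U' : (h.coborderRange : Scheme.{u}).Opens, IsAffineOpen U' →
      IsAffineOpen (h ⁻¹ᵁ h.coborderRange.ι ''ᵁ U') ∧
        Function.Surjective (h.app (h.coborderRange.ι ''ᵁ U')) := by
    intro U' hU'
    refine ⟨?_, ?_⟩
    · rw [← Scheme.Hom.liftCoborder_preimage]
      exact hU'.preimage h.liftCoborder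
    · have h1 := h.liftCoborder.app_surjective U' hU'
      rw [liftCoborder_app] at h1
      let m : X.presheaf.obj (op (h ⁻¹ᵁ h.coborderRange.ι ''ᵁ U')) ⟶ X.presheaf.obj (op (h.liftCoborder ⁻¹ᵁ U')) :=
        X.presheaf.map (eqToHom <| h.liftCoborder_preimage U').op
      intro b
      obtain ⟨a, ha⟩ := h1 (m b)
      exact ⟨a, (ConcreteCategory.bijective_of_isIso m).1 ha⟩
  have himg : h.coborderRange.ι ''ᵁ (h.coborderRange.ι ⁻¹ᵁ U) = U := by
    rw [Scheme.Hom.image_preimage_eq_opensRange_inf, Scheme.Opens.opensRange_ι]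
    exact inf_eq_right.mpr hle
  have hU' : IsAffineOpen (h.coborderRange.ι ⁻¹ᵁ U) := by
    rw [← Scheme.Hom.isAffineOpen_iff_of_isOpenImmersion h.coborderRange.ι, himg]
    exact hU
  obtain ⟨ha, hb⟩ := key _ hU'
  rw [himg] at ha hb
  exact ⟨ha, hb⟩

/-- Around a point of an immersion there are affine opens on which it is surjective on functions. -/
theorem exists_affine_immersion [IsImmersion h] (x : X) (V : Y.Opens) (hx : h x ∈ V) :
    ∃ U : Y.Opens, IsAffineOpen U ∧ h x ∈ U ∧ U ≤ V ∧ IsAffineOpen (h ⁻¹ᵁ U) ∧ Function.Surjective (h.app U) := by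
  have hx0 : h x ∈ h.coborderRange := subset_coborder (Set.mem_range_self x)
  obtain ⟨_, ⟨U, hU, rfl⟩, hxU, hle⟩ :=
    Y.isBasis_affineOpens.exists_subset_of_mem_open (show h x ∈ h.coborderRange ⊓ V from ⟨hx0, hx⟩)
      (h.coborderRange ⊓ V).2
  obtain ⟨ha, hb⟩ := affine_immersion_of_le h hU fun z hz => (hle hz).1
  exact ⟨U, hU, hxU, fun z hz => (hle hz).2, ha, hb⟩

theorem kaehlerEquiv_compat {S₁ S₂ : Scheme.{u}} {p₁ : Y ⟶ S₁} {p₂ : X ⟶ S₂}
    {Ω₁ : Y.Modules} {d₁ : OmegaSh.Der p₁ Ω₁} {Ω₂ : X.Modules} {d₂ : OmegaSh.Der p₂ Ω₂}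
    {c : (Scheme.Modules.pullback h).obj Ω₁ ⟶ Ω₂} (hc : OmegaSh.IsDiffCompat h d₁ d₂ c)
    {U : Y.Opens} {U' : X.Opens} (hle : U' ≤ h ⁻¹ᵁ U) (b : Γ(X, U')) (s : Γ(Y, U)) :
    c.app U' (b • pullSec h Ω₁ hle (d₁.app U s)) = b • d₂.app U' (h.appLE U U' hle s) := by
  rw [c.app_smul, compat_pullSec hc]

end Groth.Agent.ModStalk
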