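import Groth.Prelude.Def_RelSpec2
import Groth.Agent.ModStalk.ExactSections
import Groth.Agent.ModStalk.AlgMod
import Groth.Agent.ModStalk.QCoh
import Groth.Agent.ModStalk.OmegaExact

/-! Direct images along affine morphisms, as modules over the direct image algebra. -/

set_option autoImplicit false
set_option linter.style.haveILetI false
universe u

open CategoryTheory CategoryTheory.Limits AlgebraicGeometry Opposite TopologicalSpace
open scoped TensorProduct

namespace Groth.Agent.ModStalk.AModDir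

variable {X S : Scheme.{u}} (f : X ⟶ S)

theorem counit_pullSec (F : X.Modules) (U : S.Opens) (m : Γ((Scheme.Modules.pushforward f).obj F, U)) :
    ((Scheme.Modules.pullbackPushforwardAdjunction f).counit.app F).app (f ⁻¹ᵁ U)
      (pullSec f ((Scheme.Modules.pushforward f).obj F) (le_refl (f ⁻¹ᵁ U)) m) = (show Γ(F, f ⁻¹ᵁ U) from m) := by
  refine (app_res _ (le_refl (f ⁻¹ᵁ U)) _).trans ?_
  rw [show (homOfLE (le_refl (f ⁻¹ᵁ U))).op = 𝟙 _ from rfl, CategoryTheory.Functor.map_id, ConcreteCategory.id_apply]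
  exact ConcreteCategory.congr_hom (congrArg (fun φ => Scheme.Modules.Hom.app φ U)
    ((Scheme.Modules.pullbackPushforwardAdjunction f).right_triangle_components F)) m

variable [IsAffineHom f]

omit [IsAffineHom f] in
theorem exists_affine_preimage [IsAffineHom f] (x : X) :
    ∃ U : S.Opens, IsAffineOpen U ∧ x ∈ f ⁻¹ᵁ U ∧ IsAffineOpen (f ⁻¹ᵁ U) := by
  obtain ⟨_, ⟨U, hU, rfl⟩, hxU, -⟩ := S.isBasis_affineOpens.exists_subset_of_mem_open (Set.mem_univ (f x)) isOpen_univ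
  exact ⟨U, hU, hxU, hU.preimage f⟩

theorem dirImg_map_injective {F G : X.Modules} [F.IsQuasicoherent] [G.IsQuasicoherent] (φ ψ : F ⟶ G)
    (h : (AMod.dirImg f).map φ = (AMod.dirImg f).map ψ) : φ = ψ := by
  rw [← sub_eq_zero]
  refine eq_zero_of_app _ fun x => ?_
  obtain ⟨U, hU, hxU, hW⟩ := exists_affine_preimage f x
  refine ⟨f ⁻¹ᵁ U, hW, hxU, fun a => ?_⟩
  have h1 : φ.app (f ⁻¹ᵁ U) a = ψ.app (f ⁻¹ᵁ U) a :=
    congrArg (fun χ : (AMod.dirImg f).obj F ⟶ (AMod.dirImg f).obj G => χ.val.app (op U) a) h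
  show φ.app (f ⁻¹ᵁ U) a - ψ.app (f ⁻¹ᵁ U) a = 0
  rw [h1, sub_self]

/-- The components of a map of direct images. -/
noncomputable def dirApp {F G : X.Modules} (ψ : (AMod.dirImg f).obj F ⟶ (AMod.dirImg f).obj G) (U : S.Opens) :
    Γ(F, f ⁻¹ᵁ U) →+ Γ(G, f ⁻¹ᵁ U) :=
  (ψ.val.app (op U)).hom.toAddMonoidHom

theorem dirApp_smul {F G : X.Modules} (ψ : (AMod.dirImg f).obj F ⟶ (AMod.dirImg f).obj G) (U : S.Opens)
    (b : Γ(X, f ⁻¹ᵁ U)) (m : Γ(F, f ⁻¹ᵁ U)) : dirApp f ψ U (b • m) = b • dirApp f ψ U m :=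
  (ψ.val.app (op U)).hom.map_smul' b m

theorem dirImg_map_surjective {F G : X.Modules} [F.IsQuasicoherent] [G.IsQuasicoherent]
    (ψ : (AMod.dirImg f).obj F ⟶ (AMod.dirImg f).obj G) : ∃ φ : F ⟶ G, (AMod.dirImg f).map φ = ψ := by
  let P := Scheme.Modules.pushforward f
  let adj := Scheme.Modules.pullbackPushforwardAdjunction f
  haveI : (P.obj F).IsQuasicoherent := isQuasicoherent_pushforward f F
  haveI : (P.obj G).IsQuasicoherent := isQuasicoherent_pushforward f G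
  haveI : ((Scheme.Modules.pullback f).obj (P.obj F)).IsQuasicoherent := isQuasicoherent_pullback f _
  let u : P.obj F ⟶ P.obj G := (AMod.toOS (RelSpec.QCAlg.directImage f)).map ψ
  let α : (Scheme.Modules.pullback f).obj (P.obj F) ⟶ G := (Scheme.Modules.pullback f).map u ≫ adj.counit.app G
  let ε : (Scheme.Modules.pullback f).obj (P.obj F) ⟶ F := adj.counit.app F
  have hα : ∀ U : S.Opens, IsAffineOpen U → ∀ t, α.app (f ⁻¹ᵁ U) t = dirApp f ψ U (ε.app (f ⁻¹ᵁ U) t) := by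
    intro U hU t
    obtain ⟨e, he⟩ := exists_sectionsEquiv f (P.obj F) hU (hU.preimage f) le_rfl
    letI := (f.appLE U (f ⁻¹ᵁ U) le_rfl).hom.toAlgebra
    obtain ⟨v, rfl⟩ := e.surjective t
    induction v using TensorProduct.induction_on with
    | zero => simp only [map_zero]
    | add v w hv hw =>
      simp only [map_add, hv, hw]
    | tmul b m =>
      rw [show b ⊗ₜ[Γ(S, U)] m = b • ((1 : Γ(X, f ⁻¹ᵁ U)) ⊗ₜ[Γ(S, U)] m) by
        rw [TensorProduct.smul_tmul', smul_eq_mul, mul_one], map_smul, he]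
      rw [α.app_smul, ε.app_smul]
      have h1 : α.app (f ⁻¹ᵁ U) (pullSec f (P.obj F) (le_refl _) m) = u.app U m := by
        show (adj.counit.app G).app _ (((Scheme.Modules.pullback f).map u).app _ _) = _
        rw [pullSec_natural, counit_pullSec]
      rw [h1, counit_pullSec]
      exact (dirApp_smul f ψ U b m).symm
  have hεsurj : ∀ U : S.Opens, Function.Surjective (ε.app (f ⁻¹ᵁ U)) :=
    fun U m => ⟨pullSec f (P.obj F) (le_refl _) m, counit_pullSec f F U m⟩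
  haveI : Epi ε := epi_of_app_surjective ε fun x => by
    obtain ⟨U, hU, hxU, hW⟩ := exists_affine_preimage f x
    exact ⟨f ⁻¹ᵁ U, hW, hxU, hεsurj U⟩
  haveI : (kernel ε).IsQuasicoherent := isQuasicoherent_kernel ε
  have hk : kernel.ι ε ≫ α = 0 := eq_zero_of_app _ fun x => by
    obtain ⟨U, hU, hxU, hW⟩ := exists_affine_preimage f x
    refine ⟨f ⁻¹ᵁ U, hW, hxU, fun a => ?_⟩
    show α.app _ ((kernel.ι ε).app _ a) = 0
    rw [hα U hU, show ε.app _ ((kernel.ι ε).app _ a) = 0 from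
      congrArg (fun φ => Scheme.Modules.Hom.app φ (f ⁻¹ᵁ U) a) (kernel.condition ε)]
    exact map_zero (dirApp f ψ U)
  refine ⟨Abelian.epiDesc ε α hk, ?_⟩
  haveI : (AMod.toOS (RelSpec.QCAlg.directImage f)).Faithful :=
    inferInstanceAs (SheafOfModules.restrictScalars (AMod.strHom (RelSpec.QCAlg.directImage f))).Faithful
  apply (AMod.toOS (RelSpec.QCAlg.directImage f)).map_injective
  show P.map (Abelian.epiDesc ε α hk) = u
  rw [← sub_eq_zero]
  refine eq_zero_of_app _ fun s => ?_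
  obtain ⟨_, ⟨U, hU, rfl⟩, hsU, -⟩ := S.isBasis_affineOpens.exists_subset_of_mem_open (Set.mem_univ s) isOpen_univ
  refine ⟨U, hU, hsU, fun m => ?_⟩
  obtain ⟨t, ht⟩ := hεsurj U (show Γ(F, f ⁻¹ᵁ U) from m)
  have h2 : (Abelian.epiDesc ε α hk).app (f ⁻¹ᵁ U) (ε.app (f ⁻¹ᵁ U) t) = α.app (f ⁻¹ᵁ U) t :=
    congrArg (fun φ => Scheme.Modules.Hom.app φ (f ⁻¹ᵁ U) t) (Abelian.comp_epiDesc ε α hk)
  show (Abelian.epiDesc ε α hk).app (f ⁻¹ᵁ U) (show Γ(F, f ⁻¹ᵁ U) from m) - (show Γ(G, f ⁻¹ᵁ U) from u.app U m) = 0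
  rw [← ht, h2, hα U hU, ht]
  exact sub_self _

end Groth.Agent.ModStalk.AModDir
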