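import Groth.Agent.ModStalk.AModDir
import Groth.Agent.ModStalk.FiniteType
import Groth.Agent.ModStalk.Localization
import Groth.Agent.ModStalk.Epi

/-! Finite type of direct images along affine morphisms, over the direct image algebra. -/

set_option autoImplicit false
set_option linter.style.haveILetI false
universe u

open CategoryTheory CategoryTheory.Limits AlgebraicGeometry Opposite TopologicalSpace SheafOfModules

namespace Groth.Agent.ModStalk.AModDir

variable {X S : Scheme.{u}} (f : X ⟶ S) [IsAffineHom f] (F : X.Modules)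

theorem exists_generatingSections_dirImg [F.IsQuasicoherent]
    [SheafOfModules.IsFiniteType (R := X.ringCatSheaf) F] {U : S.Opens} (hU : IsAffineOpen U) :
    ∃ σ : (SheafOfModules.over (R := AMod.ringSheaf (RelSpec.QCAlg.directImage f)) ((AMod.dirImg f).obj F)
      U).GeneratingSections, σ.IsFiniteType := by
  have hfin : Module.Finite Γ(X, f ⁻¹ᵁ U) Γ(F, f ⁻¹ᵁ U) := finite_sections (hU.preimage f) F
  obtain ⟨T, hT⟩ := hfin.1
  let M := SheafOfModules.over (R := AMod.ringSheaf (RelSpec.QCAlg.directImage f)) ((AMod.dirImg f).obj F) U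
  have hmono : ∀ {A B : S.Opens}, A ≤ B → f ⁻¹ᵁ A ≤ f ⁻¹ᵁ B := fun h x hx => h hx
  let sec : T → M.sections := fun t =>
    PresheafOfModules.sectionsMk
      (fun W => F.presheaf.map (homOfLE (hmono (leOfHom W.unop.hom))).op (t.1 : Γ(F, f ⁻¹ᵁ U)))
      fun {W W'} g => by
        exact res_res F (hmono (leOfHom W.unop.hom)) (hmono (leOfHom g.unop.left)) (t.1 : Γ(F, f ⁻¹ᵁ U))
  let φ := M.freeHomEquiv.symm sec
  have hφ : Epi φ := by
    refine epi_of_exists_local_sum φ fun W a => ?_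
    have hW : W.left ≤ U := leOfHom W.hom
    let Sv : Sieve W.left :=
      { arrows := fun V j => ∃ r : T → Γ(X, f ⁻¹ᵁ V),
          F.presheaf.map (homOfLE (hmono (leOfHom j))).op (show Γ(F, f ⁻¹ᵁ W.left) from a) =
            ∑ t, r t • F.presheaf.map (homOfLE (hmono ((leOfHom j).trans hW))).op (t.1 : Γ(F, f ⁻¹ᵁ U))
        downward_closed := by
          rintro V V' j ⟨r, hr⟩ k
          refine ⟨fun t => X.presheaf.map (homOfLE (hmono (leOfHom k))).op (r t), ?_⟩
          refine ((res_res F (hmono (leOfHom j)) (hmono (leOfHom k)) _).symm.trans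
            (congrArg (F.presheaf.map (homOfLE (hmono (leOfHom k))).op) hr)).trans ?_
          rw [map_sum]
          refine Finset.sum_congr rfl fun t _ => ?_
          erw [Scheme.Modules.map_smul]
          congr 1
          exact res_res F _ (hmono (leOfHom k)) _ }
    refine ⟨(Sieve.overEquiv W).symm Sv, ?_, fun V j hj => ?_⟩
    · apply GrothendieckTopology.overEquiv_symm_mem_over
      intro s hs
      obtain ⟨_, ⟨V, hV, rfl⟩, hsV, hVW⟩ := S.isBasis_affineOpens.exists_subset_of_mem_open hs W.left.2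
      refine ⟨V, homOfLE hVW, ?_, hsV⟩
      have hVU : f ⁻¹ᵁ V ≤ f ⁻¹ᵁ U := fun x hx => hW (hVW hx)
      let N := Submodule.span Γ(X, f ⁻¹ᵁ V)
        (Set.range fun t : T => F.presheaf.map (homOfLE hVU).op (t.1 : Γ(F, f ⁻¹ᵁ U)))
      have hN : N = ⊤ := by
        refine eq_top_of_span_germ_eq_top (hV.preimage f) F N fun y => ?_
        refine Submodule.eq_top_iff'.mpr fun m => ?_
        obtain ⟨c, b, hc, hb⟩ := exists_smul_eq_germ F (hU.preimage f) y.1 (hVU y.2) m
        have hu : IsUnit (X.presheaf.germ (f ⁻¹ᵁ U) y.1 (hVU y.2) c) := (Scheme.mem_basicOpen _ _ _ _).mp hc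
        rw [← one_smul (X.presheaf.stalk y.1) m, ← hu.val_inv_mul, mul_smul, hb]
        refine Submodule.smul_mem _ _ ?_
        have hb' : b ∈ Submodule.span Γ(X, f ⁻¹ᵁ U) (T : Set Γ(F, f ⁻¹ᵁ U)) := hT ▸ Submodule.mem_top
        clear hb
        induction hb' using Submodule.span_induction with
        | mem v hv =>
          exact Submodule.subset_span ⟨_, Submodule.subset_span ⟨⟨v, hv⟩, rfl⟩,
            TopCat.Presheaf.germ_res_apply F.presheaf (homOfLE hVU) y.1 y.2 v⟩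
        | zero => rw [map_zero]; exact Submodule.zero_mem _
        | add v w _ _ hv hw => rw [map_add]; exact Submodule.add_mem _ hv hw
        | smul r v _ hv => rw [germ_smul]; exact Submodule.smul_mem _ _ hv
      obtain ⟨r, hr⟩ := (Submodule.mem_span_range_iff_exists_fun Γ(X, f ⁻¹ᵁ V)).mp
        (hN.ge (Submodule.mem_top (x := F.presheaf.map (homOfLE (hmono hVW)).op (show Γ(F, f ⁻¹ᵁ W.left) from a))))
      exact ⟨r, hr.symm⟩
    · obtain ⟨r, hr⟩ := (Sieve.overEquiv_symm_iff _ _).mp hj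
      refine ⟨r, hr.trans (Finset.sum_congr rfl fun t _ => ?_)⟩
      rw [show M.freeHomEquiv φ = sec from Equiv.apply_symm_apply _ _]
      rfl
  exact ⟨⟨T, sec, hφ⟩, ⟨Finite.of_fintype T⟩⟩

theorem isFiniteType_dirImg [F.IsQuasicoherent] [SheafOfModules.IsFiniteType (R := X.ringCatSheaf) F] :
    SheafOfModules.IsFiniteType.{u} (R := AMod.ringSheaf (RelSpec.QCAlg.directImage f)) ((AMod.dirImg f).obj F) := by
  choose σ hσ using fun U : S.affineOpens => exists_generatingSections_dirImg f F U.2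
  have hcov : (Opens.grothendieckTopology S).CoversTop (fun U : S.affineOpens => U.1) := by
    rw [Opens.coversTop_iff, IsOpenCover]
    exact eq_top_iff.mpr fun x _ => by
      obtain ⟨_, ⟨W, hW, rfl⟩, hxW, -⟩ :=
        S.isBasis_affineOpens.exists_subset_of_mem_open (Set.mem_univ x) isOpen_univ
      exact Opens.mem_iSup.mpr ⟨⟨W, hW⟩, hxW⟩
  let d : SheafOfModules.LocalGeneratorsData.{u} (R := AMod.ringSheaf (RelSpec.QCAlg.directImage f))
      ((AMod.dirImg f).obj F) :=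
    { I := ↥S.affineOpens, X := fun U => U.1, coversTop := hcov, generators := σ }
  have hd : d.IsFiniteType := { isFiniteType := hσ }
  exact { exists_localGeneratorsData := ⟨d, hd⟩ }

omit [IsAffineHom f] in
/-- The generators over an open, as sections of `F`. -/
noncomputable def genSect {V₀ : S.Opens} [QuasiCompact f] [QuasiSeparated f]
    (σ : (SheafOfModules.over (R := AMod.ringSheaf (RelSpec.QCAlg.directImage f)) ((AMod.dirImg f).obj F)
      V₀).GeneratingSections) (k : σ.I) : Γ(F, f ⁻¹ᵁ V₀) :=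
  (σ.s k).eval (op (Over.mk (𝟙 V₀)))

theorem exists_local_sum_dirImg {V₀ : S.Opens}
    (σ : (SheafOfModules.over (R := AMod.ringSheaf (RelSpec.QCAlg.directImage f)) ((AMod.dirImg f).obj F)
      V₀).GeneratingSections) [Fintype σ.I] {U : S.Opens} (hUV : U ≤ V₀) (b : Γ(F, f ⁻¹ᵁ U)) {y : S} (hy : y ∈ U) :
    ∃ (V : S.Opens) (hV : f ⁻¹ᵁ V ≤ f ⁻¹ᵁ U) (hV₀ : f ⁻¹ᵁ V ≤ f ⁻¹ᵁ V₀), y ∈ V ∧ ∃ r : σ.I → Γ(X, f ⁻¹ᵁ V),
      F.presheaf.map (homOfLE hV).op b =
        ∑ k, r k • F.presheaf.map (homOfLE hV₀).op (genSect f F σ k) := by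
  obtain ⟨Sv, hSv, hloc⟩ := exists_local_sum V₀ ((AMod.dirImg f).obj F) σ (homOfLE hUV) b
  obtain ⟨V, j, hj, hyV⟩ := hSv y hy
  obtain ⟨r, hr⟩ := hloc j hj
  exact ⟨V, fun z hz => leOfHom j hz, fun z hz => hUV (leOfHom j hz), hyV, r, hr⟩

omit [IsAffineHom f] in
theorem span_germ_of_local_sum [F.IsQuasicoherent] {U : S.Opens} (hU : IsAffineOpen (f ⁻¹ᵁ U)) {I : Type u}
    [Fintype I] {V₀ : S.Opens} (hUV : f ⁻¹ᵁ U ≤ f ⁻¹ᵁ V₀) (t : I → Γ(F, f ⁻¹ᵁ V₀))
    (h : ∀ (b : Γ(F, f ⁻¹ᵁ U)) (y : S), y ∈ U → ∃ (V : S.Opens) (hV : f ⁻¹ᵁ V ≤ f ⁻¹ᵁ U)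
      (hV₀ : f ⁻¹ᵁ V ≤ f ⁻¹ᵁ V₀), y ∈ V ∧ ∃ r : I → Γ(X, f ⁻¹ᵁ V),
      F.presheaf.map (homOfLE hV).op b = ∑ k, r k • F.presheaf.map (homOfLE hV₀).op (t k))
    (y : X) (hy : y ∈ f ⁻¹ᵁ U) :
    Submodule.span (X.presheaf.stalk y)
      (Set.range fun k => F.presheaf.germ (f ⁻¹ᵁ U) y hy (F.presheaf.map (homOfLE hUV).op (t k))) = ⊤ := by
  refine Submodule.eq_top_iff'.mpr fun m => ?_
  obtain ⟨c, b, hc, hb⟩ := exists_smul_eq_germ F hU y hy m
  have hu : IsUnit (X.presheaf.germ (f ⁻¹ᵁ U) y hy c) := (Scheme.mem_basicOpen _ _ _ hy).mp hc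
  rw [← one_smul (X.presheaf.stalk y) m, ← hu.val_inv_mul, mul_smul, hb]
  refine Submodule.smul_mem _ _ ?_
  obtain ⟨V, hV, hV₀, hyV, r, hr⟩ := h b (f y) hy
  have h1 := congrArg (F.presheaf.germ (f ⁻¹ᵁ V) y hyV) hr
  rw [TopCat.Presheaf.germ_res_apply] at h1
  rw [h1, germ_sum]
  refine Submodule.sum_mem _ fun k _ => Submodule.smul_mem _ _ (Submodule.subset_span ⟨k, ?_⟩)
  exact TopCat.Presheaf.germ_res_apply F.presheaf (homOfLE hUV) y hy _

theorem isFiniteType_of_dirImg [F.IsQuasicoherent]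
    [hM : SheafOfModules.IsFiniteType.{u} (R := AMod.ringSheaf (RelSpec.QCAlg.directImage f))
      ((AMod.dirImg f).obj F)] : SheafOfModules.IsFiniteType (R := X.ringCatSheaf) F := by
  classical
  obtain ⟨d, hd⟩ := hM.exists_localGeneratorsData
  have hc := d.coversTop
  rw [Opens.coversTop_iff, IsOpenCover] at hc
  have key : ∀ x : X, ∃ (W : X.Opens) (σ : (SheafOfModules.over (R := X.ringCatSheaf) F W).GeneratingSections),
      x ∈ W ∧ σ.IsFiniteType := by
    intro x
    obtain ⟨i, hi⟩ := Opens.mem_iSup.mp (hc.ge (trivial : f x ∈ (⊤ : S.Opens)))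
    obtain ⟨_, ⟨U, hU, rfl⟩, hxU, hUV⟩ := S.isBasis_affineOpens.exists_subset_of_mem_open hi (d.X i).2
    haveI : Finite (d.generators i).I := (hd.isFiniteType i).finite
    haveI : Fintype (d.generators i).I := Fintype.ofFinite _
    have hUV' : f ⁻¹ᵁ U ≤ f ⁻¹ᵁ d.X i := fun z hz => hUV hz
    obtain ⟨σ, hσ⟩ := exists_generatingSections F
      (fun k => F.presheaf.map (homOfLE hUV').op (genSect f F (d.generators i) k))
      (span_germ_of_local_sum f F (hU.preimage f) hUV' (genSect f F (d.generators i))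
        fun b y hy => exists_local_sum_dirImg f F (d.generators i) hUV b hy)
    exact ⟨f ⁻¹ᵁ U, σ, hxU, hσ⟩
  choose W σ hxW hσ using key
  have hcov : (Opens.grothendieckTopology X).CoversTop W := by
    rw [Opens.coversTop_iff, IsOpenCover]
    exact eq_top_iff.mpr fun x _ => Opens.mem_iSup.mpr ⟨x, hxW x⟩
  let d' : SheafOfModules.LocalGeneratorsData.{u} (R := X.ringCatSheaf) F :=
    { I := X, X := W, coversTop := hcov, generators := σ }
  have hd' : d'.IsFiniteType := { isFiniteType := hσ }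
  exact { exists_localGeneratorsData := ⟨d', hd'⟩ }

end Groth.Agent.ModStalk.AModDir
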