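import Groth.Agent.ModStalk.AssPoint
import Groth.Prelude.Def_FDesc
import Mathlib.RingTheory.Ideal.AssociatedPrime.Finiteness

/-! Associated points generize nonzero stalks. -/

set_option autoImplicit false
set_option backward.isDefEq.respectTransparency false
universe u

open CategoryTheory AlgebraicGeometry TopologicalSpace

namespace Groth.Agent.ModStalk

variable {X : Scheme.{u}}

theorem exists_ass_generization [IsLocallyNoetherian X] (M : X.Modules) [M.IsQuasicoherent] (x : X)
    (h : Nontrivial (M.presheaf.stalk x)) : ∃ y : X, y ⤳ x ∧ Curv2.IsAssPoint M y := by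
  obtain ⟨v, hv⟩ := exists_ne (0 : M.presheaf.stalk x)
  obtain ⟨W, hxW, t, rfl⟩ := M.presheaf.exists_germ_eq (x := x) v
  obtain ⟨_, ⟨V, hV, rfl⟩, hxV, hVW⟩ := X.isBasis_affineOpens.exists_subset_of_mem_open hxW W.isOpen
  replace hVW : V ≤ W := hVW
  obtain ⟨y, hyx, -, hyw⟩ := exists_isWeakAssPoint hV M ⟨x, hxV⟩ (M.presheaf.map (homOfLE hVW).op t)
    (by rw [TopCat.Presheaf.germ_res_apply]; exact hv)
  exact ⟨y.1, hyx, (isAssPoint_iff_isWeakAssPoint M y.1).mpr hyw⟩

theorem nontrivial_stalk_of_isAssPoint [IsLocallyNoetherian X] (M : X.Modules) {x : X} (h : Curv2.IsAssPoint M x) :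
    Nontrivial (M.presheaf.stalk x) := by
  obtain ⟨hp, m, hm⟩ := isAssociatedPrime_iff.mp h
  refine ⟨m, 0, fun h0 => hp.ne_top ?_⟩
  rw [hm, Ideal.eq_top_iff_one, Submodule.mem_colon_singleton, h0, smul_zero]
  exact zero_mem _

end Groth.Agent.ModStalk
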