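import Groth.Agent.ModStalk.AlgMod

/-! Sections over affine opens commute with colimits of quasi-coherent modules. -/

set_option autoImplicit false
universe u

open CategoryTheory CategoryTheory.Limits AlgebraicGeometry Opposite TopologicalSpace

namespace Groth.Agent.ModStalk

variable {X : Scheme.{u}}

/-- Sections over an open, as a functor to abelian groups. -/
noncomputable abbrev secFunctor (W : X.Opens) : X.Modules ⥤ AddCommGrpCat.{u} :=
  Scheme.Modules.toPresheaf X ⋙ (evaluation _ _).obj (op W)

theorem preservesColimit_moduleSpecΓ {R : CommRingCat.{u}} {K : Type u} [SmallCategory K]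
    (D : K ⥤ (Spec R).Modules) (hD : ∀ k, (D.obj k).IsQuasicoherent) :
    PreservesColimit D (moduleSpecΓFunctor (R := R)) := by
  let T := tilde.functor R
  let Γ' := moduleSpecΓFunctor (R := R)
  let e : (D ⋙ Γ') ⋙ T ≅ D :=
    NatIso.ofComponents (fun k =>
      haveI := (isQuasicoherent_iff_isIso_fromTildeΓ (D.obj k)).mp (hD k)
      @asIso _ _ _ _ ((tilde.adjunction (R := R)).counit.app (D.obj k)) this)
      (fun f => (tilde.adjunction (R := R)).counit.naturality (D.map f))
  let u : 𝟭 (ModuleCat.{u} R) ≅ T ⋙ Γ' := asIso (tilde.adjunction (R := R)).unit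
  haveI : PreservesColimit (D ⋙ Γ') (T ⋙ Γ') := preservesColimit_of_natIso _ u
  have hT : IsColimit (T.mapCocone (colimit.cocone (D ⋙ Γ'))) := isColimitOfPreserves T (colimit.isColimit _)
  have hTΓ : IsColimit (Γ'.mapCocone (T.mapCocone (colimit.cocone (D ⋙ Γ')))) :=
    isColimitOfPreserves (T ⋙ Γ') (colimit.isColimit (D ⋙ Γ'))
  haveI : PreservesColimit ((D ⋙ Γ') ⋙ T) Γ' := preservesColimit_of_preserves_colimit_cocone hT hTΓ
  exact preservesColimit_of_iso_diagram Γ' e

theorem preservesColimit_sections_image {R : CommRingCat.{u}} (g : Spec R ⟶ X) [IsOpenImmersion g]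
    {K : Type u} [SmallCategory K] (D : K ⥤ X.Modules) (hD : ∀ k, (D.obj k).IsQuasicoherent) :
    PreservesColimit D (secFunctor (g ''ᵁ ⊤)) := by
  let a := Scheme.Modules.restrictFunctor g
  haveI : PreservesColimit D a :=
    (Scheme.Modules.restrictAdjunction g).leftAdjoint_preservesColimits.preservesColimitsOfShape.preservesColimit
  haveI : PreservesColimit (D ⋙ a) (moduleSpecΓFunctor (R := R)) :=
    preservesColimit_moduleSpecΓ _ fun k => by
      have := hD k
      exact inferInstanceAs ((D.obj k).restrict g).IsQuasicoherent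
  haveI : PreservesColimit D (a ⋙ moduleSpecΓFunctor (R := R)) := inferInstance
  haveI : PreservesColimit (D ⋙ a ⋙ moduleSpecΓFunctor (R := R)) (forget₂ (ModuleCat.{u} R) AddCommGrpCat.{u}) :=
    inferInstance
  haveI : PreservesColimit D ((a ⋙ moduleSpecΓFunctor (R := R)) ⋙ forget₂ (ModuleCat.{u} R) AddCommGrpCat.{u}) :=
    inferInstance
  exact preservesColimit_of_natIso D (NatIso.ofComponents (fun M => Iso.refl _) :
    (a ⋙ moduleSpecΓFunctor (R := R)) ⋙ forget₂ (ModuleCat.{u} R) AddCommGrpCat.{u} ≅ secFunctor (g ''ᵁ ⊤))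

/-- Sections over an affine open commute with colimits of quasi-coherent modules. -/
theorem preservesColimit_sections {W : X.Opens} (hW : IsAffineOpen W) {K : Type u} [SmallCategory K]
    (D : K ⥤ X.Modules) (hD : ∀ k, (D.obj k).IsQuasicoherent) : PreservesColimit D (secFunctor W) := by
  have h := preservesColimit_sections_image hW.fromSpec D hD
  rwa [show hW.fromSpec ''ᵁ ⊤ = W by rw [Scheme.Hom.image_top_eq_opensRange, hW.opensRange_fromSpec]] at h

theorem isQuasicoherent_restrict_of_isColimit {K : Type u} [SmallCategory K] {D : K ⥤ X.Modules}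
    (hD : ∀ k, (D.obj k).IsQuasicoherent) {c : Cocone D} (hc : IsColimit c) (W : X.Opens) (hW : IsAffineOpen W) :
    (c.pt.restrict W.ι).IsQuasicoherent := by
  haveI : IsAffine (W : Scheme.{u}) := hW
  haveI : PreservesColimit D (Scheme.Modules.restrictFunctor W.ι) :=
    (Scheme.Modules.restrictAdjunction W.ι).leftAdjoint_preservesColimits.preservesColimitsOfShape.preservesColimit
  exact AlgMod.isQuasicoherent_of_isColimit (D := D ⋙ Scheme.Modules.restrictFunctor W.ι)
    (fun k => by have := hD k; exact inferInstanceAs ((D.obj k).restrict W.ι).IsQuasicoherent)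
    (isColimitOfPreserves (Scheme.Modules.restrictFunctor W.ι) hc)

/-- Quasi-coherent modules are closed under colimits. -/
theorem isQCoh_of_isColimit {K : Type u} [SmallCategory K] {D : K ⥤ X.Modules}
    (hD : ∀ k, (D.obj k).IsQuasicoherent) {c : Cocone D} (hc : IsColimit c) : Coh.IsQCoh c.pt := by
  refine AlgMod.isQuasicoherent_restrict_iff_cover _ fun x => ?_
  obtain ⟨_, ⟨W, hW, rfl⟩, hxW, -⟩ := X.isBasis_affineOpens.exists_subset_of_mem_open (Set.mem_univ x) isOpen_univ
  exact ⟨W, hxW, hW, isQuasicoherent_restrict_of_isColimit hD hc W hW⟩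

end Groth.Agent.ModStalk
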