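import Groth.Agent.ModStalk.OmegaExact

/-! Splittings of the conormal sequence for an immersion with a retraction. -/

set_option autoImplicit false
set_option linter.style.haveILetI false
universe u

open CategoryTheory CategoryTheory.Limits AlgebraicGeometry Opposite TopologicalSpace

namespace Groth.Agent.ModStalk

theorem pullSec_res {X Y : Scheme.{u}} (f : X ⟶ Y) (M : Y.Modules) {U U' : Y.Opens} {V V' : X.Opens}
    (h : V ≤ f ⁻¹ᵁ U) (h' : V' ≤ f ⁻¹ᵁ U') (hU : U' ≤ U) (hV : V' ≤ V) (m : Γ(M, U)) :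
    pullSec f M h' (M.presheaf.map (homOfLE hU).op m) =
      ((Scheme.Modules.pullback f).obj M).presheaf.map (homOfLE hV).op (pullSec f M h m) := by
  refine eq_of_germ_eq _ _ _ fun x hx => ?_
  rw [germ_pullSec, TopCat.Presheaf.germ_res_apply]
  exact ((TopCat.Presheaf.germ_res_apply ((Scheme.Modules.pullback f).obj M).presheaf (homOfLE hV) x hx _).trans
    (germ_pullSec f M h x (hV hx) m)).symm

theorem idealSect_smul {X : Scheme.{u}} (I : X.IdealSheafData) {U : X.Opens} (a : Γ(X, U))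
    (k : Γ(ClSub.idealMod I, U)) : OmegaSh.idealSect I U (a • k) = a * OmegaSh.idealSect I U k := by
  show (ClSub.idealModι I).app U (a • k) = _
  rw [(ClSub.idealModι I).app_smul]
  rfl

theorem idealSect_res {X : Scheme.{u}} (I : X.IdealSheafData) {U U' : X.Opens} (h : U' ≤ U)
    (k : Γ(ClSub.idealMod I, U)) : OmegaSh.idealSect I U' ((ClSub.idealMod I).presheaf.map (homOfLE h).op k) =
      X.presheaf.map (homOfLE h).op (OmegaSh.idealSect I U k) :=
  app_res (ClSub.idealModι I) h k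

theorem idealSect_injective {X : Scheme.{u}} (I : X.IdealSheafData) (U : X.Opens) :
    Function.Injective (OmegaSh.idealSect I U) := fun _ _ hab =>
  haveI : Mono (ClSub.idealModι I) := inferInstanceAs (Mono (kernel.ι (ClSub.toSubscheme I)))
  injective_app_of_mono _ (ClSub.idealModι I) U hab

variable {Z X S : Scheme.{u}} (f : X ⟶ S) (i : Z ⟶ X) [QuasiCompact i] (g : X ⟶ Z) (hgi : i ≫ g = 𝟙 Z)

/-- The part of an open lying over its trace on the immersed scheme. -/
abbrev retOpen (U : X.Opens) : X.Opens := U ⊓ g ⁻¹ᵁ (i ⁻¹ᵁ U)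

include hgi in
theorem le_retOpen (U : X.Opens) : i ⁻¹ᵁ U ≤ i ⁻¹ᵁ (retOpen i g U) := fun z hz =>
  ⟨hz, by
    show i (g (i z)) ∈ U
    rw [show g (i z) = z from (Scheme.Hom.comp_apply i g z).symm.trans (by rw [hgi]; rfl)]
    exact hz⟩

/-- A function minus the pullback of its restriction to the immersed scheme. -/
noncomputable def retDiff (U : X.Opens) : Γ(X, U) →+ Γ(X, retOpen i g U) :=
  (X.presheaf.map (homOfLE (inf_le_left (b := g ⁻¹ᵁ (i ⁻¹ᵁ U)))).op).hom.toAddMonoidHom -
    ((g.appLE (i ⁻¹ᵁ U) (retOpen i g U) inf_le_right).hom.toAddMonoidHom.comp (i.app U).hom.toAddMonoidHom)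

omit [QuasiCompact i] in
include hgi in
theorem appLE_ret {U : X.Opens} {W : X.Opens} {V : Z.Opens} (h₁ : W ≤ g ⁻¹ᵁ (i ⁻¹ᵁ U)) (h₂ : V ≤ i ⁻¹ᵁ W)
    (hVU : V ≤ i ⁻¹ᵁ U) (a : Γ(Z, i ⁻¹ᵁ U)) :
    i.appLE W V h₂ (g.appLE (i ⁻¹ᵁ U) W h₁ a) = Z.presheaf.map (homOfLE hVU).op a := by
  refine (congr($(Scheme.Hom.appLE_comp_appLE _ _ _ _ _ h₁ h₂) a)).trans ?_
  rw [OmegaSh.id_appLE_eq hgi _ hVU]

omit [QuasiCompact i] in
include hgi in
theorem app_retDiff (U : X.Opens) (s : Γ(X, U)) : i.app (retOpen i g U) (retDiff i g U s) = 0 := by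
  have hle : i ⁻¹ᵁ (retOpen i g U) ≤ i ⁻¹ᵁ U := fun z hz => hz.1
  show i.app (retOpen i g U) (X.presheaf.map (homOfLE inf_le_left).op s -
    g.appLE (i ⁻¹ᵁ U) (retOpen i g U) inf_le_right (i.app U s)) = 0
  rw [map_sub, sub_eq_zero]
  refine Eq.trans ?_ (Eq.symm ((show i.app (retOpen i g U) _ = i.appLE (retOpen i g U) _ le_rfl _ by
    rw [Scheme.Hom.app_eq_appLE]).trans (appLE_ret i g hgi inf_le_right le_rfl hle _)))
  exact ConcreteCategory.congr_hom (i.naturality (homOfLE (inf_le_left (b := g ⁻¹ᵁ (i ⁻¹ᵁ U)))).op) s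

noncomputable def retLift (U : X.Opens) (s : Γ(X, U)) : Γ(ClSub.idealMod i.ker, retOpen i g U) :=
  (exists_idealLift i (retDiff i g U s) (app_retDiff i g hgi U s)).choose

theorem idealSect_retLift (U : X.Opens) (s : Γ(X, U)) :
    OmegaSh.idealSect i.ker _ (retLift i g hgi U s) = retDiff i g U s :=
  congrArg (OmegaSh.fnSect X _) (exists_idealLift i (retDiff i g U s) (app_retDiff i g hgi U s)).choose_spec

/-- The class of a function minus the pullback of its restriction. -/
noncomputable def retClass (U : X.Opens) : Γ(X, U) →+ Γ(Omega.conormal i, i ⁻¹ᵁ U) where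
  toFun s := pullSec i (ClSub.idealMod i.ker) (le_retOpen i g hgi U) (retLift i g hgi U s)
  map_zero' := by
    rw [show retLift i g hgi U 0 = 0 from idealSect_injective _ _ (by
      rw [idealSect_retLift, map_zero, map_zero]), map_zero]
    rfl
  map_add' s t := by
    rw [show retLift i g hgi U (s + t) = retLift i g hgi U s + retLift i g hgi U t from idealSect_injective _ _ (by
      rw [idealSect_retLift, map_add, map_add, idealSect_retLift, idealSect_retLift]), map_add]
    rfl

theorem retClass_mul (U : X.Opens) (a b : Γ(X, U)) :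
    retClass i g hgi U (a * b) = i.app U a • retClass i g hgi U b + i.app U b • retClass i g hgi U a := by
  let W := retOpen i g U
  let a' : Γ(X, W) := X.presheaf.map (homOfLE inf_le_left).op a
  let b' : Γ(X, W) := g.appLE (i ⁻¹ᵁ U) W inf_le_right (i.app U b)
  have hk : retLift i g hgi U (a * b) = a' • retLift i g hgi U b + b' • retLift i g hgi U a := by
    apply idealSect_injective
    rw [map_add, idealSect_smul, idealSect_smul, idealSect_retLift, idealSect_retLift, idealSect_retLift]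
    show X.presheaf.map (homOfLE inf_le_left).op (a * b) - g.appLE (i ⁻¹ᵁ U) W inf_le_right (i.app U (a * b)) =
      a' * (X.presheaf.map (homOfLE inf_le_left).op b - b') +
        b' * (a' - g.appLE (i ⁻¹ᵁ U) W inf_le_right (i.app U a))
    rw [map_mul, map_mul, map_mul]
    show a' * X.presheaf.map (homOfLE inf_le_left).op b - g.appLE (i ⁻¹ᵁ U) W inf_le_right (i.app U a) * b' = _
    ring
  have ha : i.appLE W (i ⁻¹ᵁ U) (le_retOpen i g hgi U) a' = i.app U a := by
    refine (congr($(Scheme.Hom.map_appLE _ (le_retOpen i g hgi U) (homOfLE (inf_le_left : W ≤ U)).op) a)).trans ?_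
    rw [Scheme.Hom.app_eq_appLE]
  have hb : i.appLE W (i ⁻¹ᵁ U) (le_retOpen i g hgi U) b' = i.app U b := by
    refine (appLE_ret i g hgi inf_le_right (le_retOpen i g hgi U) le_rfl _).trans ?_
    exact congr($(CategoryTheory.Functor.map_id Z.presheaf (op (i ⁻¹ᵁ U))) (i.app U b))
  show pullSec i _ _ (retLift i g hgi U (a * b)) = _
  rw [hk, map_add, pullSec_smul, pullSec_smul, ha, hb]
  rfl

theorem retClass_map {U V : X.Opens} (h : V ≤ U) (s : Γ(X, U)) :
    retClass i g hgi V (X.presheaf.map (homOfLE h).op s) =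
      (Omega.conormal i).presheaf.map ((Opens.map i.base).map (homOfLE h)).op (retClass i g hgi U s) := by
  have hW : retOpen i g V ≤ retOpen i g U := fun z hz => ⟨h hz.1, h hz.2⟩
  have hk : retLift i g hgi V (X.presheaf.map (homOfLE h).op s) =
      (ClSub.idealMod i.ker).presheaf.map (homOfLE hW).op (retLift i g hgi U s) := by
    apply idealSect_injective
    rw [idealSect_res, idealSect_retLift, idealSect_retLift]
    show X.presheaf.map (homOfLE inf_le_left).op (X.presheaf.map (homOfLE h).op s) -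
        g.appLE (i ⁻¹ᵁ V) (retOpen i g V) inf_le_right (i.app V (X.presheaf.map (homOfLE h).op s)) =
      X.presheaf.map (homOfLE hW).op (X.presheaf.map (homOfLE inf_le_left).op s -
        g.appLE (i ⁻¹ᵁ U) (retOpen i g U) inf_le_right (i.app U s))
    rw [map_sub]
    congr 1
    · rw [← ConcreteCategory.comp_apply, ← ConcreteCategory.comp_apply, ← Functor.map_comp, ← Functor.map_comp]
      rfl
    · show (X.presheaf.map (homOfLE h).op ≫ i.app V ≫ g.appLE (i ⁻¹ᵁ V) _ inf_le_right) s =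
        (i.app U ≫ g.appLE (i ⁻¹ᵁ U) _ inf_le_right ≫ X.presheaf.map (homOfLE hW).op) s
      rw [← Category.assoc, Scheme.Hom.naturality, Category.assoc, Scheme.Hom.map_appLE, Scheme.Hom.appLE_map]
  show pullSec i _ _ (retLift i g hgi V _) = _
  rw [hk, pullSec_res i _ (le_retOpen i g hgi U) (le_retOpen i g hgi V) hW (fun z hz => h hz)]
  rfl

omit [QuasiCompact i] in
theorem appLE_app_app (O : S.Opens) (W : X.Opens) (h : W ≤ g ⁻¹ᵁ (i ⁻¹ᵁ (f ⁻¹ᵁ O))) (c : Γ(S, O)) :
    g.appLE (i ⁻¹ᵁ (f ⁻¹ᵁ O)) W h (i.app (f ⁻¹ᵁ O) (f.app O c)) = (g ≫ i ≫ f).appLE O W h c := by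
  have h1 := congr($(Scheme.Hom.appLE_comp_appLE g (i ≫ f) O ((i ≫ f) ⁻¹ᵁ O) W le_rfl h) c)
  rw [← Scheme.Hom.app_eq_appLE, Scheme.Hom.comp_app] at h1
  exact h1

/-- The retraction gives a derivation with values in the conormal sheaf. -/
noncomputable def retDer (hgS : g ≫ i ≫ f = f) :
    OmegaSh.Der f ((Scheme.Modules.pushforward i).obj (Omega.conormal i)) where
  d {U} := retClass i g hgi U.unop
  d_mul {U} a b := retClass_mul i g hgi U.unop a b
  d_map {U V} φ a := retClass_map i g hgi φ.unop.le a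
  d_app {O} c := by
    show retClass i g hgi (f ⁻¹ᵁ O.unop) (f.app O.unop c) = 0
    have h0 : retLift i g hgi (f ⁻¹ᵁ O.unop) (f.app O.unop c) = 0 := by
      apply idealSect_injective
      rw [idealSect_retLift, map_zero]
      show X.presheaf.map (homOfLE inf_le_left).op (f.app O.unop c) -
        g.appLE (i ⁻¹ᵁ (f ⁻¹ᵁ O.unop)) _ inf_le_right (i.app (f ⁻¹ᵁ O.unop) (f.app O.unop c)) = 0
      rw [appLE_app_app f i g O.unop _ inf_le_right c, OmegaSh.appLE_congr_hom hgS _ inf_le_left, sub_eq_zero]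
      rfl
    show pullSec i _ _ _ = 0
    rw [h0, map_zero]

theorem retClass_idealSect (U : X.Opens) (k : Γ(ClSub.idealMod i.ker, U)) :
    retClass i g hgi U (OmegaSh.idealSect i.ker U k) = OmegaSh.conormalSect i U k := by
  have hk : retLift i g hgi U (OmegaSh.idealSect i.ker U k) =
      (ClSub.idealMod i.ker).presheaf.map (homOfLE (inf_le_left : retOpen i g U ≤ U)).op k := by
    apply idealSect_injective
    rw [idealSect_res, idealSect_retLift]
    show X.presheaf.map (homOfLE inf_le_left).op (OmegaSh.idealSect i.ker U k) -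
      g.appLE _ _ inf_le_right (i.app U (OmegaSh.idealSect i.ker U k)) = _
    rw [app_idealSect_eq_zero, map_zero, sub_zero]
  show pullSec i _ _ (retLift i g hgi U _) = _
  rw [hk, pullSec_res i _ (le_refl (i ⁻¹ᵁ U)) (le_retOpen i g hgi U) inf_le_left le_rfl]
  show ((Scheme.Modules.pullback i).obj _).presheaf.map (homOfLE _).op
    (((Scheme.Modules.pullback i).obj _).presheaf.map (homOfLE _).op _) = _
  rw [res_res, show (homOfLE (le_refl (i ⁻¹ᵁ U))).op = 𝟙 _ from rfl, CategoryTheory.Functor.map_id]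
  rfl

omit [QuasiCompact i] in
include hgi in
theorem le_preimage_ret (W : Z.Opens) : W ≤ i ⁻¹ᵁ (g ⁻¹ᵁ W) := by
  rw [← Scheme.Hom.comp_preimage, hgi]
  rfl

variable {ΩX : X.Modules}

omit [QuasiCompact i] in
include hgi in
theorem appLE_retraction (W : Z.Opens) (a : Γ(Z, W)) :
    i.appLE (g ⁻¹ᵁ W) W (le_preimage_ret i g hgi W) (g.app W a) = a := by
  rw [Scheme.Hom.app_eq_appLE]
  refine (congr($(Scheme.Hom.appLE_comp_appLE _ _ _ _ _ le_rfl (le_preimage_ret i g hgi W)) a)).trans ?_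
  rw [OmegaSh.id_appLE_eq_id hgi]
  rfl

/-- Pulling back along the retraction gives a derivation downstairs into the pullback. -/
noncomputable def sectDer (hgS : g ≫ i ≫ f = f) (dX : OmegaSh.Der f ΩX) :
    OmegaSh.Der (i ≫ f) ((Scheme.Modules.pullback i).obj ΩX) where
  d {W} := (pullSec i ΩX (le_preimage_ret i g hgi W.unop)).comp
    ((dX.app (g ⁻¹ᵁ W.unop)).comp (g.app W.unop).hom.toAddMonoidHom)
  d_mul {W} a b := by
    show pullSec i ΩX _ (dX.app _ (g.app W.unop (a * b))) =
      (show Γ(Z, W.unop) from a) • pullSec i ΩX _ (dX.app _ (g.app W.unop b)) +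
        (show Γ(Z, W.unop) from b) • pullSec i ΩX _ (dX.app _ (g.app W.unop a))
    rw [map_mul]
    refine (congrArg _ (dX.d_mul _ _)).trans ((map_add _ _ _).trans ?_)
    exact congrArg₂ (· + ·) ((pullSec_smul i ΩX _ _ _).trans (congrArg (· • _) (appLE_retraction i g hgi _ a)))
      ((pullSec_smul i ΩX _ _ _).trans (congrArg (· • _) (appLE_retraction i g hgi _ b)))
  d_map {W W'} φ a := by
    show pullSec i ΩX _ (dX.app _ (g.app W'.unop (Z.presheaf.map φ a))) =
      ((Scheme.Modules.pullback i).obj ΩX).presheaf.map φ (pullSec i ΩX _ (dX.app _ (g.app W.unop a)))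
    rw [show g.app W'.unop (Z.presheaf.map φ a) = X.presheaf.map ((Opens.map g.base).map φ.unop).op
      (g.app W.unop a) from ConcreteCategory.congr_hom (g.naturality φ) a]
    refine (congrArg _ (dX.d_map ((Opens.map g.base).map φ.unop).op (g.app W.unop a))).trans ?_
    exact pullSec_res i ΩX _ _ (fun z hz => φ.unop.le hz) φ.unop.le _
  d_app {O} c := by
    show pullSec i ΩX _ (dX.app (g ⁻¹ᵁ ((i ≫ f) ⁻¹ᵁ O.unop)) (g.app _ ((i ≫ f).app O.unop c))) = 0
    have hle : g ⁻¹ᵁ ((i ≫ f) ⁻¹ᵁ O.unop) ≤ f ⁻¹ᵁ O.unop := by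
      rw [← Scheme.Hom.comp_preimage, hgS]
    have he : g.app _ ((i ≫ f).app O.unop c) = X.presheaf.map (homOfLE hle).op (f.app O.unop c) := by
      show ((i ≫ f).app O.unop ≫ g.app _) c = (f.app O.unop ≫ _) c
      rw [← Scheme.Hom.comp_app, Scheme.Hom.congr_app hgS]
      rfl
    rw [he]
    refine (congrArg _ (dX.d_map (homOfLE hle).op _)).trans ?_
    have h0 : dX.app (f ⁻¹ᵁ O.unop) (f.app O.unop c) = 0 := dX.d_app c
    exact ((congrArg (fun v => pullSec i ΩX _ (ΩX.val.map (homOfLE hle).op v)) h0).trans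
      ((congrArg _ (map_zero _)).trans (map_zero _)))

end Groth.Agent.ModStalk
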