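import Groth.Agent.ModStalk.OmegaExact
import Groth.Agent.ModStalk.OmegaSplit

/-! Conormal classes over affine opens, and affine squares for two immersions. -/

set_option autoImplicit false
set_option linter.style.haveILetI false
universe u

open CategoryTheory CategoryTheory.Limits AlgebraicGeometry Opposite TopologicalSpace
open scoped TensorProduct

namespace Groth.Agent.ModStalk

/-- Every section of the conormal sheaf over a good affine open is the class of an element of the ideal. -/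
theorem exists_class {Z X : Scheme.{u}} (i : Z ⟶ X) [QuasiCompact i] {U : X.Opens} (hU : IsAffineOpen U)
    (hW : IsAffineOpen (i ⁻¹ᵁ U)) (hs : Function.Surjective (i.app U)) (a : Γ(Omega.conormal i, i ⁻¹ᵁ U)) :
    ∃ k : Γ(ClSub.idealMod i.ker, U), a = pullSec i (ClSub.idealMod i.ker) (le_refl (i ⁻¹ᵁ U)) k := by
  have : (ClSub.idealMod i.ker).IsQuasicoherent := isQuasicoherent_idealMod _
  obtain ⟨e, he⟩ := exists_sectionsEquiv i (ClSub.idealMod i.ker) hU hW le_rfl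
  letI := (i.appLE U (i ⁻¹ᵁ U) le_rfl).hom.toAlgebra
  obtain ⟨t, rfl⟩ := e.surjective a
  induction t using TensorProduct.induction_on with
  | zero => exact ⟨0, by rw [map_zero, map_zero]⟩
  | add t t' h h' =>
    obtain ⟨k, hk⟩ := h
    obtain ⟨k', hk'⟩ := h'
    exact ⟨k + k', by rw [map_add, map_add, hk, hk']⟩
  | tmul b m =>
    obtain ⟨r, rfl⟩ := hs b
    refine ⟨r • m, ?_⟩
    rw [show i.app U r = r • (1 : Γ(Z, i ⁻¹ᵁ U)) by
      rw [Algebra.smul_def, mul_one]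
      exact congr($(Scheme.Hom.app_eq_appLE i) r), TensorProduct.smul_tmul, he]

/-- A class vanishes only for elements of the square of the ideal. -/
theorem idealSect_mem_sq_of_class_eq_zero {Z X : Scheme.{u}} (i : Z ⟶ X) [QuasiCompact i] {U : X.Opens}
    (hU : IsAffineOpen U) (hW : IsAffineOpen (i ⁻¹ᵁ U)) (hs : Function.Surjective (i.app U))
    (k : Γ(ClSub.idealMod i.ker, U))
    (hk : pullSec i (ClSub.idealMod i.ker) (le_refl (i ⁻¹ᵁ U)) k = 0) :
    OmegaSh.idealSect i.ker U k ∈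
      RingHom.ker (i.appLE U (i ⁻¹ᵁ U) le_rfl).hom * RingHom.ker (i.appLE U (i ⁻¹ᵁ U) le_rfl).hom := by
  have : (ClSub.idealMod i.ker).IsQuasicoherent := isQuasicoherent_idealMod _
  obtain ⟨e, he⟩ := exists_sectionsEquiv i (ClSub.idealMod i.ker) hU hW le_rfl
  letI := (i.appLE U (i ⁻¹ᵁ U) le_rfl).hom.toAlgebra
  let M := Γ(ClSub.idealMod i.ker, U)
  let I := RingHom.ker (algebraMap Γ(X, U) Γ(Z, i ⁻¹ᵁ U))
  have h1 : (1 : Γ(Z, i ⁻¹ᵁ U)) ⊗ₜ[Γ(X, U)] k = 0 := e.injective (by rw [he, hk, map_zero])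
  have hsurj : Function.Surjective (Algebra.linearMap Γ(X, U) Γ(Z, i ⁻¹ᵁ U)) := fun c => by
    obtain ⟨r, hr⟩ := hs c
    refine ⟨r, ?_⟩
    rw [Scheme.Hom.app_eq_appLE] at hr
    exact hr
  have hex : Function.Exact (Submodule.subtype (I : Submodule Γ(X, U) Γ(X, U)))
      (Algebra.linearMap Γ(X, U) Γ(Z, i ⁻¹ᵁ U)) := fun b =>
    ⟨fun hb => ⟨⟨b, hb⟩, rfl⟩, fun ⟨t, ht⟩ => ht ▸ t.2⟩
  obtain ⟨t, ht⟩ := (rTensor_exact M hex hsurj ((1 : Γ(X, U)) ⊗ₜ[Γ(X, U)] k)).mp (by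
    rw [LinearMap.rTensor_tmul, Algebra.linearMap_apply, map_one]
    exact h1)
  have h2 : OmegaSh.idealSect i.ker U
      (TensorProduct.lid Γ(X, U) M ((Submodule.subtype (I : Submodule Γ(X, U) Γ(X, U))).rTensor _ t)) ∈ I * I := by
    clear ht
    induction t using TensorProduct.induction_on with
    | zero => simp
    | add v w hv hw => rw [map_add, map_add, map_add]; exact add_mem hv hw
    | tmul r m =>
      rw [LinearMap.rTensor_tmul, TensorProduct.lid_tmul, idealSect_smul]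
      refine Ideal.mul_mem_mul r.2 (RingHom.mem_ker.mpr ?_)
      have h3 := app_idealSect_eq_zero i U m
      rw [Scheme.Hom.app_eq_appLE] at h3
      exact h3
  rw [ht, TensorProduct.lid_tmul, one_smul] at h2
  exact h2

variable {Z X Y : Scheme.{u}}

/-- Affine opens adapted to a pair of compatible immersions. -/
theorem exists_square_affines (p : X ⟶ Y) (i : Z ⟶ X) (j : Z ⟶ Y) [IsImmersion i] [IsImmersion j]
    (hij : i ≫ p = j) (z : Z) :
    ∃ (V : Y.Opens) (U : X.Opens), IsAffineOpen V ∧ IsAffineOpen U ∧ U ≤ p ⁻¹ᵁ V ∧ i z ∈ U ∧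
      i ⁻¹ᵁ U = j ⁻¹ᵁ V ∧ IsAffineOpen (i ⁻¹ᵁ U) ∧ Function.Surjective (i.app U) ∧
      IsAffineOpen (j ⁻¹ᵁ V) ∧ Function.Surjective (j.app V) := by
  have hpre : ∀ V : Y.Opens, i ⁻¹ᵁ (p ⁻¹ᵁ V) = j ⁻¹ᵁ V := fun V => by rw [← hij]; rfl
  have hjz : j z = p (i z) := by rw [← hij]; rfl
  obtain ⟨V₀, hV₀, hzV₀, hV₀c, -, -⟩ := exists_affine_immersion j z j.coborderRange
    (subset_coborder (Set.mem_range_self z))
  obtain ⟨U₀, hU₀, hzU₀, hU₀p, -, -⟩ := exists_affine_immersion i z (p ⁻¹ᵁ V₀ ⊓ i.coborderRange)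
    ⟨show p (i z) ∈ V₀ from hjz ▸ hzV₀, subset_coborder (Set.mem_range_self z)⟩
  obtain ⟨O, hO, hOeq⟩ := j.isEmbedding.isInducing.isOpen_iff.mp (i ⁻¹ᵁ U₀).2
  have hzO : j z ∈ O := by
    have : z ∈ j ⁻¹' O := hOeq ▸ hzU₀
    exact this
  obtain ⟨a, haO, hza⟩ := hV₀.exists_basicOpen_le (V := ⟨O, hO⟩) ⟨j z, hzO⟩ hzV₀
  let V := Y.basicOpen a
  have hV : IsAffineOpen V := hV₀.basicOpen a
  have hVV : V ≤ V₀ := Y.basicOpen_le a
  have hle0 : U₀ ≤ p ⁻¹ᵁ V₀ := fun x hx => (hU₀p hx).1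
  let U := U₀ ⊓ p ⁻¹ᵁ V
  have hU : IsAffineOpen U := by
    have hh : U = X.basicOpen (p.appLE V₀ U₀ hle0 a) := by
      rw [Scheme.Hom.appLE, ConcreteCategory.comp_apply, Scheme.basicOpen_res, ← Scheme.preimage_basicOpen]
      first | rfl | skip
    rw [hh]
    exact hU₀.basicOpen _
  obtain ⟨hWi, hsi⟩ := affine_immersion_of_le i hU fun x hx => (hU₀p hx.1).2
  obtain ⟨hWj, hsj⟩ := affine_immersion_of_le j hV fun y hy => hV₀c (hVV hy)
  have hUV : U ≤ p ⁻¹ᵁ V := inf_le_right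
  have hWW : i ⁻¹ᵁ U = j ⁻¹ᵁ V := le_antisymm (fun x hx => (hpre V).le hx.2) fun x hx =>
    ⟨by
      have : x ∈ j ⁻¹' O := haO hx
      rw [hOeq] at this
      exact this, (hpre V).ge hx⟩
  exact ⟨V, U, hV, hU, hUV, ⟨hzU₀, show p (i z) ∈ V from hjz ▸ hza⟩, hWW, hWi, hsi, hWj, hsj⟩

/-- If `A → C` is surjective and `A → B` is formally smooth, the conormal module of `A → C` injects into that
of `B → C`. -/
theorem mem_sq_of_formallySmooth {A B C : Type u} [CommRing A] [CommRing B] [CommRing C] [Algebra A B]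
    [Algebra A C] [Algebra B C] [IsScalarTower A B C] [Algebra.FormallySmooth A B]
    (hA : Function.Surjective (algebraMap A C)) (a : A)
    (h : algebraMap A B a ∈ RingHom.ker (algebraMap B C) * RingHom.ker (algebraMap B C)) :
    a ∈ RingHom.ker (algebraMap A C) * RingHom.ker (algebraMap A C) := by
  let J := RingHom.ker (algebraMap A C)
  let g : A ⧸ J * J →ₐ[A] C := Ideal.Quotient.liftₐ (J * J) (Algebra.ofId A C) fun x hx => Ideal.mul_le_right hx
  have hg : Function.Surjective g := fun c => by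
    obtain ⟨x, rfl⟩ := hA c
    exact ⟨Ideal.Quotient.mk _ x, rfl⟩
  have h0 : ∀ u v, g u = 0 → g v = 0 → u * v = 0 := fun u v hu hv => by
    obtain ⟨x, rfl⟩ := Ideal.Quotient.mk_surjective u
    obtain ⟨y, rfl⟩ := Ideal.Quotient.mk_surjective v
    rw [← map_mul, Ideal.Quotient.eq_zero_iff_mem]
    exact Ideal.mul_mem_mul hu hv
  have hnil : IsNilpotent (RingHom.ker g) := ⟨2, by
    rw [pow_two, Ideal.zero_eq_bot, eq_bot_iff, Ideal.mul_le]
    exact fun u hu v hv => h0 u v hu hv⟩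
  let s := Algebra.FormallySmooth.liftOfSurjective (IsScalarTower.toAlgHom A B C) g hg hnil
  have hs : ∀ b, g (s b) = algebraMap B C b :=
    Algebra.FormallySmooth.liftOfSurjective_apply (IsScalarTower.toAlgHom A B C) g hg hnil
  have h1 : s (algebraMap A B a) = 0 := by
    refine Submodule.mul_induction_on h (fun u hu v hv => ?_) (fun u v hu hv => by rw [map_add, hu, hv, add_zero])
    rw [map_mul]
    exact h0 _ _ ((hs u).trans hu) ((hs v).trans hv)
  rw [s.commutes] at h1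
  exact Ideal.Quotient.eq_zero_iff_mem.mp h1

end Groth.Agent.ModStalk
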