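import Groth.Agent.ModStalk.PushAss
import Groth.Agent.ZClosure.Closed
import Groth.Agent.IdealDepth.Basic
import Mathlib.RingTheory.Ideal.Height

/-! Isomorphisms detected outside points of depth two. -/

set_option autoImplicit false
universe u

open CategoryTheory CategoryTheory.Limits AlgebraicGeometry Opposite TopologicalSpace

namespace Groth.Agent.ModStalk

variable {X : Scheme.{u}}

section alg

variable {R : Type u} [CommRing R] [IsLocalRing R] [IsNoetherianRing R] {M N : Type u} [AddCommGroup M]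
  [Module R M] [Module.Finite R M] [AddCommGroup N] [Module R N]

open RingTheory.Sequence in
theorem mem_range_of_maximal_smul (L : M →ₗ[R] N) (hL : Function.Injective L)
    (hd : (2 : ℕ∞) ≤ LocCoh.depth R M)
    (hN : ∀ n : N, (∀ c ∈ IsLocalRing.maximalIdeal R, c • n = 0) → n = 0) (n : N)
    (h : ∀ c ∈ IsLocalRing.maximalIdeal R, c • n ∈ LinearMap.range L) : n ∈ LinearMap.range L := by
  obtain ⟨rs, ⟨hreg, hmem⟩, hlen⟩ := IdealDepth.natCast_le_iff_exists.mp
    (show ((2 : ℕ) : ℕ∞) ≤ LocCoh.idealDepth (IsLocalRing.maximalIdeal R) M from hd)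
  obtain ⟨a, b, rfl⟩ := List.length_eq_two.mp hlen
  obtain ⟨ha, hb⟩ := (isWeaklyRegular_cons_iff M a [b]).mp hreg
  obtain ⟨hb, -⟩ := (isWeaklyRegular_cons_iff _ b []).mp hb
  obtain ⟨f₁, h₁⟩ := h a (hmem a (by simp))
  obtain ⟨f₂, h₂⟩ := h b (hmem b (by simp))
  have e : b • f₁ = a • f₂ := hL (by rw [map_smul, map_smul, h₁, h₂, smul_comm])
  have h0 : b • (Submodule.Quotient.mk f₁ : QuotSMulTop a M) = 0 := by
    rw [← Submodule.Quotient.mk_smul, Submodule.Quotient.mk_eq_zero, e]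
    exact Submodule.smul_mem_pointwise_smul f₂ a ⊤ trivial
  obtain ⟨f₀, -, hf₀⟩ := (Submodule.Quotient.mk_eq_zero _).mp (hb.right_eq_zero_of_smul h0)
  change a • f₀ = f₁ at hf₀
  refine ⟨f₀, (sub_eq_zero.mp (hN _ fun c hc => ?_)).symm⟩
  obtain ⟨f₃, h₃⟩ := h c hc
  have e3 : f₃ = c • f₀ := ha (hL (by
    show L (a • f₃) = L (a • c • f₀)
    rw [map_smul, h₃, smul_comm, ← h₁, ← map_smul, ← hf₀, smul_comm c a f₀]))
  rw [smul_sub, ← h₃, e3, map_smul, sub_self]

theorem mem_range_of_maximal_pow_smul (L : M →ₗ[R] N) (hL : Function.Injective L)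
    (hd : (2 : ℕ∞) ≤ LocCoh.depth R M)
    (hN : ∀ n : N, (∀ c ∈ IsLocalRing.maximalIdeal R, c • n = 0) → n = 0) (k : ℕ) :
    ∀ n : N, (∀ c ∈ IsLocalRing.maximalIdeal R ^ k, c • n ∈ LinearMap.range L) → n ∈ LinearMap.range L := by
  induction k with
  | zero => intro n h; simpa using h 1 (by simp)
  | succ k ih =>
    intro n h
    refine ih n fun e he => mem_range_of_maximal_smul L hL hd hN _ fun c hc => ?_
    rw [smul_smul]
    exact h _ (by rw [pow_succ']; exact Ideal.mul_mem_mul hc he)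

end alg

theorem not_isWeakAssPoint_of_depth (M : X.Modules) (x : X) [IsNoetherianRing (X.presheaf.stalk x)]
    [Module.Finite (X.presheaf.stalk x) (M.presheaf.stalk x)]
    (hd : (1 : ℕ∞) ≤ LocCoh.depth (X.presheaf.stalk x) (M.presheaf.stalk x)) :
    ¬ Curv2.IsWeakAssPoint M x := fun h =>
  IdealDepth.one_le_iff_associatedPrimes.mp hd _ ((isAssPoint_iff_isWeakAssPoint M x).mpr h) le_rfl

/-- Generization induction on a locally Noetherian scheme. -/
theorem generization_induction [IsLocallyNoetherian X] {P : X → Prop}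
    (h : ∀ x, (∀ y, y ⤳ x → y ≠ x → P y) → P x) (x : X) : P x := by
  obtain ⟨_, ⟨V, hV, rfl⟩, hxV, -⟩ :=
    X.isBasis_affineOpens.exists_subset_of_mem_open (Set.mem_univ x) isOpen_univ
  have : IsNoetherianRing Γ(X, V) := IsLocallyNoetherian.component_noetherian ⟨V, hV⟩
  suffices ∀ (n : ℕ∞) (z : V), (hV.primeIdealOf z).asIdeal.height = n → P z.1 from this _ ⟨x, hxV⟩ rfl
  intro n
  induction n using WellFoundedLT.induction with
  | _ n ih =>
    intro z hz
    refine h z.1 fun y hyz hne => ih _ ?_ ⟨y, hyz.mem_open V.isOpen z.2⟩ rfl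
    rw [← hz]
    exact Ideal.height_strict_mono_of_isPrime ((primeIdeal_le_of_specializes hV
      (x := z) (y := ⟨y, hyz.mem_open V.isOpen z.2⟩) hyz).lt_of_ne fun he =>
        hne (eq_of_primeIdeal_eq hV (x := z) (y := ⟨y, hyz.mem_open V.isOpen z.2⟩) he))

theorem germ_app (F G : X.Modules) (φ : F ⟶ G) {V : X.Opens} (y : X) (hy : y ∈ V) (c : Γ(X, V))
    (a : Γ(F, V)) : RefHull.stalkMapₗ φ y (F.presheaf.germ V y hy (c • a)) =
      G.presheaf.germ V y hy (c • φ.app V a) := by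
  rw [RefHull.stalkMapₗ_germ, φ.app_smul]

theorem stalk_bijective_of_depth [IsLocallyNoetherian X] {F G : X.Modules} [F.IsQuasicoherent]
    [G.IsQuasicoherent] [SheafOfModules.IsFiniteType (R := X.ringCatSheaf) F] (φ : F ⟶ G) (x : X)
    (hd : (2 : ℕ∞) ≤ LocCoh.depth (X.presheaf.stalk x) (F.presheaf.stalk x))
    (hass : ¬ Curv2.IsAssPoint G x)
    (hgen : ∀ y, y ⤳ x → y ≠ x → Function.Bijective (RefHull.stalkMapₗ φ y)) :
    Function.Bijective (RefHull.stalkMapₗ φ x) := by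
  classical
  obtain ⟨_, ⟨V, hV, rfl⟩, hxV, -⟩ :=
    X.isBasis_affineOpens.exists_subset_of_mem_open (Set.mem_univ x) isOpen_univ
  have : IsNoetherianRing Γ(X, V) := IsLocallyNoetherian.component_noetherian ⟨V, hV⟩
  have hinj : Function.Injective (RefHull.stalkMapₗ φ x) := by
    refine (injective_iff_map_eq_zero _).mpr fun m hm => ?_
    obtain ⟨c, s, hc, hs⟩ := exists_smul_eq_germ F hV x hxV m
    by_contra hne
    have h0 : G.presheaf.germ V x hxV (φ.app V s) = 0 := by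
      rw [← RefHull.stalkMapₗ_germ, ← hs, map_smul, hm, smul_zero]
    obtain ⟨d, hd', hd0⟩ := exists_smul_eq_zero_of_germ G hV x hxV _ h0
    refine not_isWeakAssPoint_of_depth F x ((le_of_lt (by norm_num)).trans hd)
      ((isWeakAssPoint_iff_affine F hV x hxV).mpr ⟨d • s, fun h1 => hne ?_, fun y hy hyx hyne => ?_⟩)
    · rw [germ_smul, ← hs] at h1
      exact ((Scheme.mem_basicOpen _ _ _ hxV).mp hc).smul_eq_zero.mp
        (((Scheme.mem_basicOpen _ _ _ hxV).mp hd').smul_eq_zero.mp h1)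
    · apply (hgen y hyx hyne).1
      rw [germ_app, hd0, map_zero, map_zero]
  refine ⟨hinj, fun m => ?_⟩
  obtain ⟨c, t, hc, ht⟩ := exists_smul_eq_germ G hV x hxV m
  suffices h : G.presheaf.germ V x hxV t ∈ LinearMap.range (RefHull.stalkMapₗ φ x) by
    obtain ⟨v, hv⟩ := h
    refine ⟨((Scheme.mem_basicOpen _ _ _ hxV).mp hc).unit⁻¹.val • v, ?_⟩
    rw [map_smul, hv, ← ht, smul_smul, IsUnit.val_inv_mul, one_smul]
  let J : Ideal (X.presheaf.stalk x) :=
    (LinearMap.range (RefHull.stalkMapₗ φ x)).comap (LinearMap.toSpanSingleton _ _ (G.presheaf.germ V x hxV t))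
  suffices hJ : IsLocalRing.maximalIdeal (X.presheaf.stalk x) ≤ J.radical by
    obtain ⟨k, hk⟩ := Ideal.exists_pow_le_of_le_radical_of_fg hJ (IsNoetherian.noetherian _)
    refine mem_range_of_maximal_pow_smul _ hinj hd (fun n hn => ?_) k _ fun e he => hk he
    by_contra hn0
    refine hass ((isAssPoint_iff_isWeakAssPoint G x).mpr ⟨n, le_antisymm (IsLocalRing.le_maximalIdeal ?_) ?_⟩)
    · rw [Ne, Ideal.radical_eq_top]
      intro htop
      exact hn0 ((one_smul (X.presheaf.stalk x) n).symm.trans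
        (LinearMap.mem_ker.mp (show (1 : X.presheaf.stalk x) ∈ LinearMap.ker _ from htop.ge Submodule.mem_top)))
    · exact fun e he => Ideal.le_radical (hn e he)
  intro e he
  letI := TopCat.Presheaf.algebra_section_stalk X.presheaf (⟨x, hxV⟩ : V)
  haveI := hV.isLocalization_stalk ⟨x, hxV⟩
  obtain ⟨⟨g, u⟩, hgu⟩ := IsLocalization.surj (hV.primeIdealOf ⟨x, hxV⟩).asIdeal.primeCompl e
  have hu : IsUnit (X.presheaf.germ V x hxV u.1) :=
    (Scheme.mem_basicOpen _ _ _ hxV).mp ((germ_mem_primeIdeal_iff hV ⟨x, hxV⟩ u.1).mp u.2)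
  have hgQ : g ∈ (hV.primeIdealOf ⟨x, hxV⟩).asIdeal := by
    by_contra hg
    refine (IsLocalRing.mem_maximalIdeal _).mp he (isUnit_of_mul_isUnit_left (y := X.presheaf.germ V x hxV u.1) ?_)
    show IsUnit (e * algebraMap Γ(X, V) (X.presheaf.stalk x) u.1)
    rw [hgu]
    exact (Scheme.mem_basicOpen _ _ _ hxV).mp ((germ_mem_primeIdeal_iff hV ⟨x, hxV⟩ g).mp hg)
  suffices X.presheaf.germ V x hxV g ∈ J.radical by
    have h2 : e * X.presheaf.germ V x hxV u.1 ∈ J.radical := by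
      show e * algebraMap Γ(X, V) (X.presheaf.stalk x) u.1 ∈ _
      rw [hgu]; exact this
    have := Ideal.mul_mem_right hu.unit⁻¹.val _ h2
    rwa [mul_assoc, IsUnit.mul_val_inv, mul_one] at this
  let L : Γ(F, V) →ₗ[Γ(X, V)] Γ(G, V) :=
    { toFun := φ.app V, map_add' := map_add _, map_smul' := fun r a => φ.app_smul r a }
  let J0 : Ideal Γ(X, V) := (LinearMap.range L).comap (LinearMap.toSpanSingleton _ _ t)
  let S : Submonoid Γ(X, V) := (hV.primeIdealOf ⟨x, hxV⟩).asIdeal.primeCompl ⊔ Submonoid.powers g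
  by_contra hrad
  have hdisj : Disjoint (J0 : Set Γ(X, V)) S := Set.disjoint_left.mpr fun a ha haS => by
    obtain ⟨d, hd', _, ⟨k, rfl⟩, rfl⟩ := Submonoid.mem_sup.mp haS
    obtain ⟨s, hs⟩ := ha
    have hdu : IsUnit (X.presheaf.germ V x hxV d) :=
      (Scheme.mem_basicOpen _ _ _ hxV).mp ((germ_mem_primeIdeal_iff hV ⟨x, hxV⟩ d).mp hd')
    refine hrad ⟨k, ?_⟩
    show X.presheaf.germ V x hxV g ^ k • G.presheaf.germ V x hxV t ∈ LinearMap.range (RefHull.stalkMapₗ φ x)
    refine ⟨hdu.unit⁻¹.val • F.presheaf.germ V x hxV s, ?_⟩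
    rw [map_smul, RefHull.stalkMapₗ_germ, show φ.app V s = (d * g ^ k) • t from hs, germ_smul, map_mul, map_pow,
      smul_smul, ← mul_assoc, IsUnit.val_inv_mul, one_mul]
  obtain ⟨P, hP, hJP, hPS⟩ := Ideal.exists_le_prime_disjoint J0 S hdisj
  have hPx : P ≤ (hV.primeIdealOf ⟨x, hxV⟩).asIdeal := fun a ha => by_contra fun hax =>
    Set.disjoint_left.mp hPS ha (Submonoid.mem_sup_left hax)
  obtain ⟨y, rfl⟩ := exists_point hV P
  have hne : y.1 ≠ x := fun he' => by
    refine Set.disjoint_left.mp hPS (?_ : g ∈ _) (Submonoid.mem_sup_right ⟨1, pow_one g⟩)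
    have : y = ⟨x, hxV⟩ := Subtype.ext he'
    rw [this]; exact hgQ
  obtain ⟨v, hv⟩ := (hgen y.1 (specializes_of_primeIdeal_le hV hPx) hne).2 (G.presheaf.germ V y.1 y.2 t)
  obtain ⟨c', s, hc', hs⟩ := exists_smul_eq_germ F hV y.1 y.2 v
  have h0 : G.presheaf.germ V y.1 y.2 (c' • t - φ.app V s) = 0 := by
    rw [map_sub, germ_smul, ← hv, ← map_smul, hs, RefHull.stalkMapₗ_germ, sub_self]
  obtain ⟨d, hd', hd0⟩ := exists_smul_eq_zero_of_germ G hV y.1 y.2 _ h0
  rw [smul_sub, sub_eq_zero, smul_smul] at hd0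
  refine (hP.mul_notMem ((germ_mem_primeIdeal_iff hV y d).mpr hd') ((germ_mem_primeIdeal_iff hV y c').mpr hc'))
    (hJP ⟨d • s, (φ.app_smul d s).trans hd0.symm⟩)

/-- A morphism to a module without associated points in the bad set is an isomorphism. -/
theorem isIso_of_depth [IsLocallyNoetherian X] {F G : X.Modules} (φ : F ⟶ G) (hF : Coh.IsCoh F)
    (hG : Coh.IsQCoh G)
    (h : ∀ x : X, Function.Bijective (RefHull.stalkMapₗ φ x) ∨
      ((2 : ℕ∞) ≤ LocCoh.depth (X.presheaf.stalk x) (F.presheaf.stalk x) ∧ ¬ Curv2.IsAssPoint G x)) :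
    IsIso φ := by
  have := hF.1
  have := hF.2
  have := hG
  refine ZClosure.isIso_of_stalk_bijective φ fun x => generization_induction (P := fun z => Function.Bijective (RefHull.stalkMapₗ φ z)) (fun y hy => ?_) x
  rcases h y with h | ⟨hd, hass⟩
  · exact h
  · exact stalk_bijective_of_depth φ y hd hass hy

end Groth.Agent.ModStalk
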