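import Groth.Agent.ModStalk.PullbackSections

/-! Finite type descends along quasi-compact faithfully flat morphisms. -/

set_option autoImplicit false
set_option linter.style.haveILetI false
universe u

open CategoryTheory CategoryTheory.Limits AlgebraicGeometry Opposite TopologicalSpace
open scoped TensorProduct

namespace Groth.Agent.ModStalk

variable {X Y : Scheme.{u}} (f : X ⟶ Y) (M : Y.Modules)

/-- Generation of a stalk may be checked after a flat pullback. -/
theorem span_eq_top_of_pullGerm [Flat f] (x : X) (S : Set (M.presheaf.stalk (f x)))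
    (h : Submodule.span (X.presheaf.stalk x) (pullGerm f M x '' S) = ⊤) :
    Submodule.span (Y.presheaf.stalk (f x)) S = ⊤ := by
  obtain ⟨e, he⟩ := exists_pullStalk_equiv f M x
  letI := (f.stalkMap x).hom.toAlgebra
  have : IsLocalHom (algebraMap (Y.presheaf.stalk (f x)) (X.presheaf.stalk x)) :=
    inferInstanceAs (IsLocalHom (f.stalkMap x).hom)
  have : Module.Flat (Y.presheaf.stalk (f x)) (X.presheaf.stalk x) := Flat.stalkMap f x
  have : Module.FaithfullyFlat (Y.presheaf.stalk (f x)) (X.presheaf.stalk x) :=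
    Module.FaithfullyFlat.of_flat_of_isLocalHom
  let N := Submodule.span (Y.presheaf.stalk (f x)) S
  let q := N.mkQ.baseChange (X.presheaf.stalk x)
  refine Submodule.eq_top_iff'.mpr fun v => ?_
  have hzero : ∀ w ∈ Submodule.span (X.presheaf.stalk x) (pullGerm f M x '' S), q (e w) = 0 := by
    intro w hw
    induction hw using Submodule.span_induction with
    | mem w hw =>
      obtain ⟨s, hs, rfl⟩ := hw
      rw [he, LinearMap.baseChange_tmul, Submodule.mkQ_apply,
        (Submodule.Quotient.mk_eq_zero N).mpr (Submodule.subset_span hs), TensorProduct.tmul_zero]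
    | zero => simp only [map_zero]
    | add a b _ _ ha hb => simp only [map_add, ha, hb, add_zero]
    | smul r a _ ha => simp only [map_smul, ha, smul_zero]
  have h1 := hzero (pullGerm f M x v) (h ▸ Submodule.mem_top)
  rw [he, LinearMap.baseChange_tmul] at h1
  exact (Submodule.Quotient.mk_eq_zero N).mp (Module.FaithfullyFlat.tensorProduct_mk_injective
    (A := Y.presheaf.stalk (f x)) (B := X.presheaf.stalk x) (M.presheaf.stalk (f x) ⧸ N)
    (h1.trans (map_zero _).symm))

/-- Finite generation of sections descends along quasi-compact faithfully flat morphisms. -/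
theorem finite_sections_descent [Flat f] [Surjective f] [QuasiCompact f] [M.IsQuasicoherent]
    [SheafOfModules.IsFiniteType (R := X.ringCatSheaf) ((Scheme.Modules.pullback f).obj M)]
    {U : Y.Opens} (hU : IsAffineOpen U) : Module.Finite Γ(Y, U) Γ(M, U) := by
  classical
  let N := (Scheme.Modules.pullback f).obj M
  have : N.IsQuasicoherent := isQuasicoherent_pullback f M
  obtain ⟨s, hs⟩ := exists_finite_affine_cover (f.isCompact_preimage hU.isCompact : IsCompact (f ⁻¹ᵁ U : Set X))
  have key : ∀ V : X.Opens, ∀ (hVU : V ≤ f ⁻¹ᵁ U), IsAffineOpen V → ∃ T : Finset Γ(M, U),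
      Submodule.span Γ(X, V) (pullSec f M hVU '' T) = ⊤ := by
    intro V hVU hV
    obtain ⟨G, hG⟩ := (finite_sections (M := N) hV).fg_top
    obtain ⟨e, he⟩ := exists_sectionsEquiv f M hU hV hVU
    have hsurj : ∀ g : Γ(N, V), g ∈ Submodule.span Γ(X, V) (pullSec f M hVU '' Set.univ) := fun g => by
      letI := (f.appLE U V hVU).hom.toAlgebra
      obtain ⟨t, rfl⟩ := e.surjective g
      induction t using TensorProduct.induction_on with
      | zero => rw [map_zero]; exact Submodule.zero_mem _
      | add a b ha hb => rw [map_add]; exact Submodule.add_mem _ ha hb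
      | tmul b m =>
        rw [show (b ⊗ₜ[Γ(Y, U)] m) = b • ((1 : Γ(X, V)) ⊗ₜ[Γ(Y, U)] m) by
          rw [TensorProduct.smul_tmul', smul_eq_mul, mul_one], map_smul, he]
        exact Submodule.smul_mem _ _ (Submodule.subset_span ⟨m, trivial, rfl⟩)
    choose T hTsub hT using fun g : Γ(N, V) => Submodule.mem_span_finite_of_mem_span (hsurj g)
    have hc : ∀ g : Γ(N, V), ∀ w : T g, ∃ m, pullSec f M hVU m = w.1 := fun g w => by
      obtain ⟨m, -, hm⟩ := hTsub g w.2
      exact ⟨m, hm⟩
    choose c hc using hc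
    refine ⟨G.biUnion fun g => (T g).attach.image (c g), ?_⟩
    rw [eq_top_iff, ← hG, Submodule.span_le]
    intro g hg
    refine Submodule.span_mono ?_ (hT g)
    intro w hw
    exact ⟨c g ⟨w, hw⟩, by simpa using ⟨g, hg, w, hw, rfl⟩, hc g ⟨w, hw⟩⟩
  have hle : ∀ V : s, V.1.1 ≤ f ⁻¹ᵁ U := fun V => hs.1 V.1 V.2
  choose T hT using fun V : s => key V.1.1 (hle V) V.1.2
  refine ⟨⟨Finset.univ.biUnion T, eq_top_of_span_germ_eq_top hU M _ fun y => ?_⟩⟩
  obtain ⟨x, hx⟩ := f.surjective y.1
  obtain ⟨V, hVs, hxV⟩ : ∃ V ∈ s, x ∈ V.1 := hs.2 x (show f x ∈ U by rw [hx]; exact y.2)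
  obtain ⟨y, hy⟩ := y
  subst hx
  apply span_eq_top_of_pullGerm f M x
  rw [eq_top_iff]
  intro w _
  obtain ⟨c, a, hc, ha⟩ := exists_smul_eq_germ N V.2 x hxV w
  have hu : IsUnit (X.presheaf.germ V.1 x hxV c) := (Scheme.mem_basicOpen _ _ _ hxV).mp hc
  rw [← one_smul (X.presheaf.stalk x) w, ← hu.val_inv_mul, mul_smul, ha]
  refine Submodule.smul_mem _ _ ?_
  have ha' : a ∈ Submodule.span Γ(X, V.1) (pullSec f M (hle ⟨V, hVs⟩) '' T ⟨V, hVs⟩) := hT ⟨V, hVs⟩ ▸ Submodule.mem_top
  clear ha
  induction ha' using Submodule.span_induction with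
  | mem v hv =>
    obtain ⟨m, hm, rfl⟩ := hv
    refine Submodule.subset_span ⟨M.presheaf.germ U (f x) hy m, ⟨m, Submodule.subset_span ?_, rfl⟩,
      (germ_pullSec f M (hle ⟨V, hVs⟩) x hxV m).symm⟩
    exact Finset.mem_biUnion.mpr ⟨⟨V, hVs⟩, Finset.mem_univ _, hm⟩
  | zero => rw [map_zero]; exact Submodule.zero_mem _
  | add v v' _ _ hv hv' => rw [map_add]; exact Submodule.add_mem _ hv hv'
  | smul b v _ hv => rw [germ_smul]; exact Submodule.smul_mem _ _ hv

/-- Finite type descends along quasi-compact faithfully flat morphisms. -/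
theorem isFiniteType_of_pullback [Flat f] [Surjective f] [QuasiCompact f] [M.IsQuasicoherent]
    [SheafOfModules.IsFiniteType (R := X.ringCatSheaf) ((Scheme.Modules.pullback f).obj M)] :
    SheafOfModules.IsFiniteType (R := Y.ringCatSheaf) M :=
  isFiniteType_of_finite M fun U => finite_sections_descent f M U.2

end Groth.Agent.ModStalk
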