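import Groth.Prelude.Def_OmegaPn
import Groth.Prelude.Def_Omega4
import Groth.Agent.ModStalk.QCoh

/-! Identities for first order differential operators. -/

set_option autoImplicit false
universe u

open CategoryTheory CategoryTheory.Limits AlgebraicGeometry Opposite TopologicalSpace

namespace Groth.Agent.ModStalk

variable {X S : Scheme.{u}} (f : X ⟶ S)

theorem exists_ideal_product {P : Scheme.{u}} (i : X ⟶ P) [QuasiCompact i] {T : P.Opens} (a b : Γ(P, T))
    (ha : i.app T a = 0) (hb : i.app T b = 0) :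
    (PrinPart.infNbhdι i 1).app T (a * b) = 0 := by
  let ι := PrinPart.infNbhdι i 1
  let N := PrinPart.infNbhd i 1
  refine N.sheaf.eq_of_locally_eq'
    (fun V : {V : P.affineOpens // (V : P.Opens) ≤ T} => ι ⁻¹ᵁ (V.1 : P.Opens))
    (ι ⁻¹ᵁ T) (fun V => (Opens.map ι.base).map (homOfLE V.2)) ?_ _ _ ?_
  · intro z hz
    obtain ⟨_, ⟨V, hV, rfl⟩, hzV, hVT⟩ := P.isBasis_affineOpens.exists_subset_of_mem_open hz T.isOpen
    exact Opens.mem_iSup.mpr ⟨⟨⟨V, hV⟩, hVT⟩, hzV⟩
  · intro V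
    change N.presheaf.map ((Opens.map ι.base).map (homOfLE V.2)).op (ι.app T (a * b)) =
      N.presheaf.map ((Opens.map ι.base).map (homOfLE V.2)).op 0
    rw [map_zero, ← ConcreteCategory.comp_apply]
    erw [← Scheme.Hom.naturality ι (homOfLE V.2).op]
    rw [ConcreteCategory.comp_apply, map_mul (P.presheaf.map (homOfLE V.2).op).hom]
    have hmem : ∀ c : Γ(P, T), i.app T c = 0 →
        P.presheaf.map (homOfLE V.2).op c ∈ i.ker.ideal V.1 := by
      intro c hc
      rw [Scheme.Hom.ker_apply, RingHom.mem_ker]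
      show (P.presheaf.map (homOfLE V.2).op ≫ i.app V.1) c = 0
      rw [Scheme.Hom.naturality, ConcreteCategory.comp_apply, hc, map_zero]
    have h2 : P.presheaf.map (homOfLE V.2).op a * P.presheaf.map (homOfLE V.2).op b ∈
        (i.ker ^ (1 + 1)).ideal V.1 := by
      rw [Scheme.IdealSheafData.ideal_pow, Pi.pow_apply, pow_two]
      exact Ideal.mul_mem_mul (hmem a ha) (hmem b hb)
    rw [← Scheme.IdealSheafData.ker_subschemeι_app, RingHom.mem_ker] at h2
    exact h2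

/-- The difference of the two projections on the first neighbourhood of the diagonal. -/
noncomputable def nbhdDiff (U : X.Opens) (a : Γ(X, U)) :
    Γ(PrinPart.nbhd f 1, PrinPart.pr1 f 1 ⁻¹ᵁ U) :=
  (PrinPart.pr2 f 1).appLE U (PrinPart.pr1 f 1 ⁻¹ᵁ U) (PrinPart.preimage_pr1 f 1 U).le a -
    (PrinPart.pr1 f 1).app U a

theorem nbhdDiff_mul_eq_zero (U : X.Opens) (a b : Γ(X, U)) :
    nbhdDiff f U a * nbhdDiff f U b = 0 := by
  let j := (pullback.diagonal f).coborderRange.ι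
  let T := j ⁻¹ᵁ OmegaSh.diagNbhd f U
  let ι := PrinPart.infNbhdι (PrinPart.diagCl f) 1
  have hW : PrinPart.pr1 f 1 ⁻¹ᵁ U ≤ ι ⁻¹ᵁ T := fun z hz => by
    show PrinPart.nbhdι f 1 z ∈ OmegaSh.diagNbhd f U
    refine ⟨hz, ?_⟩
    have h2 : z ∈ PrinPart.pr2 f 1 ⁻¹ᵁ U := (PrinPart.preimage_pr1 f 1 U).le hz
    exact h2
  have hkill : ∀ s : Γ(X, U), (PrinPart.diagCl f).app T (j.app _ (OmegaSh.diagDiff f U s)) = 0 := by
    intro s
    rw [← ConcreteCategory.comp_apply, ← Scheme.Hom.comp_app,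
      Scheme.Hom.congr_app (pullback.diagonal f).liftCoborder_ι]
    have h0 := OmegaSh.diagonal_app_diagDiff f U s (le_refl (OmegaSh.diagNbhd f U))
    rw [OmegaSh.res_refl] at h0
    erw [ConcreteCategory.comp_apply, h0, map_zero]
  have hd : ∀ s : Γ(X, U), nbhdDiff f U s = (PrinPart.nbhd f 1).presheaf.map (homOfLE hW).op
      (ι.app T (j.app _ (OmegaSh.diagDiff f U s))) := by
    intro s
    have key : ∀ (p : pullback f f ⟶ X) (h : OmegaSh.diagNbhd f U ≤ p ⁻¹ᵁ U)
        (e : PrinPart.pr1 f 1 ⁻¹ᵁ U ≤ (PrinPart.nbhdι f 1 ≫ p) ⁻¹ᵁ U),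
        (PrinPart.nbhdι f 1 ≫ p).appLE U (PrinPart.pr1 f 1 ⁻¹ᵁ U) e s =
        (PrinPart.nbhd f 1).presheaf.map (homOfLE hW).op
          (ι.app T (j.app _ (p.appLE U (OmegaSh.diagNbhd f U) h s))) := by
      intro p h e
      show _ = (p.appLE U (OmegaSh.diagNbhd f U) h ≫ j.app _ ≫ ι.app T ≫
        (PrinPart.nbhd f 1).presheaf.map (homOfLE hW).op) s
      rw [show ι.app T ≫ (PrinPart.nbhd f 1).presheaf.map (homOfLE hW).op = ι.appLE T _ hW from rfl,
        Scheme.Hom.app_eq_appLE j, Scheme.Hom.appLE_comp_appLE, Scheme.Hom.appLE_comp_appLE]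
      rfl
    rw [OmegaSh.diagDiff, map_sub (j.app _).hom, map_sub (ι.app T).hom,
      map_sub ((PrinPart.nbhd f 1).presheaf.map (homOfLE hW).op).hom,
      ← key _ inf_le_right (PrinPart.preimage_pr1 f 1 U).le, ← key _ inf_le_left le_rfl]
    rw [nbhdDiff, Scheme.Hom.app_eq_appLE]
    rfl
  rw [hd, hd, ← map_mul ((PrinPart.nbhd f 1).presheaf.map (homOfLE hW).op).hom, ← map_mul (ι.app T).hom,
    exists_ideal_product (PrinPart.diagCl f) _ _ (hkill a) (hkill b), map_zero]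

end Groth.Agent.ModStalk
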