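import Groth.Agent.ModStalk.FinitePresentation
import Groth.Agent.ModStalk.PullbackQCoh
import Groth.Agent.ModStalk.Localization
import Groth.Prelude.Def_CohB1
import Mathlib.RingTheory.Localization.Finiteness
import Mathlib.RingTheory.Flat.Localization

/-! Sections of a finitely presented module over an affine open are finitely presented. -/

set_option autoImplicit false
set_option linter.style.haveILetI false
universe u

open CategoryTheory CategoryTheory.Limits AlgebraicGeometry Opposite TopologicalSpace SheafOfModules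
open scoped TensorProduct

namespace Groth.Agent.ModStalk

theorem finitePresentation_of_localizationSpan {R : Type u} [CommRing R] (M : Type u) [AddCommGroup M]
    [Module R M] [Module.Finite R M] (t : Set R) (ht : Ideal.span t = ⊤) (S : t → Type u)
    [∀ g, CommRing (S g)] [∀ g, Algebra R (S g)] [∀ g : t, IsLocalization.Away g.1 (S g)]
    (H : ∀ g, Module.FinitePresentation (S g) (S g ⊗[R] M)) : Module.FinitePresentation R M := by
  obtain ⟨n, f, hf⟩ := Module.Finite.exists_fin' R M
  refine Module.finitePresentation_of_surjective f hf ?_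
  rw [← Module.Finite.iff_fg]
  let K := LinearMap.ker f
  haveI : ∀ g : t, IsLocalizedModule.Away g.1 (TensorProduct.mk R (S g) K 1) := fun g =>
    (isLocalizedModule_iff_isBaseChange (Submonoid.powers g.1) (S g) _).mpr (TensorProduct.isBaseChange R K (S g))
  refine Module.Finite.of_localizationSpan' t ht (Rₚ := S) (fun g => TensorProduct.mk R (S g) K 1) fun g => ?_
  haveI := H g
  haveI : Module.Flat R (S g) := IsLocalization.flat (S g) (Submonoid.powers g.1)
  have hi : Function.Injective (K.subtype.baseChange (S g)) :=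
    Module.Flat.lTensor_preserves_injective_linearMap _ K.injective_subtype
  have hk : LinearMap.range (K.subtype.baseChange (S g)) = LinearMap.ker (f.baseChange (S g)) := by
    ext x
    exact ((lTensor_exact (S g) (LinearMap.exact_subtype_ker_map f) hf) x).symm
  have hfg : (LinearMap.ker (f.baseChange (S g))).FG :=
    Module.FinitePresentation.fg_ker _ (LinearMap.lTensor_surjective (S g) hf)
  rw [← hk, ← Module.Finite.iff_fg] at hfg
  exact Module.Finite.equiv (LinearEquiv.ofInjective _ hi).symm

set_option backward.isDefEq.respectTransparency false in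
theorem finitePresentation_of_presentation {R : CommRingCat.{u}} (N : (Spec R).Modules) (P : N.Presentation)
    [Finite P.generators.I] [Finite P.relations.I] :
    Module.FinitePresentation R ↥(moduleSpecΓFunctor.obj N) := by
  let g := (tilde.functor R).preimage <| (tildeFinsupp P.relations.I).hom ≫ P.relations.π ≫ kernel.ι _ ≫
    (tildeFinsupp P.generators.I).inv
  let iso : cokernel ((tilde.functor R).map g) ≅ cokernel (P.relations.π ≫ kernel.ι _) := by
    refine cokernel.mapIso _ _ (tildeFinsupp _) (tildeFinsupp _) ?_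
    simp only [g, (tilde.functor R).map_preimage]
    simp
  let e : (tilde.functor R).obj (cokernel g) ≅ N := PreservesCokernel.iso (tilde.functor R) g ≪≫ iso ≪≫
    IsColimit.coconePointUniqueUpToIso (colimit.isColimit _) P.isColimit
  let e' : ModuleCat.of R ((P.generators.I →₀ R) ⧸ LinearMap.range g.hom) ≅ moduleSpecΓFunctor.obj N :=
    (ModuleCat.cokernelIsoRangeQuotient g).symm ≪≫ (tilde.toTildeΓNatIso (R := R)).app (cokernel g) ≪≫
      moduleSpecΓFunctor.mapIso e
  haveI : Module.FinitePresentation R ((P.generators.I →₀ R) ⧸ LinearMap.range g.hom) :=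
    Module.finitePresentation_of_surjective (LinearMap.range g.hom).mkQ (Submodule.mkQ_surjective _) (by
      rw [Submodule.ker_mkQ]; exact Module.Finite.iff_fg.mp inferInstance)
  exact Module.FinitePresentation.of_equiv e'.toLinearEquiv

variable {X : Scheme.{u}} (M : X.Modules)

theorem finitePresentation_sections_of_presentation [M.IsQuasicoherent] {W D : X.Opens}
    (hD : IsAffineOpen D) (h : D ≤ W) (P : (SheafOfModules.over (R := X.ringCatSheaf) M W).Presentation)
    [Finite P.generators.I] [Finite P.relations.I] :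
    Module.FinitePresentation Γ(X, D) Γ(M, D) := by
  let j := IsOpenImmersion.lift W.ι hD.fromSpec (by
    rw [← Scheme.Hom.coe_opensRange, ← Scheme.Hom.coe_opensRange, Scheme.Opens.opensRange_ι, hD.opensRange_fromSpec]
    exact h)
  have hj : j ≫ W.ι = hD.fromSpec := IsOpenImmersion.lift_fac _ _ _
  haveI : IsOpenImmersion (j ≫ W.ι) := hj ▸ inferInstance
  haveI : IsOpenImmersion j := .of_comp j W.ι
  let N := M.restrict hD.fromSpec
  let P' : N.Presentation :=
    presIso (((Scheme.Modules.restrictFunctorComp j W.ι).app M).symm ≪≫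
      (Scheme.Modules.restrictFunctorCongr hj).app M)
      (Scheme.Modules.presentationRestrict j (restrictPresentation M W P))
  haveI : Finite P'.generators.I := inferInstanceAs (Finite P.generators.I)
  haveI : Finite P'.relations.I := inferInstanceAs (Finite P.relations.I)
  haveI := finitePresentation_of_presentation N P'
  let L : ModuleCat Γ(X, D) := moduleSpecΓFunctor.obj N
  have hT : hD.fromSpec ''ᵁ ⊤ = D := by
    rw [Scheme.Hom.image_top_eq_opensRange, hD.opensRange_fromSpec]
  let e : Γ(M, D) → Γ(N, ⊤) := fun a =>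
    (M.restrictAppIso hD.fromSpec ⊤).inv (M.presheaf.map (homOfLE hT.le).op a)
  have he : Function.Bijective e := by
    haveI : IsIso (homOfLE hT.le) := ⟨homOfLE hT.ge, Subsingleton.elim _ _, Subsingleton.elim _ _⟩
    exact (M.restrictAppIso hD.fromSpec ⊤).addCommGroupIsoToAddEquiv.symm.bijective.comp
      (ConcreteCategory.bijective_of_isIso (M.presheaf.map (homOfLE hT.le).op))
  have hsmul : ∀ (r : Γ(X, D)) (a : Γ(M, D)), e (r • a) = r • e a := fun r a => by
    apply (M.restrictAppIso hD.fromSpec ⊤).addCommGroupIsoToAddEquiv.injective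
    show (M.restrictAppIso hD.fromSpec ⊤).hom (e (r • a)) = (M.restrictAppIso hD.fromSpec ⊤).hom (r • e a)
    rw [smul_restrict_fromSpec M hD ⊤ hT.le]
    show _ = _ • (M.restrictAppIso hD.fromSpec ⊤).hom (e a)
    simp only [e, Iso.inv_hom_id_apply]
    exact Scheme.Modules.map_smul _ _ _ _
  let e' : Γ(M, D) →ₗ[Γ(X, D)] L :=
    { toFun := e, map_add' := fun a b => by simp only [e, map_add]; rfl, map_smul' := hsmul }
  exact Module.FinitePresentation.of_equiv (LinearEquiv.ofBijective e' he).symm

theorem finitePresentation_sections [hM : SheafOfModules.IsFinitePresentation (R := X.ringCatSheaf) M]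
    {U : X.Opens} (hU : IsAffineOpen U) : Module.FinitePresentation Γ(X, U) Γ(M, U) := by
  haveI : M.IsQuasicoherent := inferInstance
  haveI := finite_sections (M := M) hU
  obtain ⟨q, hq⟩ := hM.exists_quasicoherentData
  let t : Set Γ(X, U) := {f | ∃ i, X.basicOpen f ≤ q.X i}
  have ht : Ideal.span t = ⊤ := by
    rw [← hU.self_le_iSup_basicOpen_iff]
    intro x hx
    have hc := q.coversTop
    rw [Opens.coversTop_iff, IsOpenCover] at hc
    obtain ⟨i, hi⟩ := Opens.mem_iSup.mp (hc.ge (trivial : x ∈ (⊤ : X.Opens)))
    obtain ⟨f, hf, hxf⟩ := hU.exists_basicOpen_le (V := q.X i) ⟨x, hi⟩ hx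
    exact Opens.mem_iSup.mpr ⟨⟨f, i, hf⟩, hxf⟩
  letI : ∀ f : t, Algebra Γ(X, U) Γ(X, X.basicOpen f.1) := fun f =>
    (X.presheaf.map (homOfLE (X.basicOpen_le f.1)).op).hom.toAlgebra
  haveI : ∀ f : t, IsLocalization.Away f.1 Γ(X, X.basicOpen f.1) := fun f => hU.isLocalization_basicOpen f.1
  refine finitePresentation_of_localizationSpan Γ(M, U) t ht (fun f => Γ(X, X.basicOpen f.1)) fun ⟨f, i, hf⟩ => ?_
  letI : Algebra Γ(X, U) Γ(X, X.basicOpen f) := (X.presheaf.map (homOfLE (X.basicOpen_le f)).op).hom.toAlgebra
  haveI : IsLocalization.Away f Γ(X, X.basicOpen f) := hU.isLocalization_basicOpen f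
  letI : Module Γ(X, U) Γ(M, X.basicOpen f) := Module.compHom _ (algebraMap Γ(X, U) Γ(X, X.basicOpen f))
  haveI : IsScalarTower Γ(X, U) Γ(X, X.basicOpen f) Γ(M, X.basicOpen f) :=
    IsScalarTower.of_algebraMap_smul fun _ _ => rfl
  let res : Γ(M, U) →ₗ[Γ(X, U)] Γ(M, X.basicOpen f) :=
    { toFun := fun a => M.presheaf.map (homOfLE (X.basicOpen_le f)).op a
      map_add' := map_add _
      map_smul' := fun r a => Scheme.Modules.map_smul M _ r a }
  haveI : IsLocalizedModule (Submonoid.powers f) res := by
    refine ⟨fun c => ?_, fun m => ?_, fun {a b} h => ?_⟩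
    · have hu : IsUnit (algebraMap Γ(X, U) Γ(X, X.basicOpen f) c) := IsLocalization.map_units _ c
      rw [Module.End.isUnit_iff]
      exact ⟨fun a b hab => hu.smul_left_cancel.mp hab,
        fun b => ⟨(hu.unit⁻¹ : Γ(X, X.basicOpen f)ˣ).1 • b, by
          show algebraMap Γ(X, U) Γ(X, X.basicOpen f) c • ((hu.unit⁻¹ : Γ(X, X.basicOpen f)ˣ).1 • b) = b
          rw [smul_smul, IsUnit.mul_val_inv, one_smul]⟩⟩
    · obtain ⟨n, s, hs⟩ := exists_extend M hU f m
      refine ⟨(s, ⟨f ^ n, n, rfl⟩), ?_⟩
      show algebraMap Γ(X, U) Γ(X, X.basicOpen f) (f ^ n) • m = _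
      rw [map_pow]
      exact hs.symm
    · obtain ⟨n, hn⟩ := exists_pow_smul_eq_zero M hU f (a - b) (by rw [map_sub]; exact sub_eq_zero.mpr h)
      exact ⟨⟨f ^ n, n, rfl⟩, sub_eq_zero.mp ((smul_sub (f ^ n) a b).symm.trans hn)⟩
  haveI : Finite (q.presentation i).generators.I := (hq.isFinite_presentation i).isFiniteType_generators.finite
  haveI : Finite (q.presentation i).relations.I := (hq.isFinite_presentation i).isFiniteType_relations.finite
  haveI := finitePresentation_sections_of_presentation M (hU.basicOpen f) hf (q.presentation i)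
  exact Module.FinitePresentation.of_equiv
    (IsLocalizedModule.isBaseChange (Submonoid.powers f) Γ(X, X.basicOpen f) res).equiv.symm

end Groth.Agent.ModStalk
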