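import Groth.Agent.ModStalk.FinitePresentation

/-! Finite type and finite presentation from the sections over an affine cover. -/

set_option autoImplicit false
universe u

open CategoryTheory CategoryTheory.Limits AlgebraicGeometry Opposite TopologicalSpace SheafOfModules

namespace Groth.Agent.ModStalk

variable {X : Scheme.{u}} (M : X.Modules) [M.IsQuasicoherent]

theorem exists_finite_presentation_over' {U : X.Opens} (hU : IsAffineOpen U)
    [Module.FinitePresentation Γ(X, U) Γ(M, U)] :
    ∃ P : (SheafOfModules.over (R := X.ringCatSheaf) M U).Presentation,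
      Finite P.generators.I ∧ Finite P.relations.I := by
  classical
  let N := M.restrict hU.fromSpec
  let L : ModuleCat Γ(X, U) := moduleSpecΓFunctor.obj N
  have hT : hU.fromSpec ''ᵁ ⊤ = U := by
    rw [Scheme.Hom.image_top_eq_opensRange, hU.opensRange_fromSpec]
  let e : Γ(M, U) → Γ(N, ⊤) := fun a =>
    (M.restrictAppIso hU.fromSpec ⊤).inv (M.presheaf.map (homOfLE hT.le).op a)
  have he : ∀ b : L, ∃ a, e a = b := fun b => by
    refine ⟨M.presheaf.map (homOfLE hT.ge).op ((M.restrictAppIso hU.fromSpec ⊤).hom b), ?_⟩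
    show (M.restrictAppIso hU.fromSpec ⊤).inv _ = b
    rw [res_res, show (homOfLE (le_refl (hU.fromSpec ''ᵁ ⊤))).op = 𝟙 _ from rfl, CategoryTheory.Functor.map_id,
      ConcreteCategory.id_apply]
    exact (M.restrictAppIso hU.fromSpec ⊤).hom_inv_id_apply b
  have hsmul : ∀ (r : Γ(X, U)) (a : Γ(M, U)), e (r • a) = r • e a := fun r a => by
    apply (M.restrictAppIso hU.fromSpec ⊤).addCommGroupIsoToAddEquiv.injective
    show (M.restrictAppIso hU.fromSpec ⊤).hom (e (r • a)) = (M.restrictAppIso hU.fromSpec ⊤).hom (r • e a)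
    rw [smul_restrict_fromSpec M hU ⊤ hT.le]
    show M.presheaf.map (homOfLE hT.le).op (r • a) = _ • M.presheaf.map (homOfLE hT.le).op a
    exact Scheme.Modules.map_smul _ _ _ _
  let e' : Γ(M, U) →ₗ[Γ(X, U)] L :=
    { toFun := e, map_add' := fun a b => by simp only [e, map_add]; rfl, map_smul' := hsmul }
  have hinj : Function.Injective e := fun a b hab => by
    have h2 := congrArg (M.restrictAppIso hU.fromSpec ⊤).hom hab
    simp only [e, Iso.inv_hom_id_apply] at h2
    have h3 := congrArg (M.presheaf.map (homOfLE hT.ge).op) h2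
    erw [res_res, res_res] at h3
    rwa [show (homOfLE (le_refl U)).op = 𝟙 _ from rfl, CategoryTheory.Functor.map_id,
      ConcreteCategory.id_apply, ConcreteCategory.id_apply] at h3
  haveI : Module.FinitePresentation Γ(X, U) L :=
    Module.FinitePresentation.of_equiv (LinearEquiv.ofBijective e' ⟨hinj, he⟩)
  obtain ⟨T, hTspan⟩ := Module.Finite.fg_top (R := Γ(X, U)) (M := L)
  let s : Set L := T
  obtain ⟨K, hK⟩ := Module.FinitePresentation.fg_ker (Finsupp.linearCombination Γ(X, U) ((↑) : s → L))
    (LinearMap.range_eq_top.mp (by rw [Finsupp.range_linearCombination, Subtype.range_coe, hTspan]))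
  have : N.IsQuasicoherent := Scheme.Modules.isQuasicoherent_restrictFunctor hU.fromSpec M
  let P₀ : N.Presentation := presIso (@asIso _ _ _ _ N.fromTildeΓ (Scheme.Modules.isIso_fromTildeΓ_of_isQuasicoherent N))
    (presentationTilde L s hTspan (K : Set (s →₀ Γ(X, U))) hK)
  have hP₀ : Finite P₀.generators.I ∧ Finite P₀.relations.I :=
    ⟨inferInstanceAs (Finite (T : Set L)), inferInstanceAs (Finite (K : Set (s →₀ Γ(X, U))))⟩
  let i₁ : N.restrict hU.isoSpec.hom ≅ M.restrict U.ι :=
    ((Scheme.Modules.restrictFunctorComp hU.isoSpec.hom hU.fromSpec).app M).symm ≪≫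
      (Scheme.Modules.restrictFunctorCongr hU.isoSpec_hom_fromSpec).app M
  let P₁ : (M.restrict U.ι).Presentation :=
    presIso i₁
      (Scheme.Modules.presentationRestrict hU.isoSpec.hom P₀)
  let E := Scheme.Modules.overEquiv U
  let η : SheafOfModules.unit (X.ringCatSheaf.over U) ≅ E.inverse.obj (SheafOfModules.unit _) :=
    E.unitIso.app _ ≪≫ E.inverse.mapIso
      ((Scheme.Modules.overFunctorEquiv U).app (SheafOfModules.unit X.ringCatSheaf) ≪≫
        Scheme.Modules.restrictUnitIso U.ι)
  let i₂ : E.inverse.obj (M.restrict U.ι) ≅ SheafOfModules.over (R := X.ringCatSheaf) M U :=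
    E.inverse.mapIso ((Scheme.Modules.overFunctorEquiv U).app M).symm ≪≫ (E.unitIso.app _).symm
  refine ⟨presIso i₂ (presEquiv E.symm η P₁), ?_, ?_⟩
  · exact hP₀.1
  · exact hP₀.2

theorem isFinitePresentation_of_cover (p : X.Opens → Prop)
    (hp : ∀ x : X, ∃ U : X.Opens, IsAffineOpen U ∧ x ∈ U ∧ p U)
    (h : ∀ U : X.Opens, IsAffineOpen U → p U → Module.FinitePresentation Γ(X, U) Γ(M, U)) :
    SheafOfModules.IsFinitePresentation (R := X.ringCatSheaf) M := by
  have h' : ∀ U : {U : X.affineOpens // p U.1},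
      ∃ P : (SheafOfModules.over (R := X.ringCatSheaf) M U.1.1).Presentation,
      Finite P.generators.I ∧ Finite P.relations.I := fun U => by
    have := h _ U.1.2 U.2
    exact exists_finite_presentation_over' M U.1.2
  choose P hP using h'
  have hcov : (Opens.grothendieckTopology X).CoversTop (fun U : {U : X.affineOpens // p U.1} => U.1.1) := by
    rw [Opens.coversTop_iff, IsOpenCover]
    exact eq_top_iff.mpr fun x _ => by
      obtain ⟨W, hW, hxW, hpW⟩ := hp x
      exact Opens.mem_iSup.mpr ⟨⟨⟨W, hW⟩, hpW⟩, hxW⟩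
  let d : SheafOfModules.QuasicoherentData.{u} (R := X.ringCatSheaf) M :=
    { I := {U : X.affineOpens // p U.1}, X := fun U => U.1.1, coversTop := hcov, presentation := P }
  have hd : d.IsFinitePresentation :=
    { isFinite_presentation := fun i =>
        { isFiniteType_generators := ⟨(hP i).1⟩, isFiniteType_relations := ⟨(hP i).2⟩ } }
  exact { exists_quasicoherentData := ⟨d, hd⟩ }

theorem isFiniteType_of_finite_cover [M.IsQuasicoherent] (p : X.Opens → Prop)
    (hp : ∀ x : X, ∃ U : X.Opens, IsAffineOpen U ∧ x ∈ U ∧ p U)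
    (h : ∀ U : X.Opens, IsAffineOpen U → p U → Module.Finite Γ(X, U) Γ(M, U)) :
    SheafOfModules.IsFiniteType (R := X.ringCatSheaf) M := by
  have hgen : ∀ U : {U : X.affineOpens // p U.1},
      ∃ σ : (SheafOfModules.over (R := X.ringCatSheaf) M U.1.1).GeneratingSections, σ.IsFiniteType := by
    intro U
    obtain ⟨⟨U, hU⟩, hpU⟩ := U
    obtain ⟨T, hT⟩ := (h U hU hpU).1
    refine exists_generatingSections M (fun t : T => (t : Γ(M, U))) fun y hy => ?_
    refine Submodule.eq_top_iff'.mpr fun m => ?_
    obtain ⟨c, a, hc, ha⟩ := exists_smul_eq_germ M hU y hy m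
    have hu : IsUnit (X.presheaf.germ U y hy c) := (Scheme.mem_basicOpen _ _ _ hy).mp hc
    rw [← one_smul (X.presheaf.stalk y) m, ← hu.val_inv_mul, mul_smul, ha]
    refine Submodule.smul_mem _ _ ?_
    have ha' : a ∈ Submodule.span Γ(X, U) (T : Set Γ(M, U)) := hT ▸ Submodule.mem_top
    clear ha
    induction ha' using Submodule.span_induction with
    | mem v hv => exact Submodule.subset_span ⟨⟨v, hv⟩, rfl⟩
    | zero => rw [map_zero]; exact Submodule.zero_mem _
    | add v w _ _ hv hw => rw [map_add]; exact Submodule.add_mem _ hv hw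
    | smul b v _ hv => rw [germ_smul]; exact Submodule.smul_mem _ _ hv
  choose σ hσ using hgen
  have hcov : (Opens.grothendieckTopology X).CoversTop (fun U : {U : X.affineOpens // p U.1} => U.1.1) := by
    rw [Opens.coversTop_iff, IsOpenCover]
    exact eq_top_iff.mpr fun x _ => by
      obtain ⟨W, hW, hxW, hpW⟩ := hp x
      exact Opens.mem_iSup.mpr ⟨⟨⟨W, hW⟩, hpW⟩, hxW⟩
  let d : SheafOfModules.LocalGeneratorsData.{u} (R := X.ringCatSheaf) M :=
    { I := {U : X.affineOpens // p U.1}, X := fun U => U.1.1, coversTop := hcov, generators := σ }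
  have hd : d.IsFiniteType := { isFiniteType := hσ }
  exact { exists_localGeneratorsData := ⟨d, hd⟩ }


end Groth.Agent.ModStalk
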