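import Groth.Agent.ModStalk.Semilocal
import Groth.Agent.ModStalk.Restrict

/-! Generating loci of sections of invertible modules. -/

set_option autoImplicit false
universe u

open CategoryTheory CategoryTheory.Limits AlgebraicGeometry

namespace Groth.Agent.ModStalk

theorem restrict_stalk_surjective_rev {X : Scheme.{u}} {F G : X.Modules} (u : F ⟶ G) (U : X.Opens) (x : U)
    (h : Function.Surjective (RefHull.stalkMapₗ ((Scheme.Modules.restrictFunctor U.ι).map u) x)) :
    Function.Surjective (RefHull.stalkMapₗ u x.1) := by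
  have nat := (Scheme.Modules.restrictStalkNatIso U.ι x).hom.naturality u
  have hG := ConcreteCategory.bijective_of_isIso ((Scheme.Modules.restrictStalkNatIso U.ι x).hom.app G)
  intro b
  obtain ⟨b', hb'⟩ := hG.2 b
  obtain ⟨a, ha⟩ := h b'
  refine ⟨(Scheme.Modules.restrictStalkNatIso U.ι x).hom.app F a, ?_⟩
  rw [← hb', ← ha]
  exact (ConcreteCategory.congr_hom nat a).symm

theorem mem_genLocus_iff {X : Scheme.{u}} (L : X.Modules) (hL : PicF.IsInvertible L)
    (s : Coh.structureModule X ⟶ L) (x : X) :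
    x ∈ CohB1.genLocus L s ↔ Function.Surjective (RefHull.stalkMapₗ s x) := by
  have hE : FlatMod.IsFinLocFree L := fun y => by
    obtain ⟨U, hyU, ⟨e⟩⟩ := hL y
    exact ⟨U, 1, hyU, ⟨e ≪≫ (coproductUniqueIso fun _ : Fin 1 => Coh.structureModule (U : Scheme.{u})).symm⟩⟩
  have := Groth.Agent.ModStalk.isFinitePresentation_of_isFinLocFree L hE
  have := Groth.Agent.ModStalk.isFiniteType_of_isFinLocFree L hE
  constructor
  · intro h
    obtain ⟨U, hU, hxU⟩ : ∃ U : X.Opens, IsIso ((Scheme.Modules.restrictFunctor U.ι).map s) ∧ x ∈ U :=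
      TopologicalSpace.Opens.mem_sSup.mp h
    exact restrict_stalk_surjective_rev s U ⟨x, hxU⟩ (Groth.Agent.ModStalk.stalkMap_surjective_of_epi _ _)
  · intro h
    obtain ⟨U, hxU, hU⟩ := Groth.Agent.ModStalk.exists_nhd_surjective s x h
    refine TopologicalSpace.Opens.mem_sSup.mpr ⟨U, ?_, hxU⟩
    have := Groth.Agent.ModStalk.epi_restrict s U hU
    have : Mono ((Scheme.Modules.restrictFunctor U.ι).map s) := Groth.Agent.ModStalk.mono_restrict s U fun y hy => by
      obtain ⟨hfree, -⟩ := Groth.Agent.ModStalk.free_stalk_of_isFinLocFree L hE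
      have := hfree y
      obtain ⟨W, hyW, ⟨e⟩⟩ := hL y
      have hr : Module.finrank (X.presheaf.stalk y) (L.presheaf.stalk y) = 1 :=
        (Groth.Agent.ModStalk.free_stalk_of_pullback W.ι L
          (((Scheme.Modules.restrictFunctorIsoPullback W.ι).app _).symm ≪≫ e ≪≫
            (coproductUniqueIso fun _ : Fin 1 => Coh.structureModule (W : Scheme.{u})).symm) ⟨y, hyW⟩).2
      let b := Module.finBasisOfFinrankEq (X.presheaf.stalk y) (L.presheaf.stalk y) hr
      let g : X.presheaf.stalk y →ₗ[X.presheaf.stalk y] X.presheaf.stalk y :=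
        (LinearMap.proj 0) ∘ₗ b.equivFun.toLinearMap ∘ₗ RefHull.stalkMapₗ s y ∘ₗ (Groth.Agent.ModStalk.unitStalkEquiv y).toLinearMap
      have hg : Function.Surjective g := fun c => by
        obtain ⟨v, hv⟩ := hU y hy (b.equivFun.symm fun _ => c)
        refine ⟨(Groth.Agent.ModStalk.unitStalkEquiv y).symm v, ?_⟩
        show b.equivFun (RefHull.stalkMapₗ s y (Groth.Agent.ModStalk.unitStalkEquiv y ((Groth.Agent.ModStalk.unitStalkEquiv y).symm v))) 0 = c
        rw [LinearEquiv.apply_symm_apply, hv, LinearEquiv.apply_symm_apply]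
      have hgi := OrzechProperty.injective_of_surjective_endomorphism g hg
      intro v w hvw
      refine (Groth.Agent.ModStalk.unitStalkEquiv y).symm.injective (hgi ?_)
      show b.equivFun (RefHull.stalkMapₗ s y (Groth.Agent.ModStalk.unitStalkEquiv y ((Groth.Agent.ModStalk.unitStalkEquiv y).symm v))) 0 =
        b.equivFun (RefHull.stalkMapₗ s y (Groth.Agent.ModStalk.unitStalkEquiv y ((Groth.Agent.ModStalk.unitStalkEquiv y).symm w))) 0
      rw [LinearEquiv.apply_symm_apply, LinearEquiv.apply_symm_apply, hvw]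
    exact isIso_of_mono_of_epi _

theorem exists_affine_inter {X : Scheme.{u}} (L : X.Modules) (hL : PicF.IsInvertible L)
    (s : Coh.structureModule X ⟶ L) (x : X) :
    ∃ U : X.Opens, x ∈ U ∧ IsAffineOpen U ∧ IsAffineOpen (CohB1.genLocus L s ⊓ U) := by
  obtain ⟨W, hxW, ⟨e₀⟩⟩ := hL x
  have hE : FlatMod.IsFinLocFree L := fun y => by
    obtain ⟨U, hyU, ⟨e⟩⟩ := hL y
    exact ⟨U, 1, hyU, ⟨e ≪≫ (coproductUniqueIso fun _ : Fin 1 => Coh.structureModule (U : Scheme.{u})).symm⟩⟩
  have := Groth.Agent.ModStalk.isFinitePresentation_of_isFinLocFree L hE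
  have := Groth.Agent.ModStalk.isFiniteType_of_isFinLocFree L hE
  obtain ⟨hfree, hrank⟩ := Groth.Agent.ModStalk.free_stalk_of_isFinLocFree L hE
  obtain ⟨U₀, n, e, hxU₀, he⟩ := Groth.Agent.ModStalk.exists_basis_nhd L hfree hrank x
  obtain ⟨_, ⟨U, hU, rfl⟩, hxU, hUW⟩ := X.isBasis_affineOpens.exists_subset_of_mem_open
    (show x ∈ W ⊓ U₀ from ⟨hxW, hxU₀⟩) (W ⊓ U₀).isOpen
  refine ⟨U, hxU, hU, ?_⟩
  have hU₀ : U ≤ U₀ := fun y hy => (hUW hy).2
  have hn : ∀ y ∈ U, n = 1 := fun y hy => by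
    have h1 := (Groth.Agent.ModStalk.free_stalk_of_pullback W.ι L
      (((Scheme.Modules.restrictFunctorIsoPullback W.ι).app _).symm ≪≫ e₀ ≪≫
        (coproductUniqueIso fun _ : Fin 1 => Coh.structureModule (W : Scheme.{u})).symm) ⟨y, (hUW hy).1⟩).2
    let b := Module.Basis.mk (he y (hU₀ hy)).2 (he y (hU₀ hy)).1.ge
    have h2 := Module.finrank_eq_card_basis b
    rw [Fintype.card_fin] at h2
    exact h2.symm.trans h1
  obtain rfl := hn x hxU
  let e' : Γ(L, U) := L.presheaf.map (homOfLE hU₀).op (e 0)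
  have hspan : ∀ (y : X) (hy : y ∈ U), Submodule.span (X.presheaf.stalk y) {L.presheaf.germ U y hy e'} = ⊤ := by
    intro y hy
    rw [← (he y (hU₀ hy)).1, show L.presheaf.germ U y hy e' = L.presheaf.germ U₀ y (hU₀ hy) (e 0) from
      TopCat.Presheaf.germ_res_apply _ _ y hy _]
    congr 1
    exact (Set.range_unique (f := fun i => L.presheaf.germ U₀ y (hU₀ hy) (e i))).symm
  let one : Γ(Coh.structureModule X, U) := Groth.Agent.ModStalk.toUnit (1 : Γ(X, U))
  have htop := Groth.Agent.ModStalk.eq_top_of_span_germ_eq_top hU L (Submodule.span Γ(X, U) {e'}) fun y =>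
    eq_top_iff.mpr ((hspan y.1 y.2).ge.trans (Submodule.span_mono (Set.singleton_subset_iff.mpr
      ⟨e', Submodule.mem_span_singleton_self e', rfl⟩)))
  obtain ⟨g, hg⟩ := Submodule.mem_span_singleton.mp (htop.ge (Submodule.mem_top (x := s.app U one)))
  suffices h : CohB1.genLocus L s ⊓ U = X.basicOpen g by
    rw [h]; exact hU.basicOpen g
  ext y
  suffices h : ∀ (hy : y ∈ U), y ∈ CohB1.genLocus L s ↔ IsUnit (X.presheaf.germ U y hy g) by
    exact ⟨fun hy => (Scheme.mem_basicOpen _ _ _ hy.2).mpr ((h hy.2).mp hy.1), fun hy =>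
      ⟨(h (X.basicOpen_le g hy)).mpr ((Scheme.mem_basicOpen _ _ _ _).mp hy), X.basicOpen_le g hy⟩⟩
  intro hy
  rw [mem_genLocus_iff L hL s y]
  have hval : ∀ c, RefHull.stalkMapₗ s y (Groth.Agent.ModStalk.unitStalkEquiv y c) =
      (c * X.presheaf.germ U y hy g) • L.presheaf.germ U y hy e' := fun c => by
    rw [← mul_one c, ← smul_eq_mul, map_smul, map_smul, smul_eq_mul, mul_one, mul_smul]
    congr 1
    rw [← map_one (X.presheaf.germ U y hy).hom]
    erw [Groth.Agent.ModStalk.unitStalkEquiv_germ y hy (1 : Γ(X, U)), RefHull.stalkMapₗ_germ, ← hg,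
      Groth.Agent.ModStalk.germ_smul]
  constructor
  · intro hs
    obtain ⟨v, hv⟩ := hs (L.presheaf.germ U y hy e')
    obtain ⟨c, rfl⟩ := (Groth.Agent.ModStalk.unitStalkEquiv y).surjective v
    rw [hval] at hv
    have hli := (he y (hU₀ hy)).2
    refine IsUnit.of_mul_eq_one_right c (sub_eq_zero.mp ?_)
    refine Fintype.linearIndependent_iff.mp hli (fun _ => c * X.presheaf.germ U y hy g - 1) ?_ 0
    rw [Fin.sum_univ_one, sub_smul, one_smul, sub_eq_zero,
      ← show L.presheaf.germ U y hy e' = L.presheaf.germ U₀ y (hU₀ hy) (e 0) from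
        TopCat.Presheaf.germ_res_apply _ _ y hy _]
    exact hv
  · intro hu v
    obtain ⟨a, rfl⟩ := Submodule.mem_span_singleton.mp ((hspan y hy).ge (Submodule.mem_top (x := v)))
    refine ⟨Groth.Agent.ModStalk.unitStalkEquiv y (a * (hu.unit⁻¹ : (X.presheaf.stalk y)ˣ).1), ?_⟩
    rw [hval, mul_assoc, IsUnit.val_inv_mul, mul_one]

end Groth.Agent.ModStalk
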