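import Groth.Agent.ModStalk.Localization
import Groth.Agent.ModStalk.Affine
import Groth.Agent.ModStalk.QCoh
import Mathlib.AlgebraicGeometry.AffineScheme

/-! Morphisms of modules from families of stalk maps, and from global sections on affine schemes. -/

set_option autoImplicit false
set_option linter.style.haveILetI false
universe u

open CategoryTheory CategoryTheory.Limits AlgebraicGeometry Opposite TopologicalSpace

namespace Groth.Agent.ModStalk

variable {X : Scheme.{u}} (P G : X.Modules)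

/-- A locally representable family of stalk maps is induced by a morphism. -/
theorem exists_hom_of_stalkMaps (Φ : ∀ y : X, P.presheaf.stalk y →ₗ[X.presheaf.stalk y] G.presheaf.stalk y)
    (h : ∀ (y : X) (m : P.presheaf.stalk y), ∃ (U : X.Opens) (hy : y ∈ U) (s : Γ(P, U)) (g : Γ(G, U)),
      P.presheaf.germ U y hy s = m ∧
        ∀ (w : X) (hw : w ∈ U), Φ w (P.presheaf.germ U w hw s) = G.presheaf.germ U w hw g) :
    ∃ u : P ⟶ G, ∀ (U : X.Opens) (s : Γ(P, U)) (y : X) (hy : y ∈ U),
      G.presheaf.germ U y hy (u.app U s) = Φ y (P.presheaf.germ U y hy s) := by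
  let Compat : ∀ U : X.Opens, Γ(P, U) → Γ(G, U) → Prop := fun U s g =>
    ∀ (y : X) (hy : y ∈ U), G.presheaf.germ U y hy g = Φ y (P.presheaf.germ U y hy s)
  have huniq : ∀ U s g g', Compat U s g → Compat U s g' → g = g' := fun U s g g' h₁ h₂ =>
    eq_of_germ_eq G _ _ fun y hy => (h₁ y hy).trans (h₂ y hy).symm
  have hres : ∀ {U V : X.Opens} (i : V ≤ U) s g, Compat U s g →
      Compat V (P.presheaf.map (homOfLE i).op s) (G.presheaf.map (homOfLE i).op g) := by
    intro U V i s g hg y hy
    rw [TopCat.Presheaf.germ_res_apply, TopCat.Presheaf.germ_res_apply]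
    exact hg y (i hy)
  have hex : ∀ U s, ∃ g, Compat U s g := by
    intro U s
    have hpt : ∀ y : U, ∃ (W : X.Opens) (i : W ≤ U) (g : Γ(G, W)),
        y.1 ∈ W ∧ Compat W (P.presheaf.map (homOfLE i).op s) g := by
      rintro ⟨y, hy⟩
      obtain ⟨U₁, hy₁, s₁, g₁, hs₁, hg₁⟩ := h y (P.presheaf.germ U y hy s)
      obtain ⟨W, hyW, i, j, e⟩ := P.presheaf.germ_eq y hy hy₁ s s₁ hs₁.symm
      refine ⟨W, i.le, G.presheaf.map (homOfLE j.le).op g₁, hyW, ?_⟩
      have := hres j.le s₁ g₁ fun w hw => (hg₁ w hw).symm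
      rwa [show (homOfLE j.le) = j from rfl, ← e] at this
    choose W hWU g hyW hg using hpt
    have hcompat : TopCat.Presheaf.IsCompatible G.presheaf W g := fun i j => by
      refine huniq _ (P.presheaf.map (homOfLE (inf_le_left.trans (hWU i))).op s) _ _ ?_ ?_
      · have := hres (inf_le_left : W i ⊓ W j ≤ W i) _ _ (hg i)
        rwa [res_res] at this
      · have := hres (inf_le_right : W i ⊓ W j ≤ W j) _ _ (hg j)
        rwa [res_res] at this
    obtain ⟨g₀, hg₀, -⟩ := TopCat.Sheaf.existsUnique_gluing' (⟨G.presheaf, G.isSheaf⟩ : TopCat.Sheaf AddCommGrpCat.{u} X)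
      W U (fun i => homOfLE (hWU i)) (fun y hy => Opens.mem_iSup.mpr ⟨⟨y, hy⟩, hyW ⟨y, hy⟩⟩) g hcompat
    refine ⟨g₀, fun y hy => ?_⟩
    have h1 := hg ⟨y, hy⟩ y (hyW ⟨y, hy⟩)
    rw [← show G.presheaf.map (homOfLE (hWU ⟨y, hy⟩)).op g₀ = g ⟨y, hy⟩ from hg₀ ⟨y, hy⟩,
      TopCat.Presheaf.germ_res_apply, TopCat.Presheaf.germ_res_apply] at h1
    exact h1
  choose g hg using hex
  let u : P ⟶ G :=
    ⟨PresheafOfModules.homMk
      { app := fun U => AddCommGrpCat.ofHom (AddMonoidHom.mk' (g U.unop) fun s s' =>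
          huniq U.unop (show Γ(P, U.unop) from s + s') _ _ (hg _ _) fun y hy =>
            (map_add (G.presheaf.germ _ y hy).hom _ _).trans ((congrArg₂ (· + ·) (hg _ s y hy) (hg _ s' y hy)).trans
              ((map_add (Φ y) _ _).symm.trans (congrArg (Φ y) (map_add (P.presheaf.germ _ y hy).hom _ _).symm))))
        naturality := fun U V i => by
          ext s
          exact huniq V.unop _ _ _ (hg _ _) (hres i.unop.le s _ (hg _ s)) }
      fun U r s => huniq U.unop
        ((show Γ(X, U.unop) from r) • (show Γ(P, U.unop) from s) : Γ(P, U.unop)) _ _ (hg _ _) fun y hy =>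
          (germ_smul G y hy (show Γ(X, U.unop) from r) (g U.unop s)).trans
          (((congrArg _ (hg _ s y hy)).trans ((Φ y).map_smul _ _).symm).trans
            (congrArg (Φ y) (germ_smul P y hy (show Γ(X, U.unop) from r) s).symm))⟩
  exact ⟨u, fun U s => hg U s⟩

/-- On an affine scheme, morphisms out of a quasi-coherent module come from linear maps of global sections. -/
theorem exists_hom_of_global [IsAffine X] [P.IsQuasicoherent] (u₀ : Γ(P, ⊤) →ₗ[Γ(X, ⊤)] Γ(G, ⊤)) :
    ∃ u : P ⟶ G, ∀ m, u.app ⊤ m = u₀ m := by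
  have hU := isAffineOpen_top X
  have hΦ : ∀ y : X, ∃ Φ : P.presheaf.stalk y →ₗ[X.presheaf.stalk y] G.presheaf.stalk y,
      ∀ s : Γ(P, ⊤), Φ (P.presheaf.germ ⊤ y trivial s) = G.presheaf.germ ⊤ y trivial (u₀ s) := by
    intro y
    let y' : (⊤ : X.Opens) := ⟨y, trivial⟩
    letI := sectionModule P y'
    letI := sectionModule G y'
    letI : Algebra Γ(X, ⊤) (X.presheaf.stalk y) := (X.presheaf.germ ⊤ y trivial).hom.toAlgebra
    haveI : IsScalarTower Γ(X, ⊤) (X.presheaf.stalk y) (P.presheaf.stalk y) := sectionTower P y'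
    haveI : IsScalarTower Γ(X, ⊤) (X.presheaf.stalk y) (G.presheaf.stalk y) := sectionTower G y'
    haveI : IsLocalization.AtPrime (X.presheaf.stalk y) (hU.primeIdealOf y').asIdeal :=
      hU.isLocalization_stalk y'
    have hl : IsBaseChange (X.presheaf.stalk y) (germₗ P y') :=
      (isLocalizedModule_iff_isBaseChange (hU.primeIdealOf y').asIdeal.primeCompl
        (X.presheaf.stalk y) _).mp (isLocalizedModule_germ hU P y')
    exact ⟨hl.lift ((germₗ G y').comp u₀), fun s => hl.lift_eq _ s⟩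
  choose Φ hΦ using hΦ
  obtain ⟨u, hu⟩ := exists_hom_of_stalkMaps P G Φ fun y m => by
    obtain ⟨c, s, hc, hs⟩ := exists_smul_eq_germ P hU y trivial m
    have hle := X.basicOpen_le c
    obtain ⟨(d : Γ(X, X.basicOpen c)), hd⟩ := (X.toRingedSpace.isUnit_res_basicOpen c).exists_left_inv
    have hd' : ∀ (w : X) (hw : w ∈ X.basicOpen c),
        X.presheaf.germ _ w hw d * X.presheaf.germ ⊤ w trivial c = 1 := fun w hw => by
      rw [← X.presheaf.germ_res_apply (homOfLE hle) w hw c, ← map_mul]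
      exact (congrArg (X.presheaf.germ _ w hw) hd).trans (map_one _)
    refine ⟨X.basicOpen c, hc, d • P.presheaf.map (homOfLE hle).op s, d • G.presheaf.map (homOfLE hle).op (u₀ s),
      ?_, fun w hw => ?_⟩
    · rw [germ_smul, TopCat.Presheaf.germ_res_apply, ← hs, smul_smul, hd' y hc, one_smul]
    · rw [germ_smul, germ_smul, TopCat.Presheaf.germ_res_apply, TopCat.Presheaf.germ_res_apply, map_smul, hΦ]
  exact ⟨u, fun m => eq_of_germ_eq G _ _ fun y hy => (hu ⊤ m y hy).trans (hΦ y m)⟩

end Groth.Agent.ModStalk
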