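import Groth.Agent.ModStalk.Descent
import Groth.Agent.ModStalk.FiniteType
import Groth.Prelude.Def_FlatMod2

/-! Local freeness from bases of stalks. -/

set_option autoImplicit false
set_option linter.style.haveILetI false
universe u

open CategoryTheory CategoryTheory.Limits AlgebraicGeometry Opposite TopologicalSpace SheafOfModules

namespace Groth.Agent.ModStalk

variable {X : Scheme.{u}} (M : X.Modules)

/-- A family of sections inducing bases of all stalks over `U` trivializes the module over `U`,
with these sections as generators. -/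
theorem exists_over_iso_free' {U : X.Opens} {I : Type u} [Fintype I] (s : I → Γ(M, U))
    (h : ∀ (y : X) (hy : y ∈ U), Submodule.span (X.presheaf.stalk y)
      (Set.range fun i => M.presheaf.germ U y hy (s i)) = ⊤)
    (hli : ∀ (y : X) (hy : y ∈ U), LinearIndependent (X.presheaf.stalk y) fun i => M.presheaf.germ U y hy (s i)) :
    ∃ e : SheafOfModules.over (R := X.ringCatSheaf) M U ≅ SheafOfModules.free I, ∀ (i : I) (W : (Over U)ᵒᵖ),
      ((SheafOfModules.over (R := X.ringCatSheaf) M U).freeHomEquiv e.inv i).eval W =
        M.presheaf.map W.unop.hom.op (s i) := by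
  classical
  let sec : I → (SheafOfModules.over (R := X.ringCatSheaf) M U).sections := fun i =>
    PresheafOfModules.sectionsMk (fun W => M.presheaf.map W.unop.hom.op (s i)) fun {W W'} f => by
      exact res_res M (leOfHom W.unop.hom) (leOfHom f.unop.left) (s i)
  let φ := (SheafOfModules.over (R := X.ringCatSheaf) M U).freeHomEquiv.symm sec
  have hsec : (SheafOfModules.over (R := X.ringCatSheaf) M U).freeHomEquiv φ = sec := Equiv.apply_symm_apply _ _
  have hepi : Epi φ := by
    refine epi_of_exists_local_sum φ fun W t => ?_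
    have hW : W.left ≤ U := leOfHom W.hom
    let S : Sieve W.left :=
      { arrows := fun V j => ∃ r : I → Γ(X, V), M.presheaf.map j.op t =
          ∑ i, r i • M.presheaf.map (homOfLE ((leOfHom j).trans hW)).op (s i)
        downward_closed := by
          rintro V V' j ⟨r, hr⟩ k
          refine ⟨fun i => X.presheaf.map k.op (r i), ?_⟩
          refine ((res_res M (leOfHom j) (leOfHom k) t).symm.trans (congrArg (M.presheaf.map k.op) hr)).trans ?_
          rw [map_sum]
          refine Finset.sum_congr rfl fun i _ => ?_
          erw [Scheme.Modules.map_smul]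
          congr 1
          exact res_res M _ (leOfHom k) (s i) }
    refine ⟨(Sieve.overEquiv W).symm S, ?_, fun V j hj => ?_⟩
    · apply GrothendieckTopology.overEquiv_symm_mem_over
      intro y hy
      obtain ⟨W', h', hy', r, hr⟩ := exists_local_coeff M s h hW t y hy
      exact ⟨W', homOfLE h', ⟨r, hr⟩, hy'⟩
    · obtain ⟨r, hr⟩ := (Sieve.overEquiv_symm_iff _ _).mp hj
      refine ⟨r, hr.trans (Finset.sum_congr rfl fun i _ => ?_)⟩
      rw [hsec]
      rfl
  have hinj : ∀ (W : (Over U)ᵒᵖ) t, φ.val.app W t = 0 → t = 0 := by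
    intro W t ht
    obtain ⟨r, hr⟩ := app_eq_sum (𝟙 (SheafOfModules.free (R := X.ringCatSheaf.over U) I)) W t
    have hW : W.unop.left ≤ U := leOfHom W.unop.hom
    let r' : I → Γ(X, W.unop.left) := r
    have hsum : (∑ i, r' i • M.presheaf.map W.unop.hom.op (s i)) = (0 : Γ(M, W.unop.left)) := by
      refine Eq.trans ?_ ht
      conv_rhs => rw [show t = _ from hr, map_sum]
      refine Finset.sum_congr rfl fun i _ => ?_
      erw [map_smul]
      congr 1
      exact (congrArg (fun σ : I → (SheafOfModules.over (R := X.ringCatSheaf) M U).sections => (σ i).eval W) hsec).symm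
    have h0 : ∀ i, r' i = 0 := by
      intro i
      refine TopCat.Presheaf.section_ext X.sheaf W.unop.left _ _ fun y hy => ?_
      have hy' : y ∈ U := hW hy
      have h1 := congrArg (M.presheaf.germ W.unop.left y hy) hsum
      rw [map_zero, map_sum] at h1
      simp only [germ_smul, TopCat.Presheaf.germ_res_apply] at h1
      have h2 := Fintype.linearIndependent_iff.mp (hli y hy') (fun j => X.presheaf.germ W.unop.left y hy (r' j)) h1 i
      exact h2.trans (map_zero _).symm
    refine (show t = _ from hr).trans (Finset.sum_eq_zero fun i _ => ?_)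
    rw [show r i = 0 from h0 i, zero_smul]
  have hmono : Mono φ := by
    refine ⟨fun {Z} g g' e => SheafOfModules.hom_ext (PresheafOfModules.hom_ext fun W => ?_)⟩
    ext t
    refine sub_eq_zero.mp (hinj W _ ?_)
    rw [map_sub, sub_eq_zero]
    exact congrArg (fun ψ => ψ.val.app W t) e
  have := isIso_of_mono_of_epi φ
  exact ⟨(asIso φ).symm, fun i W => congrArg (fun σ : I → (SheafOfModules.over (R := X.ringCatSheaf) M U).sections => (σ i).eval W) hsec⟩

theorem exists_over_iso_free {U : X.Opens} {I : Type u} [Fintype I] (s : I → Γ(M, U))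
    (h : ∀ (y : X) (hy : y ∈ U), Submodule.span (X.presheaf.stalk y)
      (Set.range fun i => M.presheaf.germ U y hy (s i)) = ⊤)
    (hli : ∀ (y : X) (hy : y ∈ U), LinearIndependent (X.presheaf.stalk y) fun i => M.presheaf.germ U y hy (s i)) :
    Nonempty (SheafOfModules.over (R := X.ringCatSheaf) M U ≅ SheafOfModules.free I) :=
  ⟨(exists_over_iso_free' M s h hli).choose⟩

/-- The free module on a finite type becomes `freeMod`. -/
theorem nonempty_iso_freeMod {U : X.Opens} {n : ℕ}
    (e : SheafOfModules.over (R := X.ringCatSheaf) M U ≅ SheafOfModules.free (ULift.{u} (Fin n))) :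
    Nonempty (M.restrict U.ι ≅ FlatMod.freeMod (↑U) n) := by
  let E := Scheme.Modules.overEquiv U
  let η : SheafOfModules.unit (U : Scheme.{u}).ringCatSheaf ≅ E.functor.obj (SheafOfModules.unit _) :=
    ((Scheme.Modules.overFunctorEquiv U).app (SheafOfModules.unit X.ringCatSheaf) ≪≫
      Scheme.Modules.restrictUnitIso U.ι).symm
  exact ⟨((Scheme.Modules.overFunctorEquiv U).app M).symm ≪≫ E.functor.mapIso e ≪≫
    (PreservesCoproduct.iso E.functor fun _ : ULift.{u} (Fin n) => SheafOfModules.unit (X.ringCatSheaf.over U)) ≪≫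
    Sigma.whiskerEquiv Equiv.ulift (fun _ => η)⟩

/-- Local freeness from bases of stalks near every point. -/
theorem isFinLocFree_of_basis (h : ∀ x : X, ∃ (U : X.Opens) (n : ℕ) (s : Fin n → Γ(M, U)), x ∈ U ∧
    ∀ (y : X) (hy : y ∈ U), Submodule.span (X.presheaf.stalk y) (Set.range fun i => M.presheaf.germ U y hy (s i)) = ⊤ ∧
      LinearIndependent (X.presheaf.stalk y) fun i => M.presheaf.germ U y hy (s i)) :
    FlatMod.IsFinLocFree M := fun x => by
  obtain ⟨U, n, s, hxU, hs⟩ := h x
  obtain ⟨e⟩ := exists_over_iso_free M (fun i : ULift.{u} (Fin n) => s i.down)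
    (fun y hy => by
      rw [show (Set.range fun i : ULift.{u} (Fin n) => M.presheaf.germ U y hy (s i.down)) =
        Set.range fun i => M.presheaf.germ U y hy (s i) from Equiv.ulift.surjective.range_comp fun i => M.presheaf.germ U y hy (s i)]
      exact (hs y hy).1)
    fun y hy => (hs y hy).2.comp _ Equiv.ulift.injective
  exact ⟨U, n, hxU, nonempty_iso_freeMod M e⟩

end Groth.Agent.ModStalk
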