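import Groth.Agent.Mor.Cancel
import Groth.Prelude.Def_OmegaPn
import Mathlib.AlgebraicGeometry.Morphisms.Finite
import Mathlib.AlgebraicGeometry.Morphisms.Affine
import Mathlib.AlgebraicGeometry.Morphisms.UniversallyClosed
import Mathlib.AlgebraicGeometry.Morphisms.FinitePresentation

/-! The projection of an infinitesimal neighbourhood of the diagonal is finite, and finitely presented. -/

set_option autoImplicit false
set_option linter.style.haveILetI false
universe u

open CategoryTheory CategoryTheory.Limits AlgebraicGeometry TopologicalSpace Opposite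

namespace Groth.Agent.ModStalk

variable {X S : Scheme.{u}} (f : X ⟶ S)

theorem isFinite_pr1 [LocallyOfFiniteType f] (n : ℕ) : IsFinite (PrinPart.pr1 f n) := by
  let t := PrinPart.toNbhd f n
  let p := PrinPart.pr1 f n
  haveI : Surjective t := ⟨PrinPart.toInfNbhd_surjective _ n⟩
  haveI : IsClosedImmersion (PrinPart.infNbhdι (PrinPart.diagCl f) n) :=
    inferInstanceAs (IsClosedImmersion (Scheme.IdealSheafData.subschemeι _))
  haveI : LocallyOfFiniteType p := by dsimp only [p, PrinPart.pr1, PrinPart.nbhdι]; infer_instance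
  have hid : t ≫ p = 𝟙 X := PrinPart.toNbhd_pr1 f n
  have hl : ∀ y, p (t y) = y := fun y => by rw [← Scheme.Hom.comp_apply, hid]; rfl
  have hh : IsHomeomorph p := by
    rw [isHomeomorph_iff_exists_inverse]
    refine ⟨p.continuous, t, fun z => ?_, hl, t.continuous⟩
    obtain ⟨y, rfl⟩ := t.surjective z
    rw [hl]
  haveI : IsAffineHom p :=
    isAffineHom_of_isInducing _ hh.isEmbedding.isInducing (hh.surjective.range_eq ▸ isClosed_univ)
  haveI : UniversallyClosed (t ≫ p) := by rw [hid]; infer_instance
  haveI : UniversallyClosed p := .of_comp_surjective t _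
  exact (IsFinite.iff_isIntegralHom_and_locallyOfFiniteType _).mpr
    ⟨IsIntegralHom.iff_universallyClosed_and_isAffineHom.mpr ⟨inferInstance, inferInstance⟩, inferInstance⟩

theorem fg_ker_ideal {Y Z : Scheme.{u}} (i : Y ⟶ Z) [IsClosedImmersion i] [LocallyOfFinitePresentation i]
    (U : Z.affineOpens) : (i.ker.ideal U).FG := by
  rw [Scheme.Hom.ker_apply]
  have hfp : (i.app U.1).hom.FinitePresentation := by
    rw [← Scheme.Hom.appLE_eq_app]
    exact i.finitePresentation_appLE U.2 (U.2.preimage i) le_rfl
  have hsurj : Function.Surjective (i.app U.1).hom := i.app_surjective U.1 U.2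
  algebraize [(i.app U.1).hom]
  exact Algebra.FinitePresentation.ker_fG_of_surjective (Algebra.ofId Γ(Z, U.1) Γ(Y, i ⁻¹ᵁ U.1)) hsurj

theorem locallyOfFinitePresentation_subschemeι {Z : Scheme.{u}} (ℐ : Z.IdealSheafData)
    (h : ∀ U, (ℐ.ideal U).FG) : LocallyOfFinitePresentation ℐ.subschemeι := by
  have : IsZariskiLocalAtSource @LocallyOfFinitePresentation := HasRingHomProperty.instIsZariskiLocalAtSource
  refine IsZariskiLocalAtSource.of_openCover (P := @LocallyOfFinitePresentation) ℐ.subschemeCover.openCover fun U => ?_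
  show LocallyOfFinitePresentation (ℐ.subschemeCover.f U ≫ ℐ.subschemeι)
  rw [ℐ.subschemeCover_map_subschemeι, Scheme.IdealSheafData.glueDataObjι]
  erw [Category.assoc, IsAffineOpen.isoSpec_inv_ι]
  have h1 : LocallyOfFinitePresentation (Spec.map (CommRingCat.ofHom (Ideal.Quotient.mk (ℐ.ideal U)))) :=
    (HasRingHomProperty.Spec_iff (P := @LocallyOfFinitePresentation)).2
      (RingHom.FinitePresentation.of_surjective _ Ideal.Quotient.mk_surjective (by rw [CommRingCat.hom_ofHom, Ideal.mk_ker]; exact h U))
  exact MorphismProperty.comp_mem @LocallyOfFinitePresentation _ _ h1 inferInstance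

theorem locallyOfFinitePresentation_pr1 [LocallyOfFinitePresentation f] (n : ℕ) :
    LocallyOfFinitePresentation (PrinPart.pr1 f n) := by
  haveI := Groth.Agent.Mor.Cancel.locallyOfFinitePresentation_diagonal f
  haveI : LocallyOfFinitePresentation (PrinPart.diagCl f ≫ (pullback.diagonal f).coborderRange.ι) := by
    rw [Scheme.Hom.liftCoborder_ι]; infer_instance
  haveI : LocallyOfFinitePresentation (PrinPart.diagCl f) :=
    Groth.Agent.Mor.Cancel.locallyOfFinitePresentation_of_comp _ (pullback.diagonal f).coborderRange.ι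
  haveI : LocallyOfFinitePresentation (PrinPart.infNbhdι (PrinPart.diagCl f) n) :=
    locallyOfFinitePresentation_subschemeι _ fun U => by
      rw [Scheme.IdealSheafData.ideal_pow, Pi.pow_apply]
      exact (fg_ker_ideal _ U).pow
  dsimp only [PrinPart.pr1, PrinPart.nbhdι]
  infer_instance

end Groth.Agent.ModStalk
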