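import Groth.Agent.ModStalk.PullbackSections
import Groth.Agent.ModStalk.IdealMod
import Groth.Prelude.Def_Omega2
import Mathlib.RingTheory.Kaehler.Basic
import Mathlib.AlgebraicGeometry.Modules.Tilde

/-! The sheaf of differentials of a map of affine schemes. -/

set_option autoImplicit false
set_option maxHeartbeats 800000
set_option linter.style.haveILetI false
universe u

open CategoryTheory CategoryTheory.Limits AlgebraicGeometry Opposite TopologicalSpace
open scoped TensorProduct

namespace Groth.Agent.ModStalk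

/-- `B ⊗_P ker p` is the module of differentials, when `P ≅ A ⊗_R A` compatibly with multiplication. -/
theorem exists_cotangent_equiv {R A P B K : Type u} [CommRing R] [CommRing A] [Algebra R A] [CommRing P]
    [CommRing B] [Algebra P B] [AddCommGroup K] [Module P K] (ι : K →ₗ[P] P) (hι : Function.Injective ι)
    (hK : ∀ x : P, algebraMap P B x = 0 ↔ ∃ k, ι k = x) (φ : (A ⊗[R] A) ≃+* P) (q : B ≃+* A)
    (hq : ∀ s, q (algebraMap P B (φ s)) = Algebra.TensorProduct.lmul' (S := A) R s) :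
    ∃ E : (B ⊗[P] K) ≃+ Ω[A⁄R], (∀ b x, E (b • x) = q b • E x) ∧
      ∀ k (hk : φ.symm (ι k) ∈ KaehlerDifferential.ideal R A),
        E (1 ⊗ₜ k) = KaehlerDifferential.fromIdeal R A ⟨φ.symm (ι k), hk⟩ := by
  letI : Module P Ω[A⁄R] := Module.compHom Ω[A⁄R] φ.symm.toRingHom
  letI : Module B Ω[A⁄R] := Module.compHom Ω[A⁄R] q.toRingHom
  have hμ : ∀ (s : A ⊗[R] A) (ω : Ω[A⁄R]), s • ω = Algebra.TensorProduct.lmul' (S := A) R s • ω := by
    intro s ω
    obtain ⟨i, rfl⟩ := KaehlerDifferential.fromIdeal_surjective R A ω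
    induction s using TensorProduct.induction_on with
    | zero => rw [map_zero, zero_smul, zero_smul]
    | add s t hs ht => rw [map_add, add_smul, add_smul, hs, ht]
    | tmul a b =>
      rw [Algebra.TensorProduct.lmul'_apply_tmul, ← algebraMap_smul (A ⊗[R] A) (a * b), ← sub_eq_zero, ← sub_smul,
        ← map_smul]
      refine (Ideal.toCotangent_eq_zero _ _).mpr ?_
      rw [pow_two]
      refine Ideal.mul_mem_mul ?_ i.2
      simp [RingHom.mem_ker]
  haveI : IsScalarTower P B Ω[A⁄R] := IsScalarTower.of_algebraMap_smul fun r ω => by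
    show q (algebraMap P B r) • ω = φ.symm r • ω
    rw [hμ (φ.symm r), ← hq, RingEquiv.apply_symm_apply]
  have hker : ∀ k, φ.symm (ι k) ∈ KaehlerDifferential.ideal R A := fun k => by
    show Algebra.TensorProduct.lmul' (S := A) R (φ.symm (ι k)) = 0
    rw [← hq, RingEquiv.apply_symm_apply, (hK _).mpr ⟨k, rfl⟩, map_zero]
  let L : K →ₗ[P] Ω[A⁄R] :=
    { toFun := fun k => KaehlerDifferential.fromIdeal R A ⟨φ.symm (ι k), hker k⟩
      map_add' := fun k k' => by
        rw [← map_add]; congr 1; exact Subtype.ext (by simp)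
      map_smul' := fun r k => by
        show _ = φ.symm r • KaehlerDifferential.fromIdeal R A ⟨φ.symm (ι k), hker k⟩
        rw [← map_smul]; congr 1; exact Subtype.ext (by simp) }
  let k := L.liftBaseChange B
  have hp : Function.Surjective (algebraMap P B) := fun b => by
    refine ⟨φ (q b ⊗ₜ 1), q.injective ?_⟩
    rw [hq, Algebra.TensorProduct.lmul'_apply_tmul, mul_one]
  have hone : ∀ t : B ⊗[P] K, ∃ x, (1 : B) ⊗ₜ x = t := by
    intro t
    induction t using TensorProduct.induction_on with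
    | zero => exact ⟨0, TensorProduct.tmul_zero _ _⟩
    | add s t hs ht =>
      obtain ⟨a, rfl⟩ := hs; obtain ⟨b, rfl⟩ := ht
      exact ⟨a + b, TensorProduct.tmul_add _ _ _⟩
    | tmul b x =>
      obtain ⟨r, rfl⟩ := hp b
      exact ⟨r • x, by rw [← TensorProduct.smul_tmul, Algebra.smul_def, mul_one]⟩
  have hpow : ∀ s ∈ KaehlerDifferential.ideal R A ^ 2, ∃ x : K, ι x = φ s ∧ (1 : B) ⊗ₜ[P] x = 0 := by
    intro s hs
    rw [pow_two] at hs
    refine Submodule.mul_induction_on hs (fun a ha b hb => ?_) (fun a b ha hb => ?_)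
    · obtain ⟨x, hx⟩ := (hK (φ b)).mp (q.injective (by rw [hq, map_zero]; exact hb))
      refine ⟨φ a • x, by rw [map_smul, hx, smul_eq_mul, map_mul], ?_⟩
      rw [← TensorProduct.smul_tmul, Algebra.smul_def, mul_one,
        show algebraMap P B (φ a) = 0 from q.injective (by rw [hq, map_zero]; exact ha), TensorProduct.zero_tmul]
    · obtain ⟨x, hx, hx'⟩ := ha; obtain ⟨y, hy, hy'⟩ := hb
      exact ⟨x + y, by rw [map_add, map_add, hx, hy], by rw [TensorProduct.tmul_add, hx', hy', add_zero]⟩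
  have hbij : Function.Bijective k := by
    refine ⟨(injective_iff_map_eq_zero k).mpr fun t ht => ?_, fun ω => ?_⟩
    · obtain ⟨x, rfl⟩ := hone t
      have h1 : L x = 0 := by
        rw [← ht, LinearMap.liftBaseChange_tmul, one_smul]
      obtain ⟨y, hy, hy'⟩ := hpow _ ((Ideal.toCotangent_eq_zero _ _).mp h1)
      rw [RingEquiv.apply_symm_apply] at hy
      rw [← hι hy, hy']
    · obtain ⟨⟨s, hs⟩, rfl⟩ := KaehlerDifferential.fromIdeal_surjective R A ω
      obtain ⟨x, hx⟩ := (hK (φ s)).mp (q.injective (by rw [hq, map_zero]; exact hs))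
      refine ⟨1 ⊗ₜ x, ?_⟩
      rw [LinearMap.liftBaseChange_tmul, one_smul]
      show KaehlerDifferential.fromIdeal R A ⟨φ.symm (ι x), hker x⟩ = _
      congr 1
      exact Subtype.ext (by simp [hx])
  exact ⟨(LinearEquiv.ofBijective k hbij).toAddEquiv, fun b x => k.map_smul b x, fun x _ => by
    show k (1 ⊗ₜ x) = _
    rw [LinearMap.liftBaseChange_tmul, one_smul]
    rfl⟩

/-- A quasi-coherent module on `Spec A` is the tilde of its global sections. -/
theorem nonempty_iso_tilde_of_equiv {A : CommRingCat.{u}} (N : (Spec A).Modules)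
    [N.IsQuasicoherent] {M : Type u} [AddCommGroup M] [Module A M] (F : Γ(N, ⊤) ≃+ M)
    (hF : ∀ (a : A) (y : Γ(N, ⊤)), F ((Scheme.ΓSpecIso A).inv a • y) = a • F y) :
    Nonempty (N ≅ tilde (ModuleCat.of A M)) := by
  have key : ∀ (a : A) (y : Γ(N, ⊤)), a • y = (Scheme.ΓSpecIso A).inv a • y := by
    intro a y
    rw [Scheme.Modules.smul_Spec_def]
    congr 1
  let F' : Γ(N, ⊤) ≃ₗ[A] M :=
    { F with
      map_smul' := fun a y => by
        show F (a • y) = _
        rw [key]
        exact hF a y }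
  haveI : IsIso N.fromTildeΓ := Scheme.Modules.isIso_fromTildeΓ_of_isQuasicoherent N
  exact ⟨(asIso N.fromTildeΓ).symm ≪≫ (tilde.functor A).mapIso
    (show (moduleSpecΓFunctor (R := A)).obj N ≅ ModuleCat.of A M from F'.toModuleIso)⟩

/-- The sheaf of differentials of `Spec A → Spec R` is the tilde of the module of differentials. -/
theorem nonempty_omega_iso_tilde (R A : Type u) [CommRing R] [CommRing A] [Algebra R A] :
    Nonempty (Omega.sheaf (Spec.map (CommRingCat.ofHom (algebraMap R A))) ≅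
      tilde (R := CommRingCat.of A) (ModuleCat.of A Ω[A⁄R])) := by
  let f := Spec.map (CommRingCat.ofHom (algebraMap R A))
  let e := pullbackSpecIso R A A
  let Δ := pullback.diagonal f
  let μ : CommRingCat.of (A ⊗[R] A) ⟶ CommRingCat.of A :=
    CommRingCat.ofHom (Algebra.TensorProduct.lmul' (S := A) R).toRingHom
  have hΔ : Δ = Spec.map μ ≫ e.inv := by
    apply pullback.hom_ext
    · rw [Category.assoc, pullbackSpecIso_inv_fst, pullback.diagonal_fst, ← Spec.map_comp, ← Spec.map_id]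
      congr 1
      ext a
      show a = Algebra.TensorProduct.lmul' (S := A) R (a ⊗ₜ 1)
      rw [Algebra.TensorProduct.lmul'_apply_tmul, mul_one]
    · rw [Category.assoc, pullbackSpecIso_inv_snd, pullback.diagonal_snd, ← Spec.map_comp, ← Spec.map_id]
      congr 1
      ext a
      show a = Algebra.TensorProduct.lmul' (S := A) R (1 ⊗ₜ a)
      rw [Algebra.TensorProduct.lmul'_apply_tmul, one_mul]
  have : IsAffine (pullback f f) := IsAffine.of_isIso e.hom
  have hc : IsClosedImmersion Δ := inferInstance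
  let I := ClSub.idealMod Δ.ker
  have : I.IsQuasicoherent := isQuasicoherent_idealMod _
  have : ((Scheme.Modules.pullback Δ).obj I).IsQuasicoherent := isQuasicoherent_pullback Δ I
  have hV : IsAffineOpen (⊤ : (Spec (CommRingCat.of A)).Opens) := isAffineOpen_top _
  have hU : IsAffineOpen (⊤ : (pullback f f).Opens) := isAffineOpen_top _
  have hle : (⊤ : (Spec (CommRingCat.of A)).Opens) ≤ Δ ⁻¹ᵁ ⊤ := le_top
  obtain ⟨g, -⟩ := exists_sectionsEquiv Δ I hU hV hle
  letI := (Δ.appLE ⊤ ⊤ hle).hom.toAlgebra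
  have happ : Δ.appLE ⊤ ⊤ hle = Δ.appTop := Scheme.Hom.appLE_eq_app Δ
  let ι : Γ(I, ⊤) →ₗ[Γ(pullback f f, ⊤)] Γ(pullback f f, ⊤) :=
    { toFun := fun t => (ClSub.idealModι Δ.ker).app ⊤ t
      map_add' := fun a b => map_add _ a b
      map_smul' := fun r a => Scheme.Modules.Hom.app_smul _ r a }
  let φ : (A ⊗[R] A) ≃+* Γ(pullback f f, ⊤) :=
    ((Scheme.ΓSpecIso (CommRingCat.of (A ⊗[R] A))).symm ≪≫
      Scheme.Γ.mapIso e.op).commRingCatIsoToRingEquiv
  let q : Γ(Spec (CommRingCat.of A), ⊤) ≃+* A := (Scheme.ΓSpecIso (CommRingCat.of A)).commRingCatIsoToRingEquiv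
  have hq : ∀ s, q (algebraMap Γ(pullback f f, ⊤) Γ(Spec (CommRingCat.of A), ⊤) (φ s)) =
      Algebra.TensorProduct.lmul' (S := A) R s := by
    intro s
    have h1 : (Scheme.ΓSpecIso (CommRingCat.of (A ⊗[R] A))).inv ≫ e.hom.appTop ≫ Δ.appTop ≫
        (Scheme.ΓSpecIso (CommRingCat.of A)).hom = μ := by
      rw [← Category.assoc e.hom.appTop, ← Scheme.Hom.comp_appTop, hΔ, Category.assoc, e.inv_hom_id,
        Category.comp_id, ← Category.assoc, ← Scheme.ΓSpecIso_inv_naturality, Category.assoc, Iso.inv_hom_id,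
        Category.comp_id]
    show (Scheme.ΓSpecIso (CommRingCat.of A)).hom (Δ.appLE ⊤ ⊤ hle (e.hom.appTop ((Scheme.ΓSpecIso _).inv s))) = _
    rw [happ]
    exact ConcreteCategory.congr_hom h1 s
  obtain ⟨E, hE, -⟩ := exists_cotangent_equiv ι (idealModι_injective Δ.ker ⊤) (fun x => by
    rw [show (∃ k, ι k = x) ↔ x ∈ Δ.ker.ideal ⟨⊤, hU⟩ from (exists_idealMod_app Δ.ker ⟨⊤, hU⟩ x).symm,
      Scheme.Hom.ker_apply, RingHom.mem_ker]
    show Δ.appLE ⊤ ⊤ hle x = 0 ↔ _
    rw [happ]
    rfl) φ q hq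
  have hqa : ∀ a : A, q ((Scheme.ΓSpecIso (CommRingCat.of A)).inv a) = a := fun a =>
    Iso.inv_hom_id_apply (Scheme.ΓSpecIso (CommRingCat.of A)) a
  refine nonempty_iso_tilde_of_equiv (A := CommRingCat.of A) ((Scheme.Modules.pullback Δ).obj I) (g.symm.toAddEquiv.trans E) ?_
  intro a y
  show E (g.symm ((Scheme.ΓSpecIso (CommRingCat.of A)).inv a • y)) = a • E (g.symm y)
  rw [g.symm.map_smul, hE, hqa]

end Groth.Agent.ModStalk
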