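import Groth.Agent.ModStalk.OmegaLocal
import Groth.Agent.ModStalk.SectionConormal
import Groth.Agent.ModStalk.IsoCriterion
import Mathlib.RingTheory.Kaehler.TensorProduct
import Mathlib.RingTheory.Etale.Kaehler

/-! The canonical maps between sheaves of differentials, on sections over affine opens. -/

set_option autoImplicit false
set_option linter.style.haveILetI false
universe u

open CategoryTheory CategoryTheory.Limits AlgebraicGeometry Opposite TopologicalSpace
open scoped TensorProduct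

namespace Groth.Agent.ModStalk

variable {X₁ S₁ X₂ S₂ : Scheme.{u}} {p₁ : X₁ ⟶ S₁} {p₂ : X₂ ⟶ S₂} {h : X₂ ⟶ X₁}
variable {Ω₁ : X₁.Modules} {d₁ : OmegaSh.Der p₁ Ω₁} {Ω₂ : X₂.Modules} {d₂ : OmegaSh.Der p₂ Ω₂}
variable {c : (Scheme.Modules.pullback h).obj Ω₁ ⟶ Ω₂}

theorem compat_pullSec (hc : OmegaSh.IsDiffCompat h d₁ d₂ c) {U : X₁.Opens} {U' : X₂.Opens}
    (hle : U' ≤ h ⁻¹ᵁ U) (s : Γ(X₁, U)) :
    c.app U' (pullSec h Ω₁ hle (d₁.app U s)) = d₂.app U' (h.appLE U U' hle s) := by
  refine (app_res c hle _).trans ?_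
  refine (congrArg (Ω₂.presheaf.map (homOfLE hle).op) (hc U s)).trans ?_
  exact (d₂.d_map (homOfLE hle).op (h.app U s)).symm

/-- A map compatible with universal derivations is bijective on an affine open as soon as the map of differentials
of the section rings is a base change. -/
theorem app_bijective_of_map (hc : OmegaSh.IsDiffCompat h d₁ d₂ c) (hd₁ : OmegaSh.IsUniversal d₁)
    (hd₂ : OmegaSh.IsUniversal d₂) {V : S₁.Opens} {U : X₁.Opens} {V' : S₂.Opens} {U' : X₂.Opens}
    (hV : IsAffineOpen V) (hU : IsAffineOpen U) (hV' : IsAffineOpen V') (hU' : IsAffineOpen U')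
    (h₁ : U ≤ p₁ ⁻¹ᵁ V) (h₂ : U' ≤ p₂ ⁻¹ᵁ V') (hle : U' ≤ h ⁻¹ᵁ U)
    [iAB : Algebra Γ(S₁, V) Γ(X₁, U)] [iA'B' : Algebra Γ(S₂, V') Γ(X₂, U')] [Algebra Γ(S₁, V) Γ(S₂, V')]
    [iBB' : Algebra Γ(X₁, U) Γ(X₂, U')] [Algebra Γ(S₁, V) Γ(X₂, U')]
    [IsScalarTower Γ(S₁, V) Γ(S₂, V') Γ(X₂, U')] [IsScalarTower Γ(S₁, V) Γ(X₁, U) Γ(X₂, U')]
    (e₁ : algebraMap Γ(S₁, V) Γ(X₁, U) = (p₁.appLE V U h₁).hom)
    (e₂ : algebraMap Γ(S₂, V') Γ(X₂, U') = (p₂.appLE V' U' h₂).hom)
    (e₃ : algebraMap Γ(X₁, U) Γ(X₂, U') = (h.appLE U U' hle).hom)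
    (hbij : Function.Bijective
      ((KaehlerDifferential.map Γ(S₁, V) Γ(S₂, V') Γ(X₁, U) Γ(X₂, U')).liftBaseChange Γ(X₂, U'))) :
    Function.Bijective (c.app U') := by
  obtain rfl : iAB = (p₁.appLE V U h₁).hom.toAlgebra := Algebra.algebra_ext _ _ fun r => RingHom.congr_fun e₁ r
  obtain rfl : iA'B' = (p₂.appLE V' U' h₂).hom.toAlgebra := Algebra.algebra_ext _ _ fun r => RingHom.congr_fun e₂ r
  obtain rfl : iBB' = (h.appLE U U' hle).hom.toAlgebra := Algebra.algebra_ext _ _ fun r => RingHom.congr_fun e₃ r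
  letI := (p₁.appLE V U h₁).hom.toAlgebra
  letI := (p₂.appLE V' U' h₂).hom.toAlgebra
  letI := (h.appLE U U' hle).hom.toAlgebra
  obtain ⟨T₁, hT₁⟩ := exists_kaehlerEquiv h₁ hd₁ hV hU
  obtain ⟨T₂, hT₂⟩ := exists_kaehlerEquiv h₂ hd₂ hV' hU'
  have : Ω₁.IsQuasicoherent := isQCoh_of_isUniversal hd₁
  obtain ⟨e, he⟩ := exists_sectionsEquiv h Ω₁ hU hU' hle
  let L : Γ((Scheme.Modules.pullback h).obj Ω₁, U') →ₗ[Γ(X₂, U')] Γ(Ω₂, U') :=
    { toFun := fun x => c.app U' x, map_add' := fun a b => map_add _ a b, map_smul' := fun r x => c.app_smul r x }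
  let E : Γ(X₂, U') ⊗[Γ(X₁, U)] Ω[Γ(X₁, U)⁄Γ(S₁, V)] ≃ₗ[Γ(X₂, U')] Γ((Scheme.Modules.pullback h).obj Ω₁, U') :=
    (LinearEquiv.baseChange Γ(X₁, U) Γ(X₂, U') _ _ T₁).trans e
  letI : Module Γ(X₁, U) Γ(Ω₂, U') := Module.compHom _ (h.appLE U U' hle).hom
  haveI : IsScalarTower Γ(X₁, U) Γ(X₂, U') Γ(Ω₂, U') := IsScalarTower.of_algebraMap_smul fun _ _ => rfl
  have key : L ∘ₗ E.toLinearMap = T₂.toLinearMap ∘ₗ
      (KaehlerDifferential.map Γ(S₁, V) Γ(S₂, V') Γ(X₁, U) Γ(X₂, U')).liftBaseChange Γ(X₂, U') := by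
    refine TensorProduct.AlgebraTensorModule.ext fun b x => ?_
    have hmem : x ∈ Submodule.span Γ(X₁, U) (Set.range (KaehlerDifferential.D Γ(S₁, V) Γ(X₁, U))) := by
      rw [KaehlerDifferential.span_range_derivation]; trivial
    induction hmem using Submodule.span_induction with
    | mem x hx =>
      obtain ⟨a, rfl⟩ := hx
      have hb : b ⊗ₜ[Γ(X₁, U)] KaehlerDifferential.D Γ(S₁, V) Γ(X₁, U) a =
          b • ((1 : Γ(X₂, U')) ⊗ₜ[Γ(X₁, U)] KaehlerDifferential.D Γ(S₁, V) Γ(X₁, U) a) := by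
        rw [TensorProduct.smul_tmul', smul_eq_mul, mul_one]
      rw [hb, map_smul, map_smul]
      refine congrArg (b • ·) ?_
      show c.app U' (e (LinearEquiv.baseChange Γ(X₁, U) Γ(X₂, U') _ _ T₁ (1 ⊗ₜ KaehlerDifferential.D _ _ a))) = _
      rw [LinearEquiv.baseChange_tmul, hT₁, he, compat_pullSec hc hle a]
      simp only [LinearMap.comp_apply, LinearEquiv.coe_coe, LinearMap.liftBaseChange_tmul, one_smul,
        KaehlerDifferential.map_D]
      exact (hT₂ _).symm
    | zero => simp only [TensorProduct.tmul_zero, map_zero]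
    | add a a' _ _ ha ha' => simp only [TensorProduct.tmul_add, map_add, ha, ha']
    | smul r a _ ha =>
      rw [TensorProduct.tmul_smul, ← algebraMap_smul Γ(X₂, U') r (b ⊗ₜ[Γ(X₁, U)] a), map_smul, map_smul, ha]
  have hL : Function.Bijective L := by
    refine (Function.Bijective.of_comp_iff (f := L) E.bijective).mp ?_
    have : ⇑L ∘ ⇑E = ⇑T₂ ∘ ⇑((KaehlerDifferential.map Γ(S₁, V) Γ(S₂, V') Γ(X₁, U) Γ(X₂, U')).liftBaseChange
        Γ(X₂, U')) := congrArg DFunLike.coe key
    rw [this]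
    exact T₂.bijective.comp hbij
  exact hL

/-- The base change of differentials along étale maps of both rings. -/
theorem bijective_liftBaseChange_map_of_etale (A B A' B' : Type u) [CommRing A] [CommRing B] [CommRing A']
    [CommRing B'] [Algebra A B] [Algebra A' B'] [Algebra A A'] [Algebra B B'] [Algebra A B']
    [IsScalarTower A A' B'] [IsScalarTower A B B'] [Algebra.FormallyEtale B B']
    [Algebra.FormallyUnramified A A'] :
    Function.Bijective ((KaehlerDifferential.map A A' B B').liftBaseChange B') := by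
  have h1 : (KaehlerDifferential.map A A' B B').liftBaseChange B' =
      (KaehlerDifferential.map A A' B' B') ∘ₗ (KaehlerDifferential.tensorKaehlerEquivOfFormallyEtale A B B').toLinearMap := by
    refine TensorProduct.AlgebraTensorModule.ext fun b x => ?_
    simp only [LinearMap.comp_apply, LinearEquiv.coe_coe, LinearMap.liftBaseChange_tmul,
      KaehlerDifferential.tensorKaehlerEquivOfFormallyEtale_apply, KaehlerDifferential.mapBaseChange_tmul, map_smul]
    congr 1
    refine LinearMap.congr_fun (f := KaehlerDifferential.map A A' B B')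
      (g := ((KaehlerDifferential.map A A' B' B').restrictScalars B).comp (KaehlerDifferential.map A A B B'))
      (Derivation.liftKaehlerDifferential_unique _ _ ?_) x
    ext a
    simp
  rw [h1, LinearMap.coe_comp]
  refine Function.Bijective.comp ⟨?_, KaehlerDifferential.map_surjective A A' B'⟩
    (KaehlerDifferential.tensorKaehlerEquivOfFormallyEtale A B B').bijective
  rw [injective_iff_map_eq_zero]
  intro x hx
  obtain ⟨y, rfl⟩ := (KaehlerDifferential.exact_mapBaseChange_map A A' B' x).mp hx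
  rw [Subsingleton.elim y 0, map_zero]

/-- The base change of differentials along a pushout of rings. -/
theorem bijective_liftBaseChange_map_of_isPushout (A B A' B' : Type u) [CommRing A] [CommRing B] [CommRing A']
    [CommRing B'] [Algebra A B] [Algebra A' B'] [Algebra A A'] [Algebra B B'] [Algebra A B']
    [IsScalarTower A A' B'] [IsScalarTower A B B'] [Algebra.IsPushout A A' B B'] :
    Function.Bijective ((KaehlerDifferential.map A A' B B').liftBaseChange B') := by
  have h1 : (KaehlerDifferential.map A A' B B').liftBaseChange B' =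
      (KaehlerDifferential.tensorKaehlerEquiv A A' B B').toLinearMap := by
    refine TensorProduct.AlgebraTensorModule.ext fun b x => ?_
    have hmem : x ∈ Submodule.span B (Set.range (KaehlerDifferential.D A B)) := by
      rw [KaehlerDifferential.span_range_derivation]; trivial
    induction hmem using Submodule.span_induction with
    | mem x hx =>
      obtain ⟨a, rfl⟩ := hx
      simp
    | zero => simp only [TensorProduct.tmul_zero, map_zero]
    | add a a' _ _ ha ha' => simp only [TensorProduct.tmul_add, map_add, ha, ha']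
    | smul r a _ ha =>
      rw [TensorProduct.tmul_smul, ← algebraMap_smul B' r (b ⊗ₜ[B] a), map_smul, map_smul, ha]
  rw [h1]
  exact (KaehlerDifferential.tensorKaehlerEquiv A A' B B').bijective

end Groth.Agent.ModStalk
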