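import Groth.Agent.ModStalk.OmegaUniv
import Groth.Agent.ModStalk.AlgMod

/-! Universal derivations of arbitrary morphisms, locally: sections over affine opens are Kähler differentials. -/

set_option autoImplicit false
set_option linter.style.haveILetI false
universe u

open CategoryTheory CategoryTheory.Limits AlgebraicGeometry Opposite TopologicalSpace
open scoped TensorProduct

namespace Groth.Agent.ModStalk

variable {X Y : Scheme.{u}} {p : X ⟶ Y} {U : X.Opens} {V : Y.Opens} (h : U ≤ p ⁻¹ᵁ V)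

theorem resLE_app_eq (O : (V : Scheme.{u}).Opens) (c : Γ((V : Scheme.{u}), O)) :
    ∃ hle : U.ι ''ᵁ (p.resLE V U h ⁻¹ᵁ O) ≤ p ⁻¹ᵁ (V.ι ''ᵁ O),
      (p.resLE V U h).app O c = X.presheaf.map (homOfLE hle).op (p.app (V.ι ''ᵁ O) c) := by
  refine ⟨(Scheme.Hom.le_resLE_preimage_iff p h O _).mp le_rfl, ?_⟩
  rw [Scheme.Hom.app_eq_appLE, Scheme.Hom.resLE_appLE]
  rfl

omit h in
theorem smul_restrictι {F : X.Modules} (W : (U : Scheme.{u}).Opens) (r : Γ((U : Scheme.{u}), W))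
    (m : Γ(F.restrict U.ι, W)) :
    (show Γ(F, U.ι ''ᵁ W) from r • m) = (show Γ(X, U.ι ''ᵁ W) from r) • (show Γ(F, U.ι ''ᵁ W) from m) := by
  change (U.ι.appIso W).inv r • (show Γ(F, U.ι ''ᵁ W) from m) = _
  rw [Scheme.Opens.ι_appIso]
  rfl

/-- A derivation restricted to opens of the source and of the base. -/
noncomputable def derRestrict {F : X.Modules} (d : OmegaSh.Der p F) :
    OmegaSh.Der (p.resLE V U h) (F.restrict U.ι) where
  d {W} := d.app (U.ι ''ᵁ W.unop)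
  d_mul {W} a b := by
    refine (d.d_mul (X := op (U.ι ''ᵁ W.unop)) a b).trans ?_
    exact (congrArg₂ (fun x y : Γ(F, U.ι ''ᵁ W.unop) => x + y) (smul_restrictι (F := F) W.unop a _)
      (smul_restrictι (F := F) W.unop b _)).symm
  d_map {W W'} i a := d.d_map (U.ι.opensFunctor.map i.unop).op a
  d_app {O} c := by
    obtain ⟨hle, he⟩ := resLE_app_eq h O.unop c
    show d.app (U.ι ''ᵁ (p.resLE V U h ⁻¹ᵁ O.unop)) ((p.resLE V U h).app O.unop c) = 0
    rw [he]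
    refine (d.d_map (homOfLE hle).op (p.app (V.ι ''ᵁ O.unop) c)).trans ?_
    exact (congrArg (F.val.map (homOfLE hle).op) (d.d_app (X := op (V.ι ''ᵁ O.unop)) c)).trans (map_zero _)

theorem smul_push {G : (U : Scheme.{u}).Modules} {W : X.Opens} (a : Γ(X, W)) (m : Γ(G, U.ι ⁻¹ᵁ W)) :
    (show Γ(G, U.ι ⁻¹ᵁ W) from a • (show Γ((Scheme.Modules.pushforward U.ι).obj G, W) from m)) =
      U.ι.app W a • m := rfl

/-- A derivation on an open extends into the direct image. -/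
noncomputable def derExtend {G : (U : Scheme.{u}).Modules} (D : OmegaSh.Der (p.resLE V U h) G) :
    OmegaSh.Der p ((Scheme.Modules.pushforward U.ι).obj G) where
  d {W} := (D.app (U.ι ⁻¹ᵁ W.unop)).comp (U.ι.app W.unop).hom.toAddMonoidHom
  d_mul {W} a b := by
    show D.app _ (U.ι.app W.unop (a * b)) =
      U.ι.app W.unop a • D.app _ (U.ι.app W.unop b) + U.ι.app W.unop b • D.app _ (U.ι.app W.unop a)
    rw [map_mul]
    exact D.d_mul _ _
  d_map {W W'} i a := by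
    show D.app _ (U.ι.app W'.unop (X.presheaf.map i a)) =
      G.presheaf.map ((Opens.map U.ι.base).map i.unop).op (D.app _ (U.ι.app W.unop a))
    rw [show U.ι.app W'.unop (X.presheaf.map i a) = (U : Scheme.{u}).presheaf.map ((Opens.map U.ι.base).map i.unop).op
      (U.ι.app W.unop a) from ConcreteCategory.congr_hom (U.ι.naturality i) a]
    exact D.d_map _ _
  d_app {O} c := by
    show D.app (U.ι ⁻¹ᵁ (p ⁻¹ᵁ O.unop)) (U.ι.app (p ⁻¹ᵁ O.unop) (p.app O.unop c)) = 0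
    have hw : U.ι ≫ p = p.resLE V U h ≫ V.ι := (Scheme.Hom.resLE_comp_ι p h).symm
    have hle : U.ι ⁻¹ᵁ (p ⁻¹ᵁ O.unop) ≤ p.resLE V U h ⁻¹ᵁ (V.ι ⁻¹ᵁ O.unop) := by
      rw [← Scheme.Hom.comp_preimage, hw, Scheme.Hom.comp_preimage]
    have he : U.ι.app (p ⁻¹ᵁ O.unop) (p.app O.unop c) =
        (U : Scheme.{u}).presheaf.map (homOfLE hle).op ((p.resLE V U h).app (V.ι ⁻¹ᵁ O.unop) (V.ι.app O.unop c)) := by
      show (p.app O.unop ≫ U.ι.app (p ⁻¹ᵁ O.unop)) c =
        ((V.ι.app O.unop ≫ (p.resLE V U h).app _) ≫ (U : Scheme.{u}).presheaf.map (homOfLE hle).op) c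
      rw [← Scheme.Hom.comp_app, ← Scheme.Hom.comp_app, Scheme.Hom.congr_app hw]
      rfl
    rw [he]
    refine (D.d_map (homOfLE hle).op _).trans ?_
    exact (congrArg (G.val.map (homOfLE hle).op) (D.d_app (X := op (V.ι ⁻¹ᵁ O.unop)) (V.ι.app O.unop c))).trans
      (map_zero _)

variable {Ω : X.Modules} {d : OmegaSh.Der p Ω} (hd : OmegaSh.IsUniversal d)

include hd in
/-- The restriction of a universal derivation is universal. -/
theorem isUniversal_derRestrict : OmegaSh.IsUniversal (derRestrict h d) := by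
  intro G D
  let adj := Scheme.Modules.restrictAdjunction U.ι
  obtain ⟨α, hα, huniq⟩ := hd _ (derExtend h D)
  have hαd : ∀ (W : X.Opens) (s : Γ(X, W)), α.app W (d.app W s) = D.app (U.ι ⁻¹ᵁ W) (U.ι.app W s) :=
    fun W s => PresheafOfModules.Derivation.congr_d hα (X := op W) s
  have hres : ∀ (W : (U : Scheme.{u}).Opens) (s : Γ(X, U.ι ''ᵁ W)),
      (U : Scheme.{u}).presheaf.map (eqToHom (U.ι.preimage_image_eq W).symm).op (U.ι.app (U.ι ''ᵁ W) s) = s := by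
    intro W s
    show (X.presheaf.map _ ≫ X.presheaf.map _) s = s
    rw [← Functor.map_comp]
    refine (congr($(congrArg X.presheaf.map (Subsingleton.elim _ (𝟙 (op (U.ι ''ᵁ W))))) s)).trans ?_
    rw [CategoryTheory.Functor.map_id]
    rfl
  refine ⟨(adj.homEquiv Ω G).symm α, ?_, fun β hβ => ?_⟩
  · refine PresheafOfModules.Derivation.ext ?_
    funext W
    ext s
    show ((adj.homEquiv Ω G).symm α).app W.unop (d.app (U.ι ''ᵁ W.unop) s) = D.app W.unop s
    rw [Adjunction.homEquiv_counit]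
    show (adj.counit.app G).app W.unop (α.app (U.ι ''ᵁ W.unop) (d.app (U.ι ''ᵁ W.unop) s)) = _
    rw [hαd, Scheme.Modules.restrictAdjunction_counit_app_app]
    refine (D.d_map (eqToHom (U.ι.preimage_image_eq W.unop).symm).op _).symm.trans ?_
    exact congrArg (D.app W.unop) (hres W.unop s)
  · rw [Equiv.eq_symm_apply]
    refine huniq _ (PresheafOfModules.Derivation.ext ?_)
    funext W
    ext s
    show (adj.homEquiv Ω G β).app W.unop (d.app W.unop s) = D.app (U.ι ⁻¹ᵁ W.unop) (U.ι.app W.unop s)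
    rw [Adjunction.homEquiv_unit]
    show β.app (U.ι ⁻¹ᵁ W.unop) ((adj.unit.app Ω).app W.unop (d.app W.unop s)) = _
    rw [Scheme.Modules.restrictAdjunction_unit_app_app]
    refine (congrArg (β.app (U.ι ⁻¹ᵁ W.unop)) (d.d_map (homOfLE (U.ι.image_preimage_le W.unop)).op s).symm).trans ?_
    exact PresheafOfModules.Derivation.congr_d hβ (X := op (U.ι ⁻¹ᵁ W.unop)) _

omit h hd in
theorem exists_iso_of_universal {Z T : Scheme.{u}} {q : Z ⟶ T} {Ω₁ Ω₂ : Z.Modules} {d₁ : OmegaSh.Der q Ω₁}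
    {d₂ : OmegaSh.Der q Ω₂} (h₁ : OmegaSh.IsUniversal d₁) (h₂ : OmegaSh.IsUniversal d₂) :
    ∃ e : Ω₁ ≅ Ω₂, ∀ (W : Z.Opens) (s : Γ(Z, W)), e.hom.app W (d₁.app W s) = d₂.app W s := by
  obtain ⟨a, ha, -⟩ := h₁ _ d₂
  obtain ⟨b, hb, -⟩ := h₂ _ d₁
  have ha' : ∀ (W : Z.Opensᵒᵖ) (s : Γ(Z, W.unop)), a.app W.unop (d₁.app W.unop s) = d₂.app W.unop s :=
    fun W s => PresheafOfModules.Derivation.congr_d ha (X := W) s
  have hb' : ∀ (W : Z.Opensᵒᵖ) (s : Γ(Z, W.unop)), b.app W.unop (d₂.app W.unop s) = d₁.app W.unop s :=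
    fun W s => PresheafOfModules.Derivation.congr_d hb (X := W) s
  refine ⟨⟨a, b, (h₁ _ d₁).unique ?_ ?_, (h₂ _ d₂).unique ?_ ?_⟩, fun W s => ha' (op W) s⟩
  · refine PresheafOfModules.Derivation.ext ?_
    funext W
    ext s
    show b.app W.unop (a.app W.unop (d₁.app W.unop s)) = _
    rw [ha', hb']
    rfl
  · rfl
  · refine PresheafOfModules.Derivation.ext ?_
    funext W
    ext s
    show a.app W.unop (b.app W.unop (d₂.app W.unop s)) = _
    rw [hb', ha']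
    rfl
  · rfl

omit h hd in
theorem bijective_lift_of {Z T : Scheme.{u}} (q : Z ⟶ T) [QuasiSeparated q] (hle : (⊤ : Z.Opens) ≤ q ⁻¹ᵁ ⊤)
    (hT : Function.Bijective (OmAff.toSect q ⊤ ⊤ hle)) {A B N : Type u} [CommRing A] [CommRing B] [algAB : Algebra A B]
    [AddCommGroup N] [Module B N] {φ : Γ(T, ⊤) →+* Γ(Z, ⊤)} (hφ : (q.appLE ⊤ ⊤ hle).hom = φ)
    (qA : Γ(T, ⊤) ≃+* A) (qB : Γ(Z, ⊤) ≃+* B) (hq : ∀ a, qB (φ a) = algebraMap A B (qA a))
    (T' : Ω[B⁄A] →ₗ[B] N) (i : N →+ Γ(Omega.sheaf q, ⊤)) (hi : Function.Bijective i)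
    (hsm : ∀ (b : B) n, i (b • n) = qB.symm b • i n)
    (h0 : ∀ b, i (T' (KaehlerDifferential.D A B b)) = OmegaSh.dSect q ⊤ (qB.symm b)) : Function.Bijective T' := by
  letI := (q.appLE ⊤ ⊤ hle).hom.toAlgebra
  let S : Ω[B⁄A] →ₛₗ[qB.symm.toRingHom] Γ(Omega.sheaf q, ⊤) :=
    { toFun := fun x => i (T' x)
      map_add' := fun x y => by rw [map_add, map_add]
      map_smul' := fun b x => by rw [map_smul, hsm]; rfl }
  have hS := bijective_transport qA qB (fun a => by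
      rw [← hq, ← hφ]
      rfl) (OmAff.toSect q ⊤ ⊤ hle).hom hT qB.symm.toRingHom (fun b => rfl) S
    (fun b => (h0 b).trans (OmAff.toSect_d q ⊤ ⊤ hle (qB.symm b)).symm)
  exact (Function.Bijective.of_comp_iff' hi T').mp hS

include h hd in
theorem isQuasicoherent_restrict_of_isUniversal (hV : IsAffineOpen V) (hU : IsAffineOpen U) :
    (Ω.restrict U.ι).IsQuasicoherent := by
  haveI : IsAffine (V : Scheme.{u}) := hV
  haveI : IsAffine (U : Scheme.{u}) := hU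
  obtain ⟨e, -⟩ := exists_iso_of_universal (isUniversal_derRestrict h hd) (isUniversal_dOmega (p.resLE V U h))
  have hq : (Omega.sheaf (p.resLE V U h)).IsQuasicoherent := by
    have : (ClSub.idealMod (pullback.diagonal (p.resLE V U h)).ker).IsQuasicoherent := isQuasicoherent_idealMod _
    exact isQuasicoherent_pullback _ _
  exact (SheafOfModules.isQuasicoherent (U : Scheme.{u}).ringCatSheaf).prop_of_iso e.symm hq

include h hd in
/-- Sections of a universal receptacle over an affine open are the differentials. -/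
theorem exists_kaehlerEquiv_aux (hV : IsAffineOpen V) (hU : IsAffineOpen U) {U₁ : X.Opens} {V₁ : Y.Opens}
    (hU₁ : U₁ = U.ι ''ᵁ ⊤) (hV₁ : V₁ = V.ι ''ᵁ ⊤) (h₁ : U₁ ≤ p ⁻¹ᵁ V₁) :
    letI := (p.appLE V₁ U₁ h₁).hom.toAlgebra
    ∃ T : Ω[Γ(X, U₁)⁄Γ(Y, V₁)] ≃ₗ[Γ(X, U₁)] Γ(Ω, U₁), ∀ b, T (KaehlerDifferential.D _ _ b) = d.app U₁ b := by
  subst hU₁ hV₁
  haveI : IsAffine (V : Scheme.{u}) := hV
  haveI : IsAffine (U : Scheme.{u}) := hU
  let W := U.ι ''ᵁ ⊤
  letI : Algebra Γ(Y, V.ι ''ᵁ ⊤) Γ(X, W) := (p.appLE (V.ι ''ᵁ ⊤) W h₁).hom.toAlgebra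
  letI : Module Γ(Y, V.ι ''ᵁ ⊤) Γ(Ω, W) := Module.compHom _ (p.appLE (V.ι ''ᵁ ⊤) W h₁).hom
  haveI : IsScalarTower Γ(Y, V.ι ''ᵁ ⊤) Γ(X, W) Γ(Ω, W) := IsScalarTower.of_algebraMap_smul fun _ _ => rfl
  let D : Derivation Γ(Y, V.ι ''ᵁ ⊤) Γ(X, W) Γ(Ω, W) :=
    { toFun := fun b => d.app W b
      map_add' := fun a b => map_add _ a b
      map_smul' := fun c b => by
        show d.app W (c • b) = p.appLE (V.ι ''ᵁ ⊤) W h₁ c • d.app W b
        have h0 : d.app W (p.appLE (V.ι ''ᵁ ⊤) W h₁ c) = 0 := by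
          refine (d.d_map (homOfLE h₁).op (p.app (V.ι ''ᵁ ⊤) c)).trans ?_
          exact (congrArg (Ω.val.map (homOfLE h₁).op) (d.d_app c)).trans (map_zero _)
        rw [Algebra.smul_def]
        refine (d.d_mul _ _).trans ?_
        show p.appLE (V.ι ''ᵁ ⊤) W h₁ c • d.app W b + b • d.app W (p.appLE (V.ι ''ᵁ ⊤) W h₁ c) = _
        rw [h0, smul_zero, add_zero]
      map_one_eq_zero' := by
        show d.app W 1 = 0
        exact d.d_one (op W)
      leibniz' := fun a b => d.d_mul a b }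
  obtain ⟨e, he⟩ := exists_iso_of_universal (isUniversal_derRestrict h hd) (isUniversal_dOmega (p.resLE V U h))
  let q := p.resLE V U h
  have hle : (⊤ : (U : Scheme.{u}).Opens) ≤ q ⁻¹ᵁ ⊤ := le_top
  have hT := toSect_bijective q (isAffineOpen_top _) (isAffineOpen_top _) hle
  have halg : (q.appLE ⊤ ⊤ hle).hom = (p.appLE (V.ι ''ᵁ ⊤) W h₁).hom := by
    rw [Scheme.Hom.resLE_appLE]
    rfl
  let T' : Ω[Γ(X, W)⁄Γ(Y, V.ι ''ᵁ ⊤)] →ₗ[Γ(X, W)] Γ(Ω, W) := D.liftKaehlerDifferential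
  refine ⟨LinearEquiv.ofBijective T' ?_, fun b => D.liftKaehlerDifferential_comp_D b⟩
  exact bijective_lift_of (algAB := (p.appLE (V.ι ''ᵁ ⊤) W h₁).hom.toAlgebra) (A := Γ(Y, V.ι ''ᵁ ⊤)) (B := Γ(X, W)) (N := Γ(Ω, W)) q hle hT halg (RingEquiv.refl _)
    (RingEquiv.refl _) (fun a => rfl) T'
    (e.hom.app ⊤).hom (ConcreteCategory.bijective_of_isIso (e.hom.app ⊤)) (fun b n => (congrArg (e.hom.app ⊤) (smul_restrictι (F := Ω) ⊤ b n).symm).trans
      (e.hom.app_smul b n))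
    (fun b => (congrArg (e.hom.app ⊤) (D.liftKaehlerDifferential_comp_D b)).trans (he ⊤ b))

include h hd in
/-- Sections of a universal receptacle over an affine open are the differentials. -/
theorem exists_kaehlerEquiv (hV : IsAffineOpen V) (hU : IsAffineOpen U) :
    letI := (p.appLE V U h).hom.toAlgebra
    ∃ T : Ω[Γ(X, U)⁄Γ(Y, V)] ≃ₗ[Γ(X, U)] Γ(Ω, U), ∀ b, T (KaehlerDifferential.D _ _ b) = d.app U b :=
  exists_kaehlerEquiv_aux h hd hV hU U.ι_image_top.symm V.ι_image_top.symm h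

include hd in
/-- The receptacle of a universal derivation is quasi-coherent. -/
theorem isQCoh_of_isUniversal : Coh.IsQCoh Ω := by
  refine AlgMod.isQuasicoherent_restrict_iff_cover Ω fun x => ?_
  obtain ⟨_, ⟨V', hV', rfl⟩, hxV, -⟩ := Y.isBasis_affineOpens.exists_subset_of_mem_open (Set.mem_univ (p x)) isOpen_univ
  obtain ⟨_, ⟨U', hU', rfl⟩, hxU, hle⟩ :=
    X.isBasis_affineOpens.exists_subset_of_mem_open (show x ∈ p ⁻¹ᵁ V' from hxV) (p ⁻¹ᵁ V').2
  refine ⟨U', hxU, hU', ?_⟩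
  exact isQuasicoherent_restrict_of_isUniversal hle hd hV' hU'

end Groth.Agent.ModStalk
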