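import Groth.Agent.ModStalk.OmegaAffine
import Groth.Prelude.Def_OmAff
import Mathlib.AlgebraicGeometry.Morphisms.Flat

/-! Sections of the sheaf of differentials over affine opens. -/

set_option autoImplicit false
set_option linter.style.haveILetI false
universe u

open CategoryTheory CategoryTheory.Limits AlgebraicGeometry Opposite TopologicalSpace
open scoped TensorProduct

namespace Groth.Agent.ModStalk

/-- An additive map inverse to a linear map out of the differentials, tested on generators. -/
theorem bijective_of_left_inverse_D {R A N : Type u} [CommRing R] [CommRing A] [Algebra R A] [AddCommGroup N]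
    [Module A N] (T : Ω[A⁄R] →ₗ[A] N) (F : N →+ Ω[A⁄R]) (hsm : ∀ (a : A) n, F (a • n) = a • F n)
    (hF : Function.Bijective F) (h : ∀ b, F (T (KaehlerDifferential.D R A b)) = KaehlerDifferential.D R A b) :
    Function.Bijective T := by
  let F' : N →ₗ[A] Ω[A⁄R] := { F with map_smul' := hsm }
  have h1 : F'.comp T = LinearMap.id :=
    LinearMap.ext_on (KaehlerDifferential.span_range_derivation R A) (by rintro _ ⟨b, rfl⟩; exact h b)
  have h2 : Function.Bijective (F'.comp T) := by rw [h1]; exact Function.bijective_id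
  exact (Function.Bijective.of_comp_iff' hF T).mp h2

variable {X Y : Scheme.{u}} (f : X ⟶ Y)

theorem isAffineOpen_diagNbhd {V : Y.Opens} (hV : IsAffineOpen V) {U : X.Opens} (hU : IsAffineOpen U)
    (h : U ≤ f ⁻¹ᵁ V) : IsAffineOpen (OmegaSh.diagNbhd f U) := by
  have : IsAffine _ := hV
  have : IsAffine _ := hU
  exact .of_isIso (Scheme.Hom.isPullback_resLE (IsPullback.of_hasPullback f f) h h
    (rfl : OmegaSh.diagNbhd f U = _)).isoPullback.hom

theorem isPushout_diagNbhd {V : Y.Opens} (hV : IsAffineOpen V) {U : X.Opens} (hU : IsAffineOpen U)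
    (h : U ≤ f ⁻¹ᵁ V) :
    IsPushout (f.appLE V U h) (f.appLE V U h) ((pullback.fst f f).appLE U (OmegaSh.diagNbhd f U) inf_le_left)
      ((pullback.snd f f).appLE U (OmegaSh.diagNbhd f U) inf_le_right) :=
  (isIso_pushoutSection_iff (IsPullback.of_hasPullback f f) h h rfl).mp
    (isIso_pushoutSection_of_isAffineOpen (IsPullback.of_hasPullback f f) h h rfl hV hU hU)

theorem diagonal_appLE_retraction (p : pullback f f ⟶ X) (hp : pullback.diagonal f ≫ p = 𝟙 X) (U : X.Opens)
    (e : OmegaSh.diagNbhd f U ≤ p ⁻¹ᵁ U) (a : Γ(X, U)) :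
    (pullback.diagonal f).appLE (OmegaSh.diagNbhd f U) U (OmegaSh.le_preimage_diagNbhd f U)
      (p.appLE U (OmegaSh.diagNbhd f U) e a) = a :=
  OmegaSh.res_diagonal_app_appLE f p hp U e a

/-- Sections of the differentials over affine opens are the differentials of the section rings. -/
theorem toSect_bijective [QuasiSeparated f] {V : Y.Opens} (hV : IsAffineOpen V) {U : X.Opens}
    (hU : IsAffineOpen U) (h : U ≤ f ⁻¹ᵁ V) : Function.Bijective (OmAff.toSect f V U h) := by
  let W := OmegaSh.diagNbhd f U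
  have hW : IsAffineOpen W := isAffineOpen_diagNbhd f hV hU h
  let Δ := pullback.diagonal f
  let I := ClSub.idealMod Δ.ker
  have : I.IsQuasicoherent := isQuasicoherent_idealMod _
  have hle : U ≤ Δ ⁻¹ᵁ W := OmegaSh.le_preimage_diagNbhd f U
  obtain ⟨g, hg⟩ := exists_sectionsEquiv Δ I hW hU hle
  letI := (f.appLE V U h).hom.toAlgebra
  letI := (Δ.appLE W U hle).hom.toAlgebra
  let eW := ((CommRingCat.isPushout_tensorProduct Γ(Y, V) Γ(X, U) Γ(X, U)).isoIsPushout _ _
    (isPushout_diagNbhd f hV hU h))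
  let φ : (Γ(X, U) ⊗[Γ(Y, V)] Γ(X, U)) ≃+* Γ(pullback f f, W) := eW.commRingCatIsoToRingEquiv
  have hl : ∀ a : Γ(X, U), φ (a ⊗ₜ 1) = (pullback.fst f f).appLE U W inf_le_left a := fun a =>
    ConcreteCategory.congr_hom (IsPushout.inl_isoIsPushout_hom _ _
      (CommRingCat.isPushout_tensorProduct Γ(Y, V) Γ(X, U) Γ(X, U)) (isPushout_diagNbhd f hV hU h)) a
  have hr : ∀ a : Γ(X, U), φ (1 ⊗ₜ a) = (pullback.snd f f).appLE U W inf_le_right a := fun a =>
    ConcreteCategory.congr_hom (IsPushout.inr_isoIsPushout_hom _ _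
      (CommRingCat.isPushout_tensorProduct Γ(Y, V) Γ(X, U) Γ(X, U)) (isPushout_diagNbhd f hV hU h)) a
  have hq : ∀ s, RingEquiv.refl Γ(X, U) (algebraMap Γ(pullback f f, W) Γ(X, U) (φ s)) =
      Algebra.TensorProduct.lmul' (S := Γ(X, U)) Γ(Y, V) s := by
    intro s
    induction s using TensorProduct.induction_on with
    | zero => simp
    | add a b ha hb => simp only [map_add, ha, hb]
    | tmul a b =>
      rw [Algebra.TensorProduct.lmul'_apply_tmul, show a ⊗ₜ[Γ(Y, V)] b = (a ⊗ₜ 1) * (1 ⊗ₜ b) from by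
        rw [Algebra.TensorProduct.tmul_mul_tmul, mul_one, one_mul], map_mul, map_mul, map_mul, hl, hr]
      exact congrArg₂ (· * ·) (diagonal_appLE_retraction f _ (pullback.diagonal_fst f) U inf_le_left a)
        (diagonal_appLE_retraction f _ (pullback.diagonal_snd f) U inf_le_right b)
  let ι : Γ(I, W) →ₗ[Γ(pullback f f, W)] Γ(pullback f f, W) :=
    { toFun := fun t => (ClSub.idealModι Δ.ker).app W t
      map_add' := fun a b => map_add _ a b
      map_smul' := fun r a => Scheme.Modules.Hom.app_smul _ r a }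
  obtain ⟨E, hE, hEk⟩ := exists_cotangent_equiv ι (idealModι_injective Δ.ker W) (fun x => by
    rw [show (∃ k, ι k = x) ↔ x ∈ Δ.ker.ideal ⟨W, hW⟩ from (exists_idealMod_app Δ.ker ⟨W, hW⟩ x).symm,
      Scheme.Hom.ker_apply, RingHom.mem_ker]
    have hpre : Δ ⁻¹ᵁ W = U := le_antisymm (OmegaSh.diagonal_preimage_le f le_rfl) hle
    show X.presheaf.map (homOfLE hle).op (Δ.app W x) = 0 ↔ Δ.app W x = 0
    refine ⟨fun hx => ?_, fun hx => by rw [hx, map_zero]⟩
    have hinj : Function.Injective (X.presheaf.map (homOfLE hle).op) := by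
      have : IsIso (homOfLE hle) := ⟨homOfLE hpre.le, Subsingleton.elim _ _, Subsingleton.elim _ _⟩
      exact (ConcreteCategory.bijective_of_isIso (X.presheaf.map (homOfLE hle).op)).1
    exact hinj (by rw [hx, map_zero])) φ (RingEquiv.refl _) hq
  let F : Γ(Omega.sheaf f, U) →+ Ω[Γ(X, U)⁄Γ(Y, V)] := g.symm.toAddEquiv.toAddMonoidHom |> E.toAddMonoidHom.comp
  refine bijective_of_left_inverse_D (OmAff.toSect f V U h).hom F (fun a n => ?_)
    (E.bijective.comp g.symm.bijective) fun b => ?_
  · show E (g.symm (show Γ((Scheme.Modules.pullback Δ).obj I, U) from a • n)) = a • E (g.symm n)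
    exact (congrArg E (g.symm.map_smul a n)).trans (hE a _)
  · show F (OmAff.toSect f V U h (CommRingCat.KaehlerDifferential.d b)) = _
    rw [OmAff.toSect_d]
    show E (g.symm (pullSec Δ I hle (OmegaSh.idealLift f U b))) = _
    rw [← hg, LinearEquiv.symm_apply_apply]
    have hι : φ.symm (ι (OmegaSh.idealLift f U b)) = 1 ⊗ₜ b - b ⊗ₜ 1 := by
      rw [RingEquiv.symm_apply_eq, map_sub, hl, hr]
      exact OmegaSh.ι_idealLift f U b
    rw [hEk _ (hι ▸ KaehlerDifferential.one_smul_sub_smul_one_mem_ideal Γ(Y, V) b), KaehlerDifferential.D_apply]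
    show (KaehlerDifferential.ideal Γ(Y, V) Γ(X, U)).toCotangent _ = _
    congr 1
    exact Subtype.ext hι

/-- Transport of a bijection out of differentials along isomorphisms of rings. -/
theorem bijective_transport {A B A' B' N : Type u} [CommRing A] [CommRing B] [CommRing A'] [CommRing B']
    [Algebra A B] [Algebra A' B'] [AddCommGroup N] [Module B' N] (qA : A' ≃+* A) (q : B' ≃+* B)
    (hq : ∀ a, q (algebraMap A' B' a) = algebraMap A B (qA a)) (T' : Ω[B'⁄A'] →ₗ[B'] N) (hT : Function.Bijective T')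
    (τ : B →+* B') (hτ : ∀ b, τ b = q.symm b)
    (S : Ω[B⁄A] →ₛₗ[τ] N)
    (hS : ∀ b, S (KaehlerDifferential.D A B b) = T' (KaehlerDifferential.D A' B' (τ b))) : Function.Bijective S := by
  letI : Module B' Ω[B⁄A] := Module.compHom _ q.toRingHom
  letI : Module A' Ω[B⁄A] := Module.compHom _ ((algebraMap A B).comp qA.toRingHom)
  haveI : IsScalarTower A' B' Ω[B⁄A] := IsScalarTower.of_algebraMap_smul fun a m => congrArg (· • m) (hq a)
  let d : Derivation A' B' Ω[B⁄A] :=
    { toFun := fun x => KaehlerDifferential.D A B (q x)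
      map_add' := fun x y => by rw [map_add, map_add]
      map_smul' := fun a x => by
        show KaehlerDifferential.D A B (q (a • x)) = algebraMap A B (qA a) • KaehlerDifferential.D A B (q x)
        rw [Algebra.smul_def, map_mul, hq, ← Algebra.smul_def, Derivation.map_smul, algebraMap_smul]
      map_one_eq_zero' := by
        show KaehlerDifferential.D A B (q 1) = 0
        rw [map_one, Derivation.map_one_eq_zero]
      leibniz' := fun x y => by
        show KaehlerDifferential.D A B (q (x * y)) = q x • KaehlerDifferential.D A B (q y) + q y • _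
        rw [map_mul, Derivation.leibniz]
        rfl }
  let T := LinearEquiv.ofBijective T' hT
  have hK : ∀ x, d.liftKaehlerDifferential (T.symm (S x)) = x := by
    intro x
    have hx : x ∈ Submodule.span B (Set.range (KaehlerDifferential.D A B)) := by
      rw [KaehlerDifferential.span_range_derivation]; trivial
    induction hx using Submodule.span_induction with
    | mem y hy =>
      obtain ⟨b, rfl⟩ := hy
      rw [hS]
      refine (congrArg d.liftKaehlerDifferential (T.symm_apply_apply (KaehlerDifferential.D A' B' (τ b)))).trans ?_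
      rw [d.liftKaehlerDifferential_comp_D]
      show KaehlerDifferential.D A B (q (τ b)) = _
      rw [hτ, RingEquiv.apply_symm_apply]
    | zero => rw [map_zero, map_zero, map_zero]
    | add y z _ _ hy hz => rw [map_add, map_add, map_add, hy, hz]
    | smul b y _ hy =>
      rw [LinearMap.map_smulₛₗ, T.symm.map_smul, d.liftKaehlerDifferential.map_smul, hy]
      show q (τ b) • y = _
      rw [hτ, RingEquiv.apply_symm_apply]
  refine ⟨fun x y hxy => by rw [← hK x, hxy, hK], fun m => ?_⟩
  obtain ⟨ω, rfl⟩ := hT.2 m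
  have hω : ω ∈ Submodule.span B' (Set.range (KaehlerDifferential.D A' B')) := by
    rw [KaehlerDifferential.span_range_derivation]; trivial
  induction hω using Submodule.span_induction with
  | mem y hy =>
    obtain ⟨b, rfl⟩ := hy
    exact ⟨KaehlerDifferential.D A B (q b), by rw [hS, hτ, RingEquiv.symm_apply_apply]⟩
  | zero => exact ⟨0, by rw [map_zero, map_zero]⟩
  | add y z _ _ hy hz =>
    obtain ⟨a, ha⟩ := hy
    obtain ⟨b, hb⟩ := hz
    exact ⟨a + b, by rw [map_add, map_add, ha, hb]⟩
  | smul c y _ hy =>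
    obtain ⟨a, ha⟩ := hy
    exact ⟨q c • a, by rw [LinearMap.map_smulₛₗ, ha, map_smul, hτ, RingEquiv.symm_apply_apply]⟩

/-- Global sections of the differentials of an affine morphism. -/
theorem toSpec_bijective (A B : Type u) [CommRing A] [CommRing B] [Algebra A B] :
    Function.Bijective (OmAff.toSpec A B) := by
  let f := Spec.map (CommRingCat.ofHom (algebraMap A B))
  let ψ := f.appLE ⊤ ⊤ le_top
  have hψ : ∀ a, ψ (OmAff.toΓ A a) = OmAff.toΓ B (algebraMap A B a) := by
    intro a
    refine Eq.trans ?_ (OmAff.appTop_toΓ A B a)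
    exact congr($(Scheme.Hom.appLE_eq_app f (U := ⊤)) (OmAff.toΓ A a))
  exact @bijective_transport A B Γ(Spec (CommRingCat.of A), ⊤) Γ(Spec (CommRingCat.of B), ⊤) Γ(Omega.sheaf f, ⊤)
    _ _ _ _ _ ψ.hom.toAlgebra _ _ (Scheme.ΓSpecIso (CommRingCat.of A)).commRingCatIsoToRingEquiv
    (Scheme.ΓSpecIso (CommRingCat.of B)).commRingCatIsoToRingEquiv
    (fun a => by
      obtain ⟨a, rfl⟩ := (Scheme.ΓSpecIso (CommRingCat.of A)).commRingCatIsoToRingEquiv.symm.surjective a
      rw [RingEquiv.apply_symm_apply]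
      exact ((congrArg _ (hψ a)).trans (RingEquiv.apply_symm_apply _ _)))
    (OmAff.toSect f ⊤ ⊤ le_top).hom
    (toSect_bijective f (isAffineOpen_top _) (isAffineOpen_top _) le_top)
    (OmAff.toΓ B) (fun b => rfl) (OmAff.toSpec A B)
    (fun b => (OmAff.toSpec_D A B b).trans (OmAff.toSect_d f ⊤ ⊤ le_top _).symm)

end Groth.Agent.ModStalk
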