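import Groth.Agent.ModStalk.OmegaSect

/-! The derivation into the sheaf of differentials is universal. -/

set_option autoImplicit false
set_option linter.style.haveILetI false
universe u

open CategoryTheory CategoryTheory.Limits AlgebraicGeometry Opposite TopologicalSpace
open scoped TensorProduct

namespace Groth.Agent.ModStalk

variable {X Y : Scheme.{u}} (f : X ⟶ Y)

/-- The affine opens of the source that lie over an affine open of the base. -/
abbrev GoodOpen : Type u := {U : X.Opens // IsAffineOpen U ∧ ∃ V : Y.Opens, IsAffineOpen V ∧ U ≤ f ⁻¹ᵁ V}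

theorem isBasis_goodOpen : Opens.IsBasis (Set.range fun U : GoodOpen f => U.1) := by
  rw [Opens.isBasis_iff_nbhd]
  intro U x hx
  obtain ⟨_, ⟨V, hV, rfl⟩, hxV, -⟩ := Y.isBasis_affineOpens.exists_subset_of_mem_open (Set.mem_univ (f x)) isOpen_univ
  obtain ⟨_, ⟨W, hW, rfl⟩, hxW, hWle⟩ :=
    X.isBasis_affineOpens.exists_subset_of_mem_open (show x ∈ U ⊓ f ⁻¹ᵁ V from ⟨hx, hxV⟩) (U ⊓ f ⁻¹ᵁ V).2
  exact ⟨W, ⟨⟨W, hW, V, hV, fun z hz => (hWle hz).2⟩, rfl⟩, hxW, fun z hz => (hWle hz).1⟩

variable [QuasiSeparated f]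

theorem span_dSect (W : GoodOpen f) :
    Submodule.span Γ(X, W.1) (Set.range (OmegaSh.dSect f W.1) : Set Γ(Omega.sheaf f, W.1)) = ⊤ := by
  obtain ⟨W, hW, V, hV, hle⟩ := W
  letI := (f.appLE V W hle).hom.toAlgebra
  let T : Ω[Γ(X, W)⁄Γ(Y, V)] →ₗ[Γ(X, W)] Γ(Omega.sheaf f, W) := (OmAff.toSect f V W hle).hom
  refine eq_top_iff.mpr fun m _ => ?_
  obtain ⟨ω, rfl⟩ := (toSect_bijective f hV hW hle).2 m
  have hω : ω ∈ Submodule.span Γ(X, W) (Set.range (KaehlerDifferential.D Γ(Y, V) Γ(X, W))) := by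
    rw [KaehlerDifferential.span_range_derivation]; trivial
  have hmem : T ω ∈ Submodule.map T (Submodule.span Γ(X, W)
      (Set.range (KaehlerDifferential.D Γ(Y, V) Γ(X, W)))) := Submodule.mem_map_of_mem hω
  rw [Submodule.map_span, ← Set.range_comp] at hmem
  refine Submodule.span_mono ?_ hmem
  rintro _ ⟨b, rfl⟩
  exact ⟨b, (OmAff.toSect_d f V W hle b).symm⟩

theorem exists_lift (F : X.Modules) (D : OmegaSh.Der f F) (W : GoodOpen f) :
    ∃ α : Γ(Omega.sheaf f, W.1) →ₗ[Γ(X, W.1)] Γ(F, W.1), ∀ s, α (OmegaSh.dSect f W.1 s) = D.app W.1 s := by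
  obtain ⟨W, hW, V, hV, hle⟩ := W
  let M : ModuleCat Γ(X, W) := OmAff.sectMod F W
  let d : M.Derivation (f.appLE V W hle) :=
    ModuleCat.Derivation.mk (fun b => D.app W b) (fun a b => map_add _ a b) (fun a b => D.d_mul a b) (fun c => by
      rw [Scheme.Hom.appLE]
      change D.app W (X.presheaf.map (homOfLE hle).op (f.app V c)) = 0
      refine (D.d_map (homOfLE hle).op (f.app V c)).trans ?_
      refine (congrArg _ (D.d_app c)).trans ?_
      exact map_zero _)
  let T := LinearEquiv.ofBijective (OmAff.toSect f V W hle).hom (toSect_bijective f hV hW hle)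
  refine ⟨d.desc.hom ∘ₗ T.symm.toLinearMap, fun s => ?_⟩
  show d.desc.hom (T.symm (OmegaSh.dSect f W s)) = D.app W s
  rw [show OmegaSh.dSect f W s = T (CommRingCat.KaehlerDifferential.d s) from (OmAff.toSect_d f V W hle s).symm]
  rw [LinearEquiv.symm_apply_apply]
  exact d.desc_d s

theorem isUniversal_dOmega : OmegaSh.IsUniversal (OmegaSh.dOmega f) := by
  intro F D
  choose α hα using exists_lift f F D
  let N := Omega.sheaf f
  have hcompat : ∀ (W W' : GoodOpen f) (h : W'.1 ≤ W.1) (m : Γ(N, W.1)),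
      α W' (N.presheaf.map (homOfLE h).op m) = F.presheaf.map (homOfLE h).op (α W m) := by
    intro W W' h m
    have hm : m ∈ Submodule.span Γ(X, W.1) (Set.range (OmegaSh.dSect f W.1) : Set Γ(N, W.1)) := by
      rw [span_dSect]; trivial
    induction hm using Submodule.span_induction with
    | mem x hx =>
      obtain ⟨s, rfl⟩ := hx
      rw [hα]
      refine Eq.trans ?_ (D.d_map (homOfLE h).op s)
      refine Eq.trans ?_ (hα W' _)
      exact congrArg _ (OmegaSh.dSect_map f h s).symm
    | zero => rw [map_zero, map_zero, map_zero, map_zero]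
    | add a b _ _ ha hb => rw [map_add, map_add, map_add, map_add, ha, hb]
    | smul r a _ ha => rw [Scheme.Modules.map_smul, map_smul, ha, map_smul, Scheme.Modules.map_smul]
  let B : GoodOpen f → X.Opens := fun U => U.1
  let φ₀ : (inducedFunctor B).op ⋙ N.presheaf ⟶ (inducedFunctor B).op ⋙ F.presheaf :=
    { app := fun W => AddCommGrpCat.ofHom (α W.unop).toAddMonoidHom
      naturality := fun W W' i => by
        ext m
        exact hcompat W.unop W'.unop i.unop.hom.le m }
  let φ : N.presheaf ⟶ F.presheaf :=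
    TopCat.Sheaf.restrictHomEquivHom (B := B) N.presheaf ⟨F.presheaf, F.isSheaf⟩ (isBasis_goodOpen f) φ₀
  have hφB : ∀ (W : GoodOpen f) (m : Γ(N, W.1)), φ.app (op W.1) m = α W m := fun W m =>
    ConcreteCategory.congr_hom (TopCat.Sheaf.extend_hom_app (B := B) N.presheaf ⟨F.presheaf, F.isSheaf⟩
      (isBasis_goodOpen f) φ₀ W) m
  have hnat : ∀ {U : X.Opens} (W : GoodOpen f) (h : W.1 ≤ U) (m : Γ(N, U)),
      F.presheaf.map (homOfLE h).op (φ.app (op U) m) = α W (N.presheaf.map (homOfLE h).op m) := fun W h m =>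
    ((ConcreteCategory.congr_hom (φ.naturality (homOfLE h).op) m).symm).trans (hφB W _)
  have hext : ∀ {U : X.Opens} (a b : Γ(F, U)), (∀ (W : GoodOpen f) (h : W.1 ≤ U),
      F.presheaf.map (homOfLE h).op a = F.presheaf.map (homOfLE h).op b) → a = b := by
    intro U a b h
    refine eq_of_germ_eq _ _ _ fun x hx => ?_
    obtain ⟨_, ⟨W, rfl⟩, hxW, hW⟩ := Opens.isBasis_iff_nbhd.mp (isBasis_goodOpen f) hx
    rw [← TopCat.Presheaf.germ_res_apply _ (homOfLE hW) x hxW a,
      ← TopCat.Presheaf.germ_res_apply _ (homOfLE hW) x hxW b, h W hW]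
  have hlin : ∀ (U : X.Opens) (r : Γ(X, U)) (m : Γ(N, U)), φ.app (op U) (r • m) = r • φ.app (op U) m := by
    intro U r m
    refine hext _ _ fun W h => ?_
    rw [hnat, Scheme.Modules.map_smul, map_smul, Scheme.Modules.map_smul, hnat]
  let a : N ⟶ F := ⟨PresheafOfModules.homMk φ fun U r m => hlin U.unop r m⟩
  refine ⟨a, ?_, fun b hb => ?_⟩
  · refine PresheafOfModules.Derivation.ext ?_
    funext U
    ext s
    refine hext (U := U.unop) _ (D.app U.unop s) fun W h => ?_
    show F.presheaf.map (homOfLE h).op (φ.app (op U.unop) (OmegaSh.dSect f U.unop s)) = _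
    rw [hnat]
    refine (congrArg _ (OmegaSh.dSect_map f h s).symm).trans ?_
    rw [hα]
    exact D.d_map (homOfLE h).op s
  · refine Scheme.Modules.hom_ext _ _ fun U => ?_
    ext m
    refine hext _ _ fun W h => ?_
    show F.presheaf.map (homOfLE h).op (b.app U m) = F.presheaf.map (homOfLE h).op (φ.app (op U) m)
    rw [hnat]
    refine ((ConcreteCategory.congr_hom ((Scheme.Modules.Hom.mapPresheaf b).naturality (homOfLE h).op) m).symm).trans ?_
    have hm : ∀ y ∈ Submodule.span Γ(X, W.1) (Set.range (OmegaSh.dSect f W.1) : Set Γ(N, W.1)),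
        b.app W.1 y = α W y := by
      intro y hy
      induction hy using Submodule.span_induction with
      | mem x hx =>
        obtain ⟨s, rfl⟩ := hx
        rw [hα]
        exact PresheafOfModules.Derivation.congr_d hb (X := op W.1) s
      | zero => rw [map_zero, map_zero]
      | add x y _ _ hx hy => rw [map_add, map_add, hx, hy]
      | smul r x _ hx => rw [Scheme.Modules.Hom.app_smul, map_smul, hx]
    exact hm _ (by rw [span_dSect]; trivial)

end Groth.Agent.ModStalk
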