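import Groth.Agent.ModStalk.NbhdFinite
import Groth.Agent.ModStalk.FPSections
import Groth.Agent.ModStalk.FiniteCover
import Groth.Agent.S5959
import Mathlib.RingTheory.Finiteness.ModuleFinitePresentation

/-! Finiteness of the sheaves of principal parts. -/

set_option autoImplicit false
set_option linter.style.haveILetI false
universe u

open CategoryTheory CategoryTheory.Limits AlgebraicGeometry TopologicalSpace Opposite

namespace Groth.Agent.ModStalk

variable {X S : Scheme.{u}} (f : X ⟶ S) (n : ℕ) (F : X.Modules)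

theorem finite_sections_PMod [LocallyOfFiniteType f] [F.IsQuasicoherent]
    [SheafOfModules.IsFiniteType (R := X.ringCatSheaf) F] {U : X.Opens} (hU : IsAffineOpen U) :
    Module.Finite Γ(X, U) Γ(PrinPart.PMod f n F, U) := by
  let p := PrinPart.pr1 f n
  let G := (Scheme.Modules.pullback (PrinPart.pr2 f n)).obj F
  haveI : G.IsQuasicoherent := isQuasicoherent_pullback _ _
  haveI : SheafOfModules.IsFiniteType (R := (PrinPart.nbhd f n).ringCatSheaf) G := isFiniteType_pullback _ _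
  haveI := isFinite_pr1 f n
  haveI := finite_sections (M := G) (hU.preimage p)
  letI : Algebra Γ(X, U) Γ(PrinPart.nbhd f n, p ⁻¹ᵁ U) := (p.app U).hom.toAlgebra
  haveI : Module.Finite Γ(X, U) Γ(PrinPart.nbhd f n, p ⁻¹ᵁ U) := IsFinite.finite_app p U hU
  letI : Module Γ(X, U) Γ(G, p ⁻¹ᵁ U) := Module.compHom _ (p.app U).hom
  haveI : IsScalarTower Γ(X, U) Γ(PrinPart.nbhd f n, p ⁻¹ᵁ U) Γ(G, p ⁻¹ᵁ U) :=
    IsScalarTower.of_algebraMap_smul fun _ _ => rfl
  exact Module.Finite.trans (R := Γ(X, U)) Γ(PrinPart.nbhd f n, p ⁻¹ᵁ U) Γ(G, p ⁻¹ᵁ U)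

theorem finitePresentation_sections_PMod [LocallyOfFinitePresentation f]
    [SheafOfModules.IsFinitePresentation (R := X.ringCatSheaf) F] {U : X.Opens} (hU : IsAffineOpen U) :
    Module.FinitePresentation Γ(X, U) Γ(PrinPart.PMod f n F, U) := by
  let p := PrinPart.pr1 f n
  let G := (Scheme.Modules.pullback (PrinPart.pr2 f n)).obj F
  haveI : SheafOfModules.IsFinitePresentation (R := (PrinPart.nbhd f n).ringCatSheaf) G :=
    isFinitePresentation_pullback _ _
  haveI := isFinite_pr1 f n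
  haveI := locallyOfFinitePresentation_pr1 f n
  haveI := finitePresentation_sections G (hU.preimage p)
  letI : Algebra Γ(X, U) Γ(PrinPart.nbhd f n, p ⁻¹ᵁ U) := (p.app U).hom.toAlgebra
  haveI : Module.Finite Γ(X, U) Γ(PrinPart.nbhd f n, p ⁻¹ᵁ U) := IsFinite.finite_app p U hU
  haveI : Algebra.FinitePresentation Γ(X, U) Γ(PrinPart.nbhd f n, p ⁻¹ᵁ U) := by
    have h : (p.app U).hom.FinitePresentation := by
      rw [← Scheme.Hom.appLE_eq_app]
      exact p.finitePresentation_appLE hU (hU.preimage p) le_rfl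
    exact h
  haveI : Module.FinitePresentation Γ(X, U) Γ(PrinPart.nbhd f n, p ⁻¹ᵁ U) :=
    Module.FinitePresentation.of_finite_of_finitePresentation _ _
  letI : Module Γ(X, U) Γ(G, p ⁻¹ᵁ U) := Module.compHom _ (p.app U).hom
  haveI : IsScalarTower Γ(X, U) Γ(PrinPart.nbhd f n, p ⁻¹ᵁ U) Γ(G, p ⁻¹ᵁ U) :=
    IsScalarTower.of_algebraMap_smul fun _ _ => rfl
  exact Module.FinitePresentation.trans (R := Γ(X, U)) (M := Γ(G, p ⁻¹ᵁ U)) Γ(PrinPart.nbhd f n, p ⁻¹ᵁ U)

theorem exists_affine_nhd (x : X) : ∃ U : X.Opens, IsAffineOpen U ∧ x ∈ U ∧ True := by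
  obtain ⟨_, ⟨U, hU, rfl⟩, hxU, -⟩ := X.isBasis_affineOpens.exists_subset_of_mem_open (Set.mem_univ x) isOpen_univ
  exact ⟨U, hU, hxU, trivial⟩

end Groth.Agent.ModStalk
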