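import Groth.Agent.ModStalk.OmegaSect
import Groth.Agent.ModStalk.DiffOne
import Groth.Agent.ModStalk.PullbackSections
import Groth.Prelude.Def_OmegaPn
import Mathlib.RingTheory.Kaehler.Basic

/-! Sections of the principal parts over affine opens: `(B ⊗ B) / I^(n+1)`. -/

set_option autoImplicit false
set_option linter.style.haveILetI false
universe u

open CategoryTheory CategoryTheory.Limits AlgebraicGeometry Opposite TopologicalSpace
open scoped TensorProduct

namespace Groth.Agent.ModStalk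

variable {X S : Scheme.{u}} (f : X ⟶ S)

theorem le_coborderRange_of_affine {V : S.Opens} (hV : IsAffineOpen V) {U : X.Opens} (hU : IsAffineOpen U)
    (h : U ≤ f ⁻¹ᵁ V) : OmegaSh.diagNbhd f U ≤ (pullback.diagonal f).coborderRange := by
  let Δ := pullback.diagonal f
  let W := OmegaSh.diagNbhd f U
  haveI : IsAffine _ := hV
  haveI : IsAffine _ := hU
  have hpre : Δ ⁻¹ᵁ W = U := le_antisymm (OmegaSh.diagonal_preimage_le f le_rfl) (OmegaSh.le_preimage_diagNbhd f U)
  have hsurj : Function.Surjective (Δ.appLE W U hpre.ge) := fun a =>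
    ⟨(pullback.fst f f).appLE U W inf_le_left a,
      diagonal_appLE_retraction f _ (pullback.diagonal_fst f) U inf_le_left a⟩
  haveI : IsAffine _ := isAffineOpen_diagNbhd f hV hU h
  haveI : IsClosedImmersion (Δ ∣_ W) := by
    haveI : IsAffine (Δ ⁻¹ᵁ W : Scheme.{u}) := by rw [hpre]; exact hU
    refine IsClosedImmersion.of_surjective_of_isAffine _ ?_
    rw [morphismRestrict_appTop]
    have h2 : Function.Surjective (Δ.app (W.ι ''ᵁ ⊤)) := by
      have key : ∀ W' : (pullback f f).Opens, W' = W → Function.Surjective (Δ.app W') := by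
        rintro W' rfl a
        obtain ⟨b, hb⟩ := hsurj (X.presheaf.map (homOfLE hpre.ge).op a)
        haveI : IsIso (homOfLE hpre.ge) := ⟨homOfLE hpre.le, Subsingleton.elim _ _, Subsingleton.elim _ _⟩
        exact ⟨b, (ConcreteCategory.bijective_of_isIso (X.presheaf.map (homOfLE hpre.ge).op)).1 hb⟩
      exact key _ W.ι_image_top
    exact (ConcreteCategory.bijective_of_isIso (X.presheaf.map (eqToHom (image_morphismRestrict_preimage Δ W ⊤)).op)).2.comp h2
  have hcl : IsClosed ((Subtype.val : ↥W → (pullback f f : Scheme.{u})) ⁻¹' Set.range Δ) := by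
    have := (Δ ∣_ W).isClosedEmbedding.isClosed_range
    rw [morphismRestrict_base] at this
    exact (Set.range_restrictPreimage (W : Set (pullback f f : Scheme.{u})) (Δ : X → _)) ▸ this
  intro y hy
  show y ∈ coborder (Set.range Δ)
  simp only [coborder, Set.mem_compl_iff]
  rintro ⟨hy1, hy2⟩
  refine hy2 ?_
  have hopen : IsOpen (W : Set (pullback f f : Scheme.{u})) := W.2
  obtain ⟨F, hF, hFW⟩ := isClosed_induced_iff.mp hcl
  have hsub : Set.range Δ ∩ W ⊆ F := fun z hz => (Set.ext_iff.mp hFW ⟨z, hz.2⟩).mpr hz.1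
  have hyF : y ∈ F := hF.closure_subset_iff.mpr hsub
    (by rw [Set.inter_comm]; exact hopen.inter_closure ⟨hy, hy1⟩)
  exact (Set.ext_iff.mp hFW ⟨y, hy⟩).mp hyF

/-- The map `a ⊗ b ↦ a • dⁿ b` onto the sections of the principal parts, with its kernel. -/
theorem exists_principalPartsEquiv (n : ℕ) {V : S.Opens} (hV : IsAffineOpen V) {U : X.Opens}
    (hU : IsAffineOpen U) (h : U ≤ f ⁻¹ᵁ V) :
    letI := (f.appLE V U h).hom.toAlgebra
    ∃ ψ : (Γ(X, U) ⊗[Γ(S, V)] Γ(X, U)) →+ Γ(PrinPart.P f n, U),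
      Function.Surjective ψ ∧
      ψ.ker = (KaehlerDifferential.ideal Γ(S, V) Γ(X, U) ^ (n + 1)).toAddSubgroup ∧
      (∀ a b, ψ (a ⊗ₜ b) = a • PrinPart.dn f n U b) := by
  letI := (f.appLE V U h).hom.toAlgebra
  let Δ := pullback.diagonal f
  let W := OmegaSh.diagNbhd f U
  let C := Δ.coborderRange
  let W' : (C : Scheme.{u}).Opens := C.ι ⁻¹ᵁ W
  have hW : IsAffineOpen W := isAffineOpen_diagNbhd f hV hU h
  have hWC : W ≤ C.ι.opensRange := by
    rw [Scheme.Opens.opensRange_ι]; exact le_coborderRange_of_affine f hV hU h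
  have hW' : IsAffineOpen W' := hW.preimage_of_isOpenImmersion _ hWC
  let ι := PrinPart.infNbhdι (PrinPart.diagCl f) n
  let T := PrinPart.pr1 f n ⁻¹ᵁ U
  have hT : T = ι ⁻¹ᵁ W' := by
    refine le_antisymm (fun z hz => ⟨hz, ?_⟩) fun z hz => hz.1
    exact (PrinPart.preimage_pr1 f n U).le hz
  haveI : IsClosedImmersion ι := inferInstanceAs (IsClosedImmersion (Scheme.IdealSheafData.subschemeι _))
  have hTaff : IsAffineOpen T := hT ▸ hW'.preimage ι
  -- the quotient map on sections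
  let σ : Γ(pullback f f, W) →+* Γ(PrinPart.nbhd f n, T) :=
    ((C.ι.app W ≫ ι.app W' ≫ (PrinPart.nbhd f n).presheaf.map (homOfLE hT.le).op)).hom
  haveI : IsIso (homOfLE hT.le) := ⟨homOfLE hT.ge, Subsingleton.elim _ _, Subsingleton.elim _ _⟩
  have hres := ConcreteCategory.bijective_of_isIso ((PrinPart.nbhd f n).presheaf.map (homOfLE hT.le).op)
  haveI : IsIso (C.ι.app W) := C.ι.isIso_app W hWC
  have hιW := ConcreteCategory.bijective_of_isIso (C.ι.app W)
  have hσ : Function.Surjective σ := by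
    intro t
    obtain ⟨t1, rfl⟩ := hres.2 t
    obtain ⟨t2, rfl⟩ := Scheme.IdealSheafData.subschemeι_app_surjective _ ⟨W', hW'⟩ t1
    obtain ⟨t3, rfl⟩ := hιW.2 t2
    exact ⟨t3, rfl⟩
  haveI : QuasiCompact (PrinPart.diagCl f) := inferInstance
  let J : Ideal Γ(pullback f f, W) := RingHom.ker (Δ.appLE W U (OmegaSh.le_preimage_diagNbhd f U)).hom
  have hJ : ∀ x, x ∈ J ↔ (PrinPart.diagCl f).app W' (C.ι.app W x) = 0 := by
    intro x
    have hpre : PrinPart.diagCl f ⁻¹ᵁ W' = U := by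
      show PrinPart.diagCl f ⁻¹ᵁ (C.ι ⁻¹ᵁ W) = U
      rw [← Scheme.Hom.comp_preimage, (pullback.diagonal f).liftCoborder_ι]
      exact le_antisymm (OmegaSh.diagonal_preimage_le f le_rfl) (OmegaSh.le_preimage_diagNbhd f U)
    haveI : IsIso (homOfLE hpre.ge) := ⟨homOfLE hpre.le, Subsingleton.elim _ _, Subsingleton.elim _ _⟩
    have e : Δ.appLE W U (OmegaSh.le_preimage_diagNbhd f U) x =
        X.presheaf.map (homOfLE hpre.ge).op ((PrinPart.diagCl f).app W' (C.ι.app W x)) := by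
      show _ = (C.ι.app W ≫ (PrinPart.diagCl f).app W' ≫ X.presheaf.map (homOfLE hpre.ge).op) x
      rw [show (PrinPart.diagCl f).app W' ≫ X.presheaf.map (homOfLE hpre.ge).op =
        (PrinPart.diagCl f).appLE W' U hpre.ge from rfl, Scheme.Hom.app_eq_appLE, Scheme.Hom.appLE_comp_appLE]
      congr 3
      exact ((pullback.diagonal f).liftCoborder_ι).symm
    rw [RingHom.mem_ker]
    show Δ.appLE W U _ x = 0 ↔ _
    rw [e]
    exact map_eq_zero_iff _ (ConcreteCategory.bijective_of_isIso (X.presheaf.map (homOfLE hpre.ge).op)).1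
  have hσker : RingHom.ker σ = J ^ (n + 1) := by
    ext x
    have h1 : x ∈ RingHom.ker σ ↔ C.ι.app W x ∈ ((PrinPart.diagCl f).ker ^ (n + 1)).ideal ⟨W', hW'⟩ := by
      rw [← Scheme.IdealSheafData.ker_subschemeι_app, RingHom.mem_ker, RingHom.mem_ker]
      exact map_eq_zero_iff _ hres.1
    let e := (asIso (C.ι.app W)).commRingCatIsoToRingEquiv
    have hJe : J = ((PrinPart.diagCl f).ker.ideal ⟨W', hW'⟩).comap e.toRingHom := by
      ext y
      rw [Ideal.mem_comap, hJ y, Scheme.Hom.ker_apply, RingHom.mem_ker]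
      rfl
    rw [h1, Scheme.IdealSheafData.ideal_pow, Pi.pow_apply, hJe]
    rw [show ((PrinPart.diagCl f).ker.ideal ⟨W', hW'⟩).comap e.toRingHom =
      ((PrinPart.diagCl f).ker.ideal ⟨W', hW'⟩).map e.symm.toRingHom from (Ideal.map_symm e).symm,
      ← Ideal.map_pow]
    refine Iff.trans ?_ (Ideal.mem_map_iff_of_surjective (e.symm.toRingHom) e.symm.surjective).symm
    exact ⟨fun hx => ⟨e x, hx, e.symm_apply_apply x⟩, fun ⟨y, hy, hyx⟩ => by
      rw [← hyx]; show e (e.symm y) ∈ _; rw [e.apply_symm_apply]; exact hy⟩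
  -- sections of the pullback of the structure sheaf
  let N := (Scheme.Modules.pullback (PrinPart.pr2 f n)).obj (Coh.structureModule X)
  have hT2 : T ≤ PrinPart.pr2 f n ⁻¹ᵁ U := (PrinPart.preimage_pr1 f n U).le
  haveI : (Coh.structureModule X).IsQuasicoherent := inferInstance
  obtain ⟨g, hg⟩ := exists_sectionsEquiv (PrinPart.pr2 f n) (Coh.structureModule X) hU hTaff hT2
  letI := ((PrinPart.pr2 f n).appLE U T hT2).hom.toAlgebra
  let e1 : Γ(N, T) := pullSec (PrinPart.pr2 f n) (Coh.structureModule X) hT2 (OmegaSh.strSect X U 1)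
  have hfree : Function.Bijective fun c : Γ(PrinPart.nbhd f n, T) => (c • e1 : Γ(N, T)) := by
    let sE : Γ(X, U) ≃ₗ[Γ(X, U)] Γ(Coh.structureModule X, U) :=
      { toFun := fun a => OmegaSh.strSect X U a, invFun := fun a => OmegaSh.fnSect X U a
        left_inv := fun _ => rfl, right_inv := fun _ => rfl
        map_add' := fun _ _ => rfl, map_smul' := fun _ _ => rfl }
    let E := ((TensorProduct.AlgebraTensorModule.rid Γ(X, U) Γ(PrinPart.nbhd f n, T) Γ(PrinPart.nbhd f n, T)).symm.trans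
      (TensorProduct.AlgebraTensorModule.congr (LinearEquiv.refl Γ(PrinPart.nbhd f n, T) Γ(PrinPart.nbhd f n, T)) sE)).trans g
    convert E.bijective using 1
    funext c
    show c • e1 = g (c ⊗ₜ OmegaSh.strSect X U 1)
    rw [show (c ⊗ₜ[Γ(X, U)] OmegaSh.strSect X U 1) = c • ((1 : Γ(PrinPart.nbhd f n, T)) ⊗ₜ[Γ(X, U)] OmegaSh.strSect X U 1) from by
      rw [TensorProduct.smul_tmul', smul_eq_mul, mul_one], map_smul, hg]
  -- the tensor product
  let eW := ((CommRingCat.isPushout_tensorProduct Γ(S, V) Γ(X, U) Γ(X, U)).isoIsPushout _ _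
    (isPushout_diagNbhd f hV hU h))
  let φ : (Γ(X, U) ⊗[Γ(S, V)] Γ(X, U)) ≃+* Γ(pullback f f, W) := eW.commRingCatIsoToRingEquiv
  have hl : ∀ a : Γ(X, U), φ (a ⊗ₜ 1) = (pullback.fst f f).appLE U W inf_le_left a := fun a =>
    ConcreteCategory.congr_hom (IsPushout.inl_isoIsPushout_hom _ _
      (CommRingCat.isPushout_tensorProduct Γ(S, V) Γ(X, U) Γ(X, U)) (isPushout_diagNbhd f hV hU h)) a
  have hr : ∀ a : Γ(X, U), φ (1 ⊗ₜ a) = (pullback.snd f f).appLE U W inf_le_right a := fun a =>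
    ConcreteCategory.congr_hom (IsPushout.inr_isoIsPushout_hom _ _
      (CommRingCat.isPushout_tensorProduct Γ(S, V) Γ(X, U) Γ(X, U)) (isPushout_diagNbhd f hV hU h)) a
  have hμ : ∀ t, Δ.appLE W U (OmegaSh.le_preimage_diagNbhd f U) (φ t) =
      Algebra.TensorProduct.lmul' (S := Γ(X, U)) Γ(S, V) t := by
    intro t
    induction t using TensorProduct.induction_on with
    | zero => simp
    | add a b ha hb => simp only [map_add, ha, hb]
    | tmul a b =>
      rw [Algebra.TensorProduct.lmul'_apply_tmul, show a ⊗ₜ[Γ(S, V)] b = (a ⊗ₜ 1) * (1 ⊗ₜ b) from by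
        rw [Algebra.TensorProduct.tmul_mul_tmul, mul_one, one_mul], map_mul, map_mul, hl, hr]
      exact congrArg₂ (· * ·) (diagonal_appLE_retraction f _ (pullback.diagonal_fst f) U inf_le_left a)
        (diagonal_appLE_retraction f _ (pullback.diagonal_snd f) U inf_le_right b)
  let ψ : (Γ(X, U) ⊗[Γ(S, V)] Γ(X, U)) →+ Γ(PrinPart.P f n, U) :=
    { toFun := fun t => (show Γ(N, T) from σ (φ t) • e1)
      map_zero' := by show σ (φ 0) • e1 = 0; rw [map_zero, map_zero, zero_smul]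
      map_add' := fun a b => by show σ (φ (a + b)) • e1 = σ (φ a) • e1 + σ (φ b) • e1; rw [map_add, map_add, add_smul] }
  refine ⟨ψ, fun m => ?_, ?_, fun a b => ?_⟩
  · obtain ⟨c, hc⟩ := hfree.2 (show Γ(N, T) from m)
    obtain ⟨t, rfl⟩ := hσ c
    obtain ⟨t, rfl⟩ := φ.surjective t
    exact ⟨t, hc⟩
  · ext t
    have h0 : ψ t = 0 ↔ σ (φ t) = 0 := by
      refine ⟨fun h' => hfree.1 (h'.trans (zero_smul _ e1).symm), fun h' => ?_⟩
      show σ (φ t) • e1 = 0
      rw [h', zero_smul]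
    rw [AddMonoidHom.mem_ker, h0, ← RingHom.mem_ker, hσker, Submodule.mem_toAddSubgroup]
    have hJφ : J = (KaehlerDifferential.ideal Γ(S, V) Γ(X, U)).map φ.toRingHom := by
      ext y
      rw [RingHom.mem_ker, Ideal.mem_map_iff_of_surjective φ.toRingHom φ.surjective]
      refine ⟨fun hy => ⟨φ.symm y, ?_, φ.apply_symm_apply y⟩, ?_⟩
      · show Algebra.TensorProduct.lmul' (S := Γ(X, U)) Γ(S, V) (φ.symm y) = 0
        rw [← hμ, φ.apply_symm_apply]
        exact hy
      · rintro ⟨s, hs, rfl⟩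
        exact (hμ s).trans hs
    rw [hJφ, ← Ideal.map_pow, Ideal.mem_map_iff_of_surjective φ.toRingHom φ.surjective]
    exact ⟨fun ⟨s, hs, hst⟩ => φ.injective hst ▸ hs, fun ht => ⟨t, ht, rfl⟩⟩
  · show σ (φ (a ⊗ₜ b)) • e1 = (show Γ(N, T) from a • PrinPart.dn f n U b)
    have hσp : ∀ (p : pullback f f ⟶ X) (h' : W ≤ p ⁻¹ᵁ U) (e : T ≤ (PrinPart.nbhdι f n ≫ p) ⁻¹ᵁ U) (c : Γ(X, U)),
        σ (p.appLE U W h' c) = (PrinPart.nbhdι f n ≫ p).appLE U T e c := by
      intro p h' e c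
      show (p.appLE U W h' ≫ C.ι.app W ≫ ι.app W' ≫ (PrinPart.nbhd f n).presheaf.map (homOfLE hT.le).op) c = _
      rw [show ι.app W' ≫ (PrinPart.nbhd f n).presheaf.map (homOfLE hT.le).op = ι.appLE W' T hT.le from rfl,
        Scheme.Hom.app_eq_appLE C.ι, Scheme.Hom.appLE_comp_appLE, Scheme.Hom.appLE_comp_appLE]
      rfl
    rw [show a ⊗ₜ[Γ(S, V)] b = (a ⊗ₜ 1) * (1 ⊗ₜ b) from by
        rw [Algebra.TensorProduct.tmul_mul_tmul, mul_one, one_mul], map_mul, map_mul, hl, hr,
      hσp _ inf_le_left le_rfl, hσp _ inf_le_right hT2, mul_smul]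
    have h1 : (PrinPart.pr1 f n).appLE U T le_rfl a = (PrinPart.pr1 f n).app U a := by
      rw [Scheme.Hom.app_eq_appLE]
    show (PrinPart.pr1 f n).appLE U T le_rfl a • ((PrinPart.pr2 f n).appLE U T hT2 b • e1) =
      (PrinPart.pr1 f n).app U a • (show Γ(N, T) from PrinPart.dn f n U b)
    rw [h1]
    congr 1
    show _ = pullSec (PrinPart.pr2 f n) (Coh.structureModule X) hT2 (OmegaSh.strSect X U b)
    rw [← pullSec_smul]
    congr 1
    exact mul_one b

end Groth.Agent.ModStalk
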