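import Groth.Agent.ModStalk.QCoh
import Mathlib.AlgebraicGeometry.Morphisms.Finite
import Mathlib.AlgebraicGeometry.Morphisms.QuasiFinite
import Mathlib.AlgebraicGeometry.Morphisms.UniversallyClosed
import Mathlib.RingTheory.Ideal.GoingUp
import Mathlib.RingTheory.Ideal.MinimalPrime.Localization

/-! Weakly associated points of direct images. -/

set_option autoImplicit false
universe u

open CategoryTheory CategoryTheory.Limits AlgebraicGeometry Opposite TopologicalSpace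

namespace Groth.Agent.ModStalk

variable {X Y : Scheme.{u}}

theorem primeIdeal_le_of_specializes {U : X.Opens} (hU : IsAffineOpen U) {x y : U} (h : y.1 ⤳ x.1) :
    (hU.primeIdealOf y).asIdeal ≤ (hU.primeIdealOf x).asIdeal := by
  intro c hc
  by_contra hcx
  exact (germ_mem_primeIdeal_iff hU y c).mpr
    (h.mem_open (X.basicOpen c).isOpen ((germ_mem_primeIdeal_iff hU x c).mp hcx)) hc

theorem eq_of_primeIdeal_eq {U : X.Opens} (hU : IsAffineOpen U) {x y : U}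
    (h : (hU.primeIdealOf y).asIdeal = (hU.primeIdealOf x).asIdeal) : y.1 = x.1 := by
  rw [← hU.fromSpec_primeIdealOf x, ← hU.fromSpec_primeIdealOf y, PrimeSpectrum.ext h]

theorem ann_le_of_germ_ne_zero (M : X.Modules) {U : X.Opens} (hU : IsAffineOpen U) (x : U) (s : Γ(M, U))
    (h : M.presheaf.germ U x.1 x.2 s ≠ 0) {c : Γ(X, U)} (hc : c • s = 0) :
    c ∈ (hU.primeIdealOf x).asIdeal := by
  by_contra hcx
  refine h (((Scheme.mem_basicOpen _ _ _ x.2).mp ((germ_mem_primeIdeal_iff hU x c).mp hcx)).smul_eq_zero.mp ?_)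
  rw [← germ_smul, hc, map_zero]

theorem isOpen_germ_eq_zero (M : X.Modules) {U : X.Opens} (s : Γ(M, U)) :
    IsOpen {x : X | ∃ hx : x ∈ U, M.presheaf.germ U x hx s = 0} := by
  rw [isOpen_iff_forall_mem_open]
  rintro x ⟨hx, h⟩
  obtain ⟨W, hxW, i, j, hW⟩ := M.presheaf.germ_eq x hx hx s 0 (h.trans (map_zero _).symm)
  refine ⟨W, fun z hz => ⟨leOfHom i hz, ?_⟩, W.isOpen, hxW⟩
  rw [← M.presheaf.germ_res_apply i z hz s, hW, map_zero, map_zero]

theorem germ_eq_zero_of_specializes (M : X.Modules) {U : X.Opens} (s : Γ(M, U)) {x y : X} (h : y ⤳ x)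
    (hx : x ∈ U) (hy : y ∈ U) (h0 : M.presheaf.germ U x hx s = 0) : M.presheaf.germ U y hy s = 0 :=
  (h.mem_open (isOpen_germ_eq_zero M s) ⟨hx, h0⟩).2

/-- Weakly associated points through sections on an affine neighbourhood. -/
theorem isWeakAssPoint_iff_affine (M : X.Modules) [M.IsQuasicoherent] {U : X.Opens} (hU : IsAffineOpen U)
    (x : X) (hx : x ∈ U) :
    Curv2.IsWeakAssPoint M x ↔ ∃ s : Γ(M, U), M.presheaf.germ U x hx s ≠ 0 ∧
      ∀ (y : X) (hy : y ∈ U), y ⤳ x → y ≠ x → M.presheaf.germ U y hy s = 0 := by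
  constructor
  · rintro ⟨m, hm⟩
    obtain ⟨c, s, hc, hs⟩ := exists_smul_eq_germ M hU x hx m
    have hu := (Scheme.mem_basicOpen _ _ _ hx).mp hc
    refine ⟨s, fun h0 => ?_, fun y hy hyx hne => ?_⟩
    · have hm0 : m = 0 := hu.smul_eq_zero.mp (hs.trans h0)
      subst hm0
      refine (IsLocalRing.maximalIdeal.isMaximal (X.presheaf.stalk x)).ne_top ?_
      rw [← hm]
      convert Ideal.radical_top (R := X.presheaf.stalk x)
      ext a; simp
    · have hlt : ¬ (hU.primeIdealOf ⟨x, hx⟩).asIdeal ≤ (hU.primeIdealOf ⟨y, hy⟩).asIdeal := fun h =>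
        hne (eq_of_primeIdeal_eq hU (le_antisymm (primeIdeal_le_of_specializes hU (x := ⟨x, hx⟩) (y := ⟨y, hy⟩) hyx) h))
      obtain ⟨g, hg, hgy⟩ := SetLike.not_le_iff_exists.mp hlt
      have hgx : X.presheaf.germ U x hx g ∈ IsLocalRing.maximalIdeal (X.presheaf.stalk x) := by
        rw [IsLocalRing.mem_maximalIdeal, mem_nonunits_iff, ← Scheme.mem_basicOpen _ _ _ hx]
        exact fun h => (germ_mem_primeIdeal_iff hU ⟨x, hx⟩ g).mpr h hg
      rw [← hm] at hgx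
      obtain ⟨n, hn⟩ := hgx
      have h1 : M.presheaf.germ U x hx (g ^ n • s) = 0 := by
        rw [germ_smul, map_pow, ← hs, smul_comm, show X.presheaf.germ U x hx g ^ n • m = 0 from hn, smul_zero]
      obtain ⟨d, hd, hds⟩ := exists_smul_eq_zero_of_germ M hU x hx _ h1
      have h2 : M.presheaf.germ U y hy (d • g ^ n • s) = 0 := by rw [hds, map_zero]
      rw [germ_smul, germ_smul, map_pow] at h2
      exact ((((Scheme.mem_basicOpen _ _ _ hy).mp ((germ_mem_primeIdeal_iff hU ⟨y, hy⟩ g).mp hgy)).pow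
        n).smul_eq_zero.mp (((Scheme.mem_basicOpen _ _ _ hy).mp (hyx.mem_open (X.basicOpen d).isOpen hd)).smul_eq_zero.mp h2))
  · rintro ⟨s, hs, h⟩
    obtain ⟨y, hyx, hy, hw⟩ := exists_isWeakAssPoint hU M ⟨x, hx⟩ s hs
    by_cases he : y.1 = x
    · exact he ▸ hw
    · exact absurd (h y.1 y.2 hyx he) hy

theorem germ_push_eq_zero_iff (f : X ⟶ Y) (M : X.Modules) {U : Y.Opens} (a : Γ(M, f ⁻¹ᵁ U)) (s : Y)
    (hs : s ∈ U) :
    ((Scheme.Modules.pushforward f).obj M).presheaf.germ U s hs a = 0 ↔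
      ∃ V : Y.Opens, s ∈ V ∧ ∀ (x : X) (hx : x ∈ f ⁻¹ᵁ U), f x ∈ V → M.presheaf.germ _ x hx a = 0 := by
  let a' : Γ((Scheme.Modules.pushforward f).obj M, U) := a
  constructor
  · intro h
    obtain ⟨W, hsW, i, j, hW⟩ := TopCat.Presheaf.germ_eq _ s hs hs a' 0 (h.trans (map_zero _).symm)
    refine ⟨W, hsW, fun x hx hxW => ?_⟩
    rw [map_zero] at hW
    have hW' : M.presheaf.map (homOfLE (Scheme.Hom.preimage_mono f (leOfHom i))).op a = 0 := hW
    have h1 := congrArg (M.presheaf.germ (f ⁻¹ᵁ W) x hxW) hW'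
    rw [map_zero] at h1
    erw [TopCat.Presheaf.germ_res_apply] at h1
    exact h1
  · rintro ⟨V, hsV, h⟩
    have h0 : M.presheaf.map (homOfLE (Scheme.Hom.preimage_mono f (inf_le_left : U ⊓ V ≤ U))).op a = 0 :=
      section_eq_zero M _ fun x hx => by
        rw [TopCat.Presheaf.germ_res_apply]
        exact h x hx.1 hx.2
    have h1 : ((Scheme.Modules.pushforward f).obj M).presheaf.map (homOfLE (inf_le_left : U ⊓ V ≤ U)).op a' = 0 := h0
    show ((Scheme.Modules.pushforward f).obj M).presheaf.germ U s hs a' = 0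
    rw [← TopCat.Presheaf.germ_res_apply _ (homOfLE (inf_le_left : U ⊓ V ≤ U)) s ⟨hs, hsV⟩ a', h1, map_zero]

theorem germ_push_ne_zero (f : X ⟶ Y) (M : X.Modules) {U : Y.Opens} (a : Γ(M, f ⁻¹ᵁ U)) (x : X)
    (hx : x ∈ f ⁻¹ᵁ U) (h : M.presheaf.germ _ x hx a ≠ 0) :
    ((Scheme.Modules.pushforward f).obj M).presheaf.germ U (f x) hx a ≠ 0 := fun h0 => by
  obtain ⟨V, hV, hV0⟩ := (germ_push_eq_zero_iff f M a (f x) hx).mp h0
  exact h (hV0 x hx hV)

/-- Weakly associated points of a direct image come from weakly associated points. -/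
theorem exists_weakAssPoint_of_push (f : X ⟶ Y) [QuasiCompact f] [QuasiSeparated f] (M : X.Modules)
    [M.IsQuasicoherent] (s : Y) (h : Curv2.IsWeakAssPoint ((Scheme.Modules.pushforward f).obj M) s) :
    ∃ x : X, f x = s ∧ Curv2.IsWeakAssPoint M x := by
  classical
  have hq : ((Scheme.Modules.pushforward f).obj M).IsQuasicoherent := isQuasicoherent_pushforward f M
  obtain ⟨_, ⟨U, hU, rfl⟩, hsU, -⟩ :=
    Y.isBasis_affineOpens.exists_subset_of_mem_open (Set.mem_univ s) isOpen_univ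
  obtain ⟨a, ha, hgen⟩ := (@isWeakAssPoint_iff_affine _ _ hq _ hU s hsU).mp h
  obtain ⟨S, hSW, hS⟩ := exists_finite_affine_cover (f.isCompact_preimage hU.isCompact)
  let aV : ∀ V : S, Γ(M, V.1.1) := fun V => M.presheaf.map (homOfLE (hSW V.1 V.2)).op a
  let I : ∀ V : S, Ideal Γ(Y, U) := fun V =>
    Ideal.comap (f.appLE U V.1.1 (hSW V.1 V.2)).hom (LinearMap.ker (LinearMap.toSpanSingleton _ _ (aV V)))
  have hI : Finset.univ.inf I ≤ (hU.primeIdealOf ⟨s, hsU⟩).asIdeal := by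
    intro c hc
    refine ann_le_of_germ_ne_zero _ hU ⟨s, hsU⟩ a ha ?_
    show f.app U c • (show Γ(M, f ⁻¹ᵁ U) from a) = 0
    refine section_eq_zero M _ fun x hx => ?_
    obtain ⟨V, hV, hxV⟩ := hS x hx
    have h1 : f.appLE U V.1 (hSW V hV) c • aV ⟨V, hV⟩ = 0 :=
      (Finset.inf_le (f := I) (Finset.mem_univ ⟨V, hV⟩) hc :)
    have h2 := congrArg (M.presheaf.germ V.1 x hxV) h1
    dsimp only [aV] at h2
    rw [germ_smul, map_zero, Scheme.Hom.appLE, CommRingCat.comp_apply] at h2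
    erw [TopCat.Presheaf.germ_res_apply, TopCat.Presheaf.germ_res_apply] at h2
    rw [germ_smul]
    exact h2
  obtain ⟨⟨V, hV⟩, -, hVs⟩ := (Ideal.IsPrime.inf_le' inferInstance).mp hI
  obtain ⟨p, hp, hps⟩ := Ideal.exists_minimalPrimes_le hVs
  obtain ⟨q, hq', rfl⟩ := Ideal.exists_minimalPrimes_comap_eq (f.appLE U V.1 (hSW V hV)).hom p hp
  have := hq'.isPrime
  obtain ⟨x, rfl⟩ := exists_point V.2 q
  have hx0 : M.presheaf.germ V.1 x.1 x.2 (aV ⟨V, hV⟩) ≠ 0 := fun h0 => by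
    obtain ⟨d, hd, hd0⟩ := exists_smul_eq_zero_of_germ M V.2 x.1 x.2 _ h0
    exact (germ_mem_primeIdeal_iff V.2 x d).mpr hd (hq'.1.2 (show d ∈ LinearMap.ker _ from hd0))
  have hxU : x.1 ∈ f ⁻¹ᵁ U := hSW V hV x.2
  have hxa : M.presheaf.germ _ x.1 hxU a ≠ 0 := by
    have h3 := hx0
    dsimp only [aV] at h3
    erw [TopCat.Presheaf.germ_res_apply] at h3
    exact h3
  have hcomap := IsAffineOpen.comap_primeIdealOf_appLE U hU V.1 V.2 (hSW V hV) x.2
  have hspec : f x.1 ⤳ s := specializes_of_primeIdeal_le hU (x := ⟨s, hsU⟩) (y := ⟨f x.1, hxU⟩)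
    (by rw [← hcomap]; exact hps)
  refine ⟨x.1, ?_, (isWeakAssPoint_iff_affine M V.2 x.1 x.2).mpr ⟨aV ⟨V, hV⟩, hx0, fun y hy hyx hne => ?_⟩⟩
  · by_contra hne
    exact germ_push_ne_zero f M a x.1 hxU hxa (hgen (f x.1) hxU hspec hne)
  · by_contra hy0
    refine hne (eq_of_primeIdeal_eq V.2 (x := x) (y := ⟨y, hy⟩) (le_antisymm
      (primeIdeal_le_of_specializes V.2 (x := x) (y := ⟨y, hy⟩) hyx) (hq'.2 ⟨inferInstance, fun c hc => ?_⟩
        (primeIdeal_le_of_specializes V.2 (x := x) (y := ⟨y, hy⟩) hyx))))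
    exact ann_le_of_germ_ne_zero M V.2 ⟨y, hy⟩ _ hy0 hc

/-- A criterion for the image of a point to be weakly associated to the direct image. -/
theorem isWeakAssPoint_push_of (f : X ⟶ Y) [QuasiCompact f] [QuasiSeparated f] (M : X.Modules)
    [M.IsQuasicoherent] {U : Y.Opens} (hU : IsAffineOpen U) (x : X) (hx : x ∈ f ⁻¹ᵁ U)
    (a : Γ(M, f ⁻¹ᵁ U)) (ha : M.presheaf.germ _ x hx a ≠ 0)
    (h : ∀ y ∈ U, y ⤳ f x → y ≠ f x → ∃ V : Y.Opens, y ∈ V ∧
      ∀ (z : X) (hz : z ∈ f ⁻¹ᵁ U), f z ∈ V → M.presheaf.germ _ z hz a = 0) :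
    Curv2.IsWeakAssPoint ((Scheme.Modules.pushforward f).obj M) (f x) := by
  have hq : ((Scheme.Modules.pushforward f).obj M).IsQuasicoherent := isQuasicoherent_pushforward f M
  exact (@isWeakAssPoint_iff_affine _ _ hq _ hU (f x) hx).mpr ⟨a, germ_push_ne_zero f M a x hx ha,
    fun y hy hyx hne => (germ_push_eq_zero_iff f M a y hy).mpr (h y hy hyx hne)⟩

theorem exists_nhd_of_isClosedMap (f : X ⟶ Y) (hf : IsClosedMap f) (M : X.Modules) {U : Y.Opens}
    (a : Γ(M, f ⁻¹ᵁ U)) (y : Y) (hy : y ∈ U)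
    (h : ∀ (z : X) (hz : z ∈ f ⁻¹ᵁ U), f z = y → M.presheaf.germ _ z hz a = 0) :
    ∃ V : Y.Opens, y ∈ V ∧ ∀ (z : X) (hz : z ∈ f ⁻¹ᵁ U), f z ∈ V → M.presheaf.germ _ z hz a = 0 := by
  let C : Set X := {z | ∃ hz : z ∈ f ⁻¹ᵁ U, M.presheaf.germ _ z hz a = 0}ᶜ
  refine ⟨U ⊓ ⟨(f '' C)ᶜ, (hf _ (isOpen_germ_eq_zero M a).isClosed_compl).isOpen_compl⟩, ⟨hy, ?_⟩, ?_⟩
  · rintro ⟨z, hz, rfl⟩
    exact hz ⟨hy, h z hy rfl⟩
  · intro z hz hzV
    by_contra h0
    exact hzV.2 ⟨z, fun ⟨_, h'⟩ => h0 h', rfl⟩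

theorem eq_of_specializes_of_integral (f : X ⟶ Y) [IsIntegralHom f] {x y : X} (h : x ⤳ y) (he : f x = f y) :
    x = y := by
  obtain ⟨_, ⟨U, hU, rfl⟩, hyU, -⟩ :=
    Y.isBasis_affineOpens.exists_subset_of_mem_open (Set.mem_univ (f y)) isOpen_univ
  have hy : y ∈ f ⁻¹ᵁ U := hyU
  have hx : x ∈ f ⁻¹ᵁ U := show f x ∈ U from he ▸ hyU
  have hW : IsAffineOpen (f ⁻¹ᵁ U) := hU.preimage f
  have h1 := IsAffineOpen.comap_primeIdealOf_appLE U hU _ hW le_rfl hx
  have h2 := IsAffineOpen.comap_primeIdealOf_appLE U hU _ hW le_rfl hy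
  have hle := primeIdeal_le_of_specializes hW (x := ⟨y, hy⟩) (y := ⟨x, hx⟩) h
  refine eq_of_primeIdeal_eq hW (x := ⟨y, hy⟩) (y := ⟨x, hx⟩) (by_contra fun hne => ?_)
  have heq : (⟨f x, hx⟩ : U) = ⟨f y, hy⟩ := Subtype.ext he
  rw [heq, ← h2] at h1
  have hint : (f.appLE U (f ⁻¹ᵁ U) le_rfl).hom.IsIntegral := by
    rw [Scheme.Hom.appLE_eq_app]; exact IsIntegralHom.isIntegral_app f U hU
  algebraize [(f.appLE U (f ⁻¹ᵁ U) le_rfl).hom]
  exact (Ideal.IsIntegral.comap_lt_comap (R := Γ(Y, U)) (hle.lt_of_ne hne)).ne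
    (congrArg PrimeSpectrum.asIdeal h1)

theorem exists_kill (M : X.Modules) [M.IsQuasicoherent] {U : X.Opens} (hU : IsAffineOpen U) (x : X)
    (hx : x ∈ U) (n : Γ(M, U))
    (hgen : ∀ (y : X) (hy : y ∈ U), y ⤳ x → y ≠ x → M.presheaf.germ U y hy n = 0) (g : Γ(X, U))
    (hg : g ∈ (hU.primeIdealOf ⟨x, hx⟩).asIdeal) :
    ∃ (k : ℕ) (d : Γ(X, U)), x ∈ X.basicOpen d ∧ g ^ k • d • n = 0 := by
  classical
  by_contra hcon
  push_neg at hcon
  let J : Ideal Γ(X, U) := LinearMap.ker (LinearMap.toSpanSingleton Γ(X, U) Γ(M, U) n)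
  let S : Submonoid Γ(X, U) := (hU.primeIdealOf ⟨x, hx⟩).asIdeal.primeCompl ⊔ Submonoid.powers g
  have hdisj : Disjoint (J : Set Γ(X, U)) S := Set.disjoint_left.mpr fun a ha haS => by
    obtain ⟨d, hd, _, ⟨k, rfl⟩, rfl⟩ := Submonoid.mem_sup.mp haS
    refine hcon k d ((germ_mem_primeIdeal_iff hU ⟨x, hx⟩ d).mp hd) ?_
    rw [smul_smul, mul_comm]
    exact ha
  obtain ⟨P, hP, hJP, hPS⟩ := Ideal.exists_le_prime_disjoint J S hdisj
  have hPx : P ≤ (hU.primeIdealOf ⟨x, hx⟩).asIdeal := fun a ha => by_contra fun hax =>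
    Set.disjoint_left.mp hPS ha (Submonoid.mem_sup_left hax)
  obtain ⟨y, rfl⟩ := exists_point hU P
  have hne : y.1 ≠ x := fun he => by
    refine Set.disjoint_left.mp hPS (?_ : g ∈ _) (Submonoid.mem_sup_right ⟨1, pow_one g⟩)
    have : y = ⟨x, hx⟩ := Subtype.ext he
    rw [this]; exact hg
  obtain ⟨d, hd, hd0⟩ := exists_smul_eq_zero_of_germ M hU y.1 y.2 n
    (hgen y.1 y.2 (specializes_of_primeIdeal_le hU hPx) hne)
  exact (germ_mem_primeIdeal_iff hU y d).mpr hd (hJP (show d ∈ J from hd0))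

/-- Weakly associated points map to weakly associated points along finite morphisms. -/
theorem isWeakAssPoint_push_finite (f : X ⟶ Y) [IsFinite f] (M : X.Modules) [M.IsQuasicoherent] (x : X)
    (h : Curv2.IsWeakAssPoint M x) : Curv2.IsWeakAssPoint ((Scheme.Modules.pushforward f).obj M) (f x) := by
  classical
  obtain ⟨_, ⟨U, hU, rfl⟩, hxU, -⟩ :=
    Y.isBasis_affineOpens.exists_subset_of_mem_open (Set.mem_univ (f x)) isOpen_univ
  have hxW : x ∈ f ⁻¹ᵁ U := hxU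
  have hW : IsAffineOpen (f ⁻¹ᵁ U) := hU.preimage f
  obtain ⟨n, hn, hgen⟩ := (isWeakAssPoint_iff_affine M hW x hxW).mp h
  obtain ⟨m, hm⟩ := h
  have hkill : ∀ z : X, ∀ hz : z ∈ f ⁻¹ᵁ U, f z = f x → z ≠ x →
      ∃ c : Γ(X, f ⁻¹ᵁ U), x ∈ X.basicOpen c ∧ M.presheaf.germ _ z hz (c • n) = 0 := by
    intro z hz hfz hne
    by_cases h0 : M.presheaf.germ _ z hz n = 0
    · exact ⟨1, by rw [Scheme.basicOpen_of_isUnit _ isUnit_one]; exact hxW, by rw [one_smul]; exact h0⟩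
    by_cases hxz : x ⤳ z
    · exact absurd (eq_of_specializes_of_integral f hxz hfz.symm).symm hne
    · have hle : ¬ (hW.primeIdealOf ⟨x, hxW⟩).asIdeal ≤ (hW.primeIdealOf ⟨z, hz⟩).asIdeal := fun hle =>
        hxz (specializes_of_primeIdeal_le hW hle)
      obtain ⟨g, hg, hgz⟩ := SetLike.not_le_iff_exists.mp hle
      obtain ⟨k, d, hd, hd0⟩ := exists_kill M hW x hxW n hgen g hg
      refine ⟨d, hd, ?_⟩
      have h2 : M.presheaf.germ _ z hz (g ^ k • d • n) = 0 := by rw [hd0, map_zero]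
      rw [germ_smul, map_pow] at h2
      exact ((((Scheme.mem_basicOpen _ _ _ hz).mp ((germ_mem_primeIdeal_iff hW ⟨z, hz⟩ g).mp hgz)).pow
        k).smul_eq_zero.mp h2)
  let S := (f.finite_preimage_singleton (f x)).toFinset.erase x
  have hS : ∀ z ∈ S, z ∈ f ⁻¹ᵁ U ∧ f z = f x ∧ z ≠ x := fun z hz => by
    obtain ⟨hne, hz⟩ := Finset.mem_erase.mp hz
    have he : f z = f x := (f.finite_preimage_singleton (f x)).mem_toFinset.mp hz
    exact ⟨show f z ∈ U from he ▸ hxW, he, hne⟩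
  choose c hcx hc using fun z : S => hkill z.1 (hS z.1 z.2).1 (hS z.1 z.2).2.1 (hS z.1 z.2).2.2
  let C := ∏ z, c z
  have hCx : IsUnit (X.presheaf.germ _ x hxW C) := by
    rw [map_prod, IsUnit.prod_univ_iff]
    exact fun z => (Scheme.mem_basicOpen _ _ _ hxW).mp (hcx z)
  refine isWeakAssPoint_push_of f M hU x hxW (C • n) (fun h0 => ?_) fun y hy hyx hne =>
    exists_nhd_of_isClosedMap f f.isClosedMap M _ y hy fun z hz hzy => ?_
  · rw [germ_smul] at h0
    exact hn (hCx.smul_eq_zero.mp h0)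
  · obtain ⟨z', hzz', hz'⟩ := f.isClosedMap.specializingMap (hzy ▸ hyx : f z ⤳ f x)
    have hz'U : z' ∈ f ⁻¹ᵁ U := show f z' ∈ U from hz' ▸ hxW
    by_cases hzx : z' = x
    · rw [germ_smul, hgen z hz (hzx ▸ hzz') (fun he => hne (hzy ▸ congrArg f he)), smul_zero]
    · have hmem : z' ∈ S := Finset.mem_erase.mpr
        ⟨hzx, (f.finite_preimage_singleton (f x)).mem_toFinset.mpr hz'⟩
      refine germ_eq_zero_of_specializes M _ hzz' hz'U hz ?_
      rw [germ_smul, map_prod, ← Finset.prod_erase_mul _ _ (Finset.mem_univ ⟨z', hmem⟩), mul_smul,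
        ← germ_smul, hc ⟨z', hmem⟩, smul_zero]

/-- Associated points map to associated points along integral morphisms of locally Noetherian schemes. -/
theorem isWeakAssPoint_push_integral (f : X ⟶ Y) [IsIntegralHom f] [IsLocallyNoetherian X] (M : X.Modules)
    [M.IsQuasicoherent] (x : X) (h : Curv2.IsAssPoint M x) :
    Curv2.IsWeakAssPoint ((Scheme.Modules.pushforward f).obj M) (f x) := by
  obtain ⟨_, ⟨U, hU, rfl⟩, hxU, -⟩ :=
    Y.isBasis_affineOpens.exists_subset_of_mem_open (Set.mem_univ (f x)) isOpen_univ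
  have hxW : x ∈ f ⁻¹ᵁ U := hxU
  have hW : IsAffineOpen (f ⁻¹ᵁ U) := hU.preimage f
  have : IsNoetherianRing Γ(X, f ⁻¹ᵁ U) := IsLocallyNoetherian.component_noetherian ⟨_, hW⟩
  obtain ⟨-, n, hn⟩ := primeIdealOf_mem_associatedPrimes hW M ⟨x, hxW⟩ h
  have hsupp : ∀ (z : X) (hz : z ∈ f ⁻¹ᵁ U), M.presheaf.germ _ z hz n ≠ 0 → x ⤳ z := fun z hz h0 => by
    refine specializes_of_primeIdeal_le hW (x := ⟨z, hz⟩) (y := ⟨x, hxW⟩) ?_
    rw [hn, Ideal.IsPrime.radical_le_iff inferInstance]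
    intro c hc
    exact ann_le_of_germ_ne_zero M hW ⟨z, hz⟩ n h0 (by simpa [Submodule.mem_colon_singleton] using hc)
  refine isWeakAssPoint_push_of f M hU x hxW n (fun h0 => ?_) fun y hy hyx hne =>
    exists_nhd_of_isClosedMap f f.isClosedMap M _ y hy fun z hz hzy => ?_
  · obtain ⟨d, hd, hd0⟩ := exists_smul_eq_zero_of_germ M hW x hxW n h0
    refine (germ_mem_primeIdeal_iff hW ⟨x, hxW⟩ d).mpr hd ?_
    rw [hn]
    exact Ideal.le_radical (by simpa [Submodule.mem_colon_singleton] using hd0)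
  · by_contra h0
    exact hne ((hyx.antisymm (hzy ▸ (hsupp z hz h0).map f.continuous)).eq)

end Groth.Agent.ModStalk
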