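import Groth.Agent.ModStalk.QuasiFlat
import Groth.Agent.Flat.FlatAt
import Mathlib.RingTheory.Support
import Mathlib.AlgebraicGeometry.Pullbacks
import Mathlib.AlgebraicGeometry.Morphisms.UniversallyOpen
import Mathlib.RingTheory.LocalRing.ResidueField.Basic

/-! Quasi-flat morphisms are universally generalizing. -/

set_option autoImplicit false
universe u

open CategoryTheory CategoryTheory.Limits AlgebraicGeometry TensorProduct

namespace Groth.Agent.ModStalk

theorem exists_prime_le_of_module {R R' A : Type u} [CommRing R] [CommRing R'] [CommRing A]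
    [IsLocalRing R'] [IsLocalRing A] [Algebra R R'] [Algebra R A] (M : Type u) [AddCommGroup M]
    [Module R M] [Module A M] [IsScalarTower R A M] [Module.Flat R M] [Module.Finite A M]
    [Nontrivial M] (Q : Ideal (A ⊗[R] R')) [Q.IsPrime]
    (hA : Q.comap Algebra.TensorProduct.includeLeftRingHom = IsLocalRing.maximalIdeal A)
    (hR' : Q.comap Algebra.TensorProduct.includeRight.toRingHom = IsLocalRing.maximalIdeal R')
    (p : PrimeSpectrum R') :
    ∃ q : PrimeSpectrum (A ⊗[R] R'), q.asIdeal ≤ Q ∧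
      q.asIdeal.comap Algebra.TensorProduct.includeRight.toRingHom = p.asIdeal := by
  letI : Algebra R' (A ⊗[R] R') := Algebra.TensorProduct.rightAlgebra
  let C := A ⊗[R] R'
  let M' := C ⊗[A] M
  have hflat : Module.Flat R' M' := by
    have : Algebra.IsPushout R R' A C := Algebra.IsPushout.symm inferInstance
    have h := (Algebra.IsPushout.cancelBaseChange R R' A C M).symm
    exact Module.Flat.of_linearEquiv (Algebra.IsPushout.cancelBaseChange R R' A C M)
  have hann : Module.annihilator C M' ≤ Q := by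
    intro s hs
    by_contra hsQ
    obtain ⟨l, hl⟩ : ∃ l : M →ₗ[A] Q.ResidueField, l ≠ 0 := by
      let m := IsLocalRing.maximalIdeal A
      have : Nontrivial (M ⧸ (m • ⊤ : Submodule A M)) := Submodule.Quotient.nontrivial_iff.mpr
        (Submodule.top_ne_ideal_smul_of_le_jacobson_annihilator
          (IsLocalRing.maximalIdeal_le_jacobson _)).symm
      obtain ⟨v, hv⟩ := exists_ne (0 : M ⧸ (m • ⊤ : Submodule A M))
      obtain ⟨g, hg⟩ : ∃ g : Module.Dual (A ⧸ m) (M ⧸ (m • ⊤ : Submodule A M)), g v ≠ 0 := by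
        let : Field (A ⧸ m) := Ideal.Quotient.field m
        by_contra h
        push Not at h
        exact hv ((Module.forall_dual_apply_eq_zero_iff (A ⧸ m) v).mp h)
      let ι : (A ⧸ m) →ₗ[A] Q.ResidueField :=
        Submodule.liftQ m (Algebra.linearMap A Q.ResidueField) fun a ha => by
          show algebraMap A Q.ResidueField a = 0
          rw [IsScalarTower.algebraMap_apply A C Q.ResidueField, Ideal.algebraMap_residueField_eq_zero]
          exact hA.ge ha
      refine ⟨ι ∘ₗ (g.restrictScalars A) ∘ₗ (m • ⊤ : Submodule A M).mkQ, fun h => ?_⟩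
      obtain ⟨x, rfl⟩ := Submodule.Quotient.mk_surjective _ v
      obtain ⟨a, ha⟩ := Submodule.Quotient.mk_surjective m (g (Submodule.Quotient.mk x))
      have h1 : ι (g (Submodule.Quotient.mk x)) = 0 := LinearMap.congr_fun h x
      rw [← ha] at h1
      have h2 : algebraMap A Q.ResidueField a = 0 := h1
      rw [IsScalarTower.algebraMap_apply A C Q.ResidueField, Ideal.algebraMap_residueField_eq_zero] at h2
      exact hg (by rw [← ha]; exact (Submodule.Quotient.mk_eq_zero m).mpr (hA.le h2))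
    apply hl
    ext x
    have h1 := Module.mem_annihilator.mp hs ((1 : C) ⊗ₜ[A] x)
    have h2 := congrArg (l.liftBaseChange C) h1
    rw [map_smul, map_zero, LinearMap.liftBaseChange_tmul, one_smul, Algebra.smul_def,
      mul_eq_zero] at h2
    rcases h2 with h2 | h2
    · exact absurd (Ideal.algebraMap_residueField_eq_zero.mp h2) hsQ
    · exact h2
  let N := LocalizedModule Q.primeCompl M'
  have : Nontrivial N := (Module.mem_support_iff (p := (⟨Q, inferInstance⟩ : PrimeSpectrum C))).mp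
    (Module.mem_support_iff_of_finite.mpr hann)
  have : Module.Flat R' N :=
    (Groth.Agent.Flat.FlatAt.flatAt_iff_localizedModule (R := R') (M := M') (q := Q)).mp
      (Groth.Agent.Flat.FlatAt.FlatAt.of_flat Q Ideal.IsPrime.ne_top')
  let CQ := Localization.AtPrime Q
  have : IsLocalHom (algebraMap R' CQ) := by
    constructor
    intro a ha
    by_contra hna
    have hm : a ∈ Q.comap Algebra.TensorProduct.includeRight.toRingHom := hR'.ge hna
    exact ((IsLocalization.AtPrime.to_map_mem_maximal_iff CQ Q (algebraMap R' C a)).mpr hm) ha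
  obtain ⟨P, hP⟩ := comap_surjective_of_module (R := R') (A := CQ) N p
  refine ⟨PrimeSpectrum.comap (algebraMap C CQ) P, ?_, ?_⟩
  · intro a ha
    by_contra hQ
    exact P.isPrime.ne_top (Ideal.eq_top_of_isUnit_mem _ ha
      (IsLocalization.map_units CQ (⟨a, hQ⟩ : Q.primeCompl)))
  · rw [← hP, PrimeSpectrum.comap_asIdeal, PrimeSpectrum.comap_asIdeal, Ideal.comap_comap,
      IsScalarTower.algebraMap_eq R' C CQ]
    rfl

theorem exists_chart_point {X Y X' Y' : Scheme.{u}} {f : X ⟶ Y} {g : Y' ⟶ Y} {f' : X' ⟶ Y'}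
    {g' : X' ⟶ X} (h : IsPullback g' f' f g) {R A R' : Type u} [CommRing R] [CommRing A] [CommRing R']
    [Algebra R A] [Algebra R R'] (k : Spec (.of R) ⟶ Y) [Mono k] (jA : Spec (.of A) ⟶ X)
    (jR : Spec (.of R') ⟶ Y') (hA : Spec.map (CommRingCat.ofHom (algebraMap R A)) ≫ k = jA ≫ f)
    (hR : Spec.map (CommRingCat.ofHom (algebraMap R R')) ≫ k = jR ≫ g)
    {T : Scheme.{u}} (ι : T ⟶ X') (α : T ⟶ Spec (.of A)) (β : T ⟶ Spec (.of R'))
    (hα : α ≫ jA = ι ≫ g') (hβ : β ≫ jR = ι ≫ f') :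
    ∃ (m : Spec (.of (A ⊗[R] R')) ⟶ X') (l : T ⟶ Spec (.of (A ⊗[R] R'))),
      m ≫ f' = Spec.map (CommRingCat.ofHom (R := R') (S := A ⊗[R] R') (Algebra.TensorProduct.includeRight (R := R) (A := A) (B := R') : R' →+* A ⊗[R] R')) ≫ jR ∧
      l ≫ m = ι ∧ l ≫ Spec.map (CommRingCat.ofHom Algebra.TensorProduct.includeLeftRingHom) = α ∧
      l ≫ Spec.map (CommRingCat.ofHom (R := R') (S := A ⊗[R] R') (Algebra.TensorProduct.includeRight (R := R) (A := A) (B := R') : R' →+* A ⊗[R] R')) = β := by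
  let a := Spec.map (CommRingCat.ofHom (algebraMap R A))
  let a' := Spec.map (CommRingCat.ofHom (algebraMap R R'))
  have hc : α ≫ a = β ≫ a' := by
    rw [← cancel_mono k, Category.assoc, Category.assoc, hA, hR, ← Category.assoc, ← Category.assoc, hα, hβ,
      Category.assoc, Category.assoc, h.w]
  let m₀ : pullback a a' ⟶ X' := h.lift (pullback.fst a a' ≫ jA) (pullback.snd a a' ≫ jR)
    (by rw [Category.assoc, Category.assoc, ← hA, ← hR, pullback.condition_assoc])
  let e := pullbackSpecIso R A R'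
  refine ⟨e.inv ≫ m₀, pullback.lift α β hc ≫ e.hom, ?_, ?_, ?_, ?_⟩
  · rw [Category.assoc, h.lift_snd, ← Category.assoc, pullbackSpecIso_inv_snd]
  · rw [Category.assoc, e.hom_inv_id_assoc]
    refine h.hom_ext ?_ ?_
    · rw [Category.assoc, h.lift_fst, pullback.lift_fst_assoc, hα]
    · rw [Category.assoc, h.lift_snd, pullback.lift_snd_assoc, hβ]
  · rw [← pullbackSpecIso_inv_fst, Category.assoc, e.hom_inv_id_assoc, pullback.lift_fst]
  · rw [← pullbackSpecIso_inv_snd, Category.assoc, e.hom_inv_id_assoc, pullback.lift_snd]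

theorem exists_lift_of_chart {X Y X' Y' : Scheme.{u}} {f : X ⟶ Y} {g : Y' ⟶ Y} {f' : X' ⟶ Y'}
    {g' : X' ⟶ X} (h : IsPullback g' f' f g) (R A R' : CommRingCat.{u}) [IsLocalRing A] [IsLocalRing R']
    (a : R ⟶ A) (b : R ⟶ R') (M : Type u) [AddCommGroup M] [Module A M] [Module.Finite A M] [Nontrivial M]
    (hflat : @Module.Flat R M _ _ (Module.compHom M a.hom))
    (k : Spec R ⟶ Y) [Mono k] (jA : Spec A ⟶ X) (jR : Spec R' ⟶ Y')
    (hA : Spec.map a ≫ k = jA ≫ f) (hR : Spec.map b ≫ k = jR ≫ g)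
    (K : CommRingCat.{u}) [IsLocalRing K] (ι : Spec K ⟶ X') (α : A ⟶ K) (β : R' ⟶ K) [IsLocalHom α.hom]
    [IsLocalHom β.hom] (hα : Spec.map α ≫ jA = ι ≫ g') (hβ : Spec.map β ≫ jR = ι ≫ f')
    (p : PrimeSpectrum R') : ∃ z : X', z ⤳ ι (IsLocalRing.closedPoint K) ∧ f' z = jR p := by
  letI : Algebra R A := a.hom.toAlgebra
  letI : Algebra R R' := b.hom.toAlgebra
  letI : Module R M := Module.compHom M a.hom
  have : IsScalarTower R A M := IsScalarTower.of_algebraMap_smul fun _ _ => rfl
  have : Module.Flat R M := hflat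
  obtain ⟨m, l, hm, hlm, hlA, hlR⟩ := exists_chart_point h (R := R) (A := A) (R' := R') k jA jR hA hR
    ι (Spec.map α) (Spec.map β) hα hβ
  let c : Spec K := IsLocalRing.closedPoint K
  have h1 := congrArg (fun φ : Spec K ⟶ Spec A => φ c) hlA
  have h2 := congrArg (fun φ : Spec K ⟶ Spec R' => φ c) hlR
  simp only [Scheme.Hom.comp_apply] at h1 h2
  have : (l c : PrimeSpectrum (A ⊗[R] R')).asIdeal.IsPrime := (l c : PrimeSpectrum (A ⊗[R] R')).isPrime
  obtain ⟨q, hq, hqp⟩ := exists_prime_le_of_module (R := R) (A := A) (R' := R') M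
    (l c : PrimeSpectrum _).asIdeal
    ((congrArg PrimeSpectrum.asIdeal h1).trans
      (congrArg PrimeSpectrum.asIdeal (IsLocalRing.comap_closedPoint α.hom)))
    ((congrArg PrimeSpectrum.asIdeal h2).trans
      (congrArg PrimeSpectrum.asIdeal (IsLocalRing.comap_closedPoint β.hom))) p
  refine ⟨m q, ?_, ?_⟩
  · have h3 : m (l c) = ι (IsLocalRing.closedPoint K) := congrArg (fun φ : Spec K ⟶ X' => φ c) hlm
    exact h3 ▸ ((PrimeSpectrum.le_iff_specializes q (l c)).mp hq).map m.continuous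
  · exact (congrArg (fun φ : Spec (.of (A ⊗[R] R')) ⟶ Y' => φ q) hm).trans
      (congrArg (fun z : PrimeSpectrum R' => jR z) (PrimeSpectrum.ext hqp))

theorem generalizingMap_of_isPullback {X Y X' Y' : Scheme.{u}} {f : X ⟶ Y} {g : Y' ⟶ Y}
    {f' : X' ⟶ Y'} {g' : X' ⟶ X} (h : IsPullback g' f' f g) (hf : FDesc.IsQuasiFlat f) :
    GeneralizingMap f'.base := by
  obtain ⟨M, ⟨_, hft⟩, hflat, hne⟩ := hf
  intro x' y₀ (hy₀ : y₀ ⤳ f' x')
  have hs : f (g' x') = g (f' x') := by
    rw [← Scheme.Hom.comp_apply, h.w, Scheme.Hom.comp_apply]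
  obtain ⟨p, rfl⟩ : y₀ ∈ Set.range (Y'.fromSpecStalk (f' x')) := by
    rw [Scheme.range_fromSpecStalk]; exact hy₀
  have := hne (g' x')
  have hb : Spec.map (Y.presheaf.stalkSpecializes (specializes_of_eq hs.symm) ≫ g.stalkMap (f' x')) ≫
      Y.fromSpecStalk (f (g' x')) = Y'.fromSpecStalk (f' x') ≫ g := by
    rw [Spec.map_comp, Category.assoc, Scheme.SpecMap_stalkSpecializes_fromSpecStalk,
      Scheme.SpecMap_stalkMap_fromSpecStalk]
  have hk : ∀ {W : Scheme.{u}} (φ : X' ⟶ W), Spec.map (φ.stalkMap x' ≫ X'.residue x') ≫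
      W.fromSpecStalk (φ x') = X'.fromSpecResidueField x' ≫ φ := fun φ => by
    rw [Spec.map_comp, Category.assoc, Scheme.SpecMap_stalkMap_fromSpecStalk,
      Scheme.fromSpecResidueField, Category.assoc]
  have : ∀ {W : Scheme.{u}} (φ : X' ⟶ W), IsLocalHom (φ.stalkMap x' ≫ X'.residue x').hom := fun φ => by
    rw [CommRingCat.hom_comp]
    have : IsLocalHom (X'.residue x').hom := inferInstanceAs (IsLocalHom (IsLocalRing.residue (X'.presheaf.stalk x')))
    exact RingHom.isLocalHom_comp _ _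
  obtain ⟨z, hz, hfz⟩ := exists_lift_of_chart h _ _ _ (f.stalkMap (g' x'))
    (Y.presheaf.stalkSpecializes (specializes_of_eq hs.symm) ≫ g.stalkMap (f' x'))
    (M.presheaf.stalk (g' x')) (hflat (g' x')) (Y.fromSpecStalk (f (g' x'))) (X.fromSpecStalk (g' x'))
    (Y'.fromSpecStalk (f' x')) (Scheme.SpecMap_stalkMap_fromSpecStalk f) hb _
    (X'.fromSpecResidueField x') (g'.stalkMap x' ≫ X'.residue x') (f'.stalkMap x' ≫ X'.residue x')
    (hk g') (hk f') p
  replace hz : z ⤳ x' := (Scheme.fromSpecResidueField_apply x' _) ▸ hz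
  exact ⟨z, hz, hfz⟩

theorem universallyOpen_of_isQuasiFlat {X Y : Scheme.{u}} (f : X ⟶ Y) (hf : FDesc.IsQuasiFlat f)
    [LocallyOfFinitePresentation f] : UniversallyOpen f := by
  constructor
  intro X' Y' g' g f' h
  have : LocallyOfFinitePresentation f' := MorphismProperty.of_isPullback h.flip ‹_›
  exact isOpenMap_of_generalizingMap f' (generalizingMap_of_isPullback h.flip hf)

end Groth.Agent.ModStalk
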