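import Groth.Agent.HopfRep.GeomReduced
import Mathlib.AlgebraicGeometry.Morphisms.Smooth
import Mathlib.AlgebraicGeometry.Geometrically.Reduced
import Mathlib.RingTheory.RegularLocalRing.Defs

/-! Schemes smooth over a field: regular local rings, geometrically reduced. -/

set_option autoImplicit false
set_option linter.style.haveILetI false
universe u

open CategoryTheory CategoryTheory.Limits AlgebraicGeometry

namespace Groth.Agent.ModStalk

variable {k : Type u} [Field k] {X : Scheme.{u}} (f : X ⟶ Spec (CommRingCat.of k)) [Smooth f]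

include f in
theorem exists_algebra_smooth_of_affine (U : X.Opens) (hU : IsAffineOpen U) :
    ∃ _ : Algebra k Γ(X, U), Algebra.Smooth k Γ(X, U) := by
  let ρ : k →+* Γ(X, U) :=
    ((Scheme.ΓSpecIso (CommRingCat.of k)).inv ≫ f.appLE ⊤ U le_top).hom
  refine ⟨ρ.toAlgebra, ?_⟩
  letI := ρ.toAlgebra
  rw [← RingHom.smooth_algebraMap]
  have h := Scheme.Hom.smooth_appLE f (isAffineOpen_top _) hU (le_top : U ≤ f ⁻¹ᵁ ⊤)
  exact (RingHom.Smooth.respectsIso.cancel_left_isIso _ _).mpr h

include f in
theorem isRegularLocalRing_stalk_of_smooth (x : X) : IsRegularLocalRing (X.presheaf.stalk x) := by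
  obtain ⟨_, ⟨U, hU, rfl⟩, hxU, -⟩ :=
    X.isBasis_affineOpens.exists_subset_of_mem_open (Set.mem_univ x) isOpen_univ
  obtain ⟨_, _⟩ := exists_algebra_smooth_of_affine f U hU
  let P := (hU.primeIdealOf ⟨x, hxU⟩).asIdeal
  haveI : Algebra.FormallySmooth Γ(X, U) (Localization.AtPrime P) := .of_isLocalization P.primeCompl
  haveI : Algebra.IsSmoothAt k P := Algebra.FormallySmooth.comp k Γ(X, U) (Localization.AtPrime P)
  haveI := Groth.Agent.HopfRep.HopfDim.isRegularLocalRing_of_isSmoothAt (k := k) P
  letI := TopCat.Presheaf.algebra_section_stalk X.presheaf (⟨x, hxU⟩ : U)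
  haveI := hU.isLocalization_stalk ⟨x, hxU⟩
  exact IsRegularLocalRing.of_ringEquiv
    (IsLocalization.algEquiv P.primeCompl (Localization.AtPrime P) (X.presheaf.stalk x)).toRingEquiv

include f in
theorem isReduced_of_smooth_field : IsReduced X := by
  have : ∀ x : X, _root_.IsReduced (X.presheaf.stalk x) := by
    intro x
    haveI := isRegularLocalRing_stalk_of_smooth f x
    haveI : IsDomain (X.presheaf.stalk x) := Groth.Agent.RegularLocal.Basic.isDomain_aux _ _ rfl
    infer_instance
  exact isReduced_of_isReduced_stalk X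

theorem geometricallyReduced_of_smooth_field : GeometricallyReduced f := by
  refine ⟨fun K _ y W fst snd h => ?_⟩
  haveI : Smooth snd := MorphismProperty.of_isPullback (P := @Smooth) h ‹_›
  exact isReduced_of_smooth_field snd

end Groth.Agent.ModStalk
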