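import Groth.Agent.Lead.CyclicCover.Regular
import Mathlib.RingTheory.Unramified.LocalStructure
import Mathlib.RingTheory.RegularLocalRing.Polynomial
import Mathlib.RingTheory.Smooth.Locus

/-! Smooth algebras over regular rings are regular. -/

set_option autoImplicit false
set_option linter.style.haveILetI false
universe u

namespace Groth.Agent.ModStalk

theorem isRegularLocalRing_of_smooth (A : Type u) {B : Type u} [CommRing A] [CommRing B] [Algebra A B]
    [IsRegularRing A] [Algebra.Smooth A B] (Q : Ideal B) [Q.IsPrime] :
    IsRegularLocalRing (Localization.AtPrime Q) := by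
  haveI : Algebra.FormallySmooth B (Localization.AtPrime Q) := .of_isLocalization Q.primeCompl
  haveI : Algebra.IsSmoothAt A Q := Algebra.FormallySmooth.comp A B (Localization.AtPrime Q)
  obtain ⟨f, hf, n, alg, tower, het⟩ := Algebra.IsSmoothAt.exists_isStandardEtale_mvPolynomial (R := A) (p := Q)
  let S := Localization.Away f
  have hdisj : Disjoint (Submonoid.powers f : Set B) (Q : Set B) := by
    rw [Set.disjoint_left]
    rintro _ ⟨i, rfl⟩ hQ
    exact hf (Ideal.IsPrime.mem_of_pow_mem ‹_› _ hQ)
  let Q' : Ideal S := Q.map (algebraMap B S)
  haveI : Q'.IsPrime := IsLocalization.isPrime_of_isPrime_disjoint (Submonoid.powers f) S Q ‹_› hdisj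
  have hcom : Q'.comap (algebraMap B S) = Q := IsLocalization.under_map_of_isPrime_disjoint (Submonoid.powers f) S ‹_› hdisj
  haveI : IsLocalization.AtPrime (Localization.AtPrime Q') Q := by
    convert IsLocalization.isLocalization_isLocalization_atPrime_isLocalization (Submonoid.powers f)
      (Localization.AtPrime Q') Q'
    exact hcom.symm
  haveI := Groth.Agent.Lead.CyclicCover.regular_localization_of_etale (A := MvPolynomial (Fin n) A) Q'
  exact IsRegularLocalRing.of_ringEquiv
    (IsLocalization.algEquiv Q.primeCompl (Localization.AtPrime Q') (Localization.AtPrime Q)).toRingEquiv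

theorem isRegularRing_of_smooth (A B : Type u) [CommRing A] [CommRing B] [Algebra A B]
    [IsRegularRing A] [Algebra.Smooth A B] : IsRegularRing B := by
  haveI : IsNoetherianRing B := Algebra.FiniteType.isNoetherianRing A B
  rw [isRegularRing_iff]
  exact fun Q _ => isRegularLocalRing_of_smooth A Q

end Groth.Agent.ModStalk
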